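import Cfsg.Agent.Lib.Max.FmE
import Cfsg.Agent.Lib.Max.Nd7

/-!
# Stabilisers of orthogonal frames in dimension five
-/

namespace Cfsg.Lib.Forms

open Module Form Submodule Finset

variable {F V : Type*} [Field F] [AddCommGroup V] [Module F V]

namespace Form

variable {D : Form (quadKind F) V} {X : Subgroup D.isom} {ι : Type*}

namespace IsFrame

variable {e : ι → V} {c : F} (h : D.IsFrame e c) [DecidableEq ι] [Fintype ι]
variable [Fintype F] [FiniteDimensional F V] (hp : (Fintype.card F).Prime) (hD : D.Nondeg)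
  (hr : ∀ i, D.refl (e i) ∈ X)
  (hs : ∀ i j k l, i ≠ j → k ≠ l → D.refl (e i - e j) * D.refl (e k - e l) ∈ X)
include h hr hs hp

variable (h3 : (3 : F) ≠ 0) (hn : 5 ≤ Fintype.card ι) (hw : ¬ D.Win X c)
include h3 hn hw

theorem angle5 {x : V} (hx : D.Q x = c) (rx : D.refl x ∈ X) {i : ι} (h1 : x ≠ e i) (h4 : x ≠ -e i) :
    Fm.Al ((D.B (e i) x / c) ^ 2) := by
  have h2 := h.two
  have hc := h.ne
  have k : ∀ x, D.Q x = c → D.refl x ∈ X → x ≠ e i → D.B (e i) x ≠ 2 * c := fun x hx rx h1 h5 =>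
    hw (h.win_of_deg hp hr (u := x - e i) (z := e i) (by rw [quad_Q_sub, quad_symm, h5, hx, h.Q]; ring)
      (sub_ne_zero.2 h1) (by simp [quad_symm D x, h5, h.B_eq]) (h.Q i ▸ hc) one_ne_zero (by simpa) (hr i))
  have h5 : (D.B (e i) x / c) ^ 2 ≠ 4 := fun h5 => by
    rcases sq_eq_sq_iff_eq_or_eq_neg.1 (h5.trans (by norm_num : (4 : F) = 2 ^ 2)) with h6 | h6
    · exact k x hx rx h1 (by field_simp at h6; linear_combination h6)
    · exact k (-x) (by simpa) (by rwa [refl_neg]) (fun h => h4 (by simp [← h]))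
        (by field_simp at h6; rw [map_neg]; linear_combination -h6)
  by_cases h6 : D.B (e i) x = 0
  · exact ⟨Or.inl (by simp [h6]), h5⟩
  obtain ⟨j, ji, h7⟩ := h.exists_ne hx h5
  obtain ⟨w, hw'⟩ : ∃ w, x = (D.B (e i) x / (2 * c)) • e i + (D.B (e j) x / (2 * c)) • e j + w :=
    ⟨_, (add_sub_cancel _ _).symm⟩
  have w1 : D.B (e i) w = 0 := by simpa [h.B_eq, ji.symm, h2, hc] using congrArg (D.B (e i)) hw'
  have w2 : D.B (e j) w = 0 := by simpa [h.B_eq, ji, h2, hc] using congrArg (D.B (e j)) hw'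
  have w3 : D.B w x = 2 * D.Q w := by
    rw [hw']; simp [D.eq_zero_symm w1, D.eq_zero_symm w2, quad_B_self]
  by_cases h8 : D.Q w = 0
  swap
  · have := mem_span_triple.2 ⟨_, _, 1, (by rw [one_smul]; exact hw'.symm :
      (D.B (e i) x / (2 * c)) • e i + (D.B (e j) x / (2 * c)) • e j + (1 : F) • w = x)⟩
    exact (win_or_angle hp h2 h3 hc (h.Q i) (h.Q j) h8 (h.B _ _ ji.symm) w1 w2 (hr i) (hr j) this this hx hx
      rx rx h6 h7 h6 (by simp [w3, h2, h8]) rfl h5).resolve_left hw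
  by_cases h9 : w = 0
  swap
  · refine (hw (h.win_of_deg hp hr h8 h9 (by simp [w3, h8]) (hx ▸ hc) (s := -2) (by simpa) ?_ rx)).elim
    rw [← refl_neg]
    convert refl_map_mem (X.mul_mem (hr i) (hr j)) rx using 2
    simp only [isom_mul_apply, refl_apply, h.Q, D.B_lin, h.B _ _ ji.symm]
    generalize D.B (e i) x = a at *
    generalize D.B (e j) x = b at *
    rw [hw']
    match_scalars <;> field_simp <;> ring
  obtain ⟨k, hk⟩ := exists_not_mem {i, j} (card_le_two.trans_lt (by omega))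
  obtain ⟨l, hl⟩ := exists_not_mem {i, j, k} (card_le_three.trans_lt (by omega))
  simp only [mem_insert, mem_singleton, not_or] at hk hl
  rw [h9, add_zero] at hw'
  have h10 : (D.refl (e j - e k) * D.refl (e k - e l)).1 x =
      (D.B (e i) x / (2 * c)) • e i + (0 : F) • e j + (D.B (e j) x / (2 * c)) • e k := by
    generalize D.B (e i) x = a at *
    generalize D.B (e j) x = b at *
    simp only [hw', isom_mul_apply, refl_apply, h.Q_sub (Ne.symm hk.2), D.B_lin, h.B_eq, hk, hl, ji,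
      Ne.symm hk.2, if_true, if_false, RingHom.id_apply, Ne.symm hl.2.1, Ne.symm hl.2.2]
    match_scalars <;> field_simp <;> ring
  refine (win_or_angle hp h2 h3 hc (h.Q i) (h.Q j) (h.Q k ▸ hc) (h.B _ _ ji.symm) (h.B _ _ (Ne.symm hk.1))
    (h.B _ _ (Ne.symm hk.2)) (hr i) (hr j) (mem_span_triple.2 ⟨_, _, 0, by simpa using hw'.symm⟩)
    (mem_span_triple.2 ⟨_, _, _, h10.symm⟩) hx ((Q_isom _ _).trans hx) rx
    (refl_map_mem (hs _ _ _ _ (Ne.symm hk.2) (Ne.symm hl.2.2)) rx) h6 h7 ?_ ?_ rfl h5).resolve_left hw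
  · rw [h10]; simp [h.B_eq, Ne.symm hk.1, h2, hc, h6]
  · rw [h10]; simp [h.B_eq, hk, h2, hc, h7]

theorem two_of_ne5 {g : D.isom} (hg : g ∈ X) {i₀ i j : ι} {x : V} (hx : x = g.1 (e i₀)) (ij : i ≠ j)
    (hi : D.B (e i) x ≠ 0) (hj : D.B (e j) x ≠ 0) :
    (D.B (e i) x / c) ^ 2 = 2 ∧ ∃ k ∈ X, (D.B x (k.1 x) / c) ^ 2 = 1 := by
  classical
  have h2 := h.two
  have hc := h.ne
  have qx : D.Q x = c := by simp [hx, h.Q]
  have rx : D.refl x ∈ X := hx ▸ refl_map_mem hg (hr _)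
  have k1 : ∀ k ∈ X, ∀ a d, D.B (e a) (k.1 x) ≠ D.B (e a) x → D.B (e d) (k.1 x) ≠ -D.B (e d) x →
      Fm.Al ((D.B x (k.1 x) / c) ^ 2) := fun k hk a d h4 h5 => by
    have := h.angle5 hp hr hs h3 hn hw (x := (g⁻¹).1 (k.1 x)) (by rw [Q_isom, Q_isom, qx])
      (refl_map_mem (X.inv_mem hg) (refl_map_mem hk rx)) (i := i₀)
      (fun h6 => h4 (by rw [← isom_apply_inv g (k.1 x), h6, ← hx]))
      (fun h6 => h5 (by rw [← isom_apply_inv g (k.1 x), h6, map_neg, ← hx, map_neg]))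
    rwa [← B_isom_left, ← hx] at this
  have n : ∀ {t : F}, t ≠ 0 → -t ≠ t := fun h0 h => mul_ne_zero h2 h0 (by linear_combination -h)
  obtain ⟨γ, hγ⟩ : ∃ γ : ι → F, ∀ a, γ a = (D.B (e a) x / c) ^ 2 := ⟨_, fun _ => rfl⟩
  have k2 : ∀ (S : Finset ι) a d, a ∈ S → d ∉ S → D.B (e a) x ≠ 0 → D.B (e d) x ≠ 0 →
      Fm.Al ((2 - ∑ b ∈ S, γ b) ^ 2) := fun S a d ha hd a0 d0 => by
    obtain ⟨k, hk, h4⟩ := h.exists_flip (P := fun _ k => k ∈ X) X.one_mem (fun _ _ i h => X.mul_mem (hr i) h) S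
    convert k1 k hk a d (by rw [h4, h.B_flip, if_pos ha]; exact n a0)
      (by rw [h4, h.B_flip, if_neg hd]; exact (n d0).symm) using 2
    rw [h4, map_sub, quad_B_self, qx, map_sum, sub_div, sum_div]
    congr 1
    · field_simp
    · exact sum_congr rfl fun b _ => by rw [hγ, map_smul, quad_symm D x, smul_eq_mul]; field_simp
  have k3 : ∀ a d, a ≠ d → D.B (e a) x ≠ 0 → D.B (e d) x ≠ 0 → Fm.Al (γ a) ∧ γ a ≠ 0 := fun a d h4 a0 d0 =>
    ⟨hγ a ▸ h.angle5 hp hr hs h3 hn hw qx rx (fun h5 => d0 (by simp [h5, h.B_eq, h4.symm]))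
      (fun h5 => d0 (by simp [h5, h.B_eq, h4.symm])), by simp [hγ, a0, hc]⟩
  have k4 : ∀ a b d f, a ≠ b → a ≠ d → a ≠ f → b ≠ d → b ≠ f → d ≠ f → D.B (e a) x ≠ 0 → D.B (e b) x ≠ 0 →
      D.B (e d) x ≠ 0 → D.B (e f) x ≠ 0 → γ a = 1 := fun a b d f ab ad af bd bf df a0 b0 d0 f0 =>
    Fm.Al.triple h2 h3 (k3 a f af a0 f0).1 (k3 b f bf b0 f0).1 (k3 d f df d0 f0).1 (k3 a f af a0 f0).2
      (k3 b f bf b0 f0).2 (k3 d f df d0 f0).2
      (by simpa [ab, sub_sub] using k2 {a, b} a f (by simp) (by simp [af.symm, bf.symm]) a0 f0)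
      (by simpa [ad, sub_sub] using k2 {a, d} a f (by simp) (by simp [af.symm, df.symm]) a0 f0)
      (by simpa [bd, sub_sub] using k2 {b, d} b f (by simp) (by simp [bf.symm, df.symm]) b0 f0)
      (by simpa [ab, ad, bd, sub_sub, add_assoc] using
        k2 {a, b, d} a f (by simp) (by simp [af.symm, bf.symm, df.symm]) a0 f0)
  obtain ⟨z, w, z0, w0, zw⟩ : ∃ z w, D.B (e z) x = 0 ∧ D.B (e w) x = 0 ∧ z ≠ w := by
    by_contra H
    have h4 : #{a | D.B (e a) x = 0} ≤ 1 := card_le_one.2 fun a ha b hb => by_contra fun h5 =>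
      H ⟨a, b, by simpa using ha, by simpa using hb, h5⟩
    have h5 := card_filter_add_card_filter_not (s := univ) fun a => D.B (e a) x = 0
    rw [card_univ] at h5
    by_cases h55 : #{a | ¬ D.B (e a) x = 0} ≤ 4
    · obtain ⟨z, hz⟩ := card_pos.1 (by omega : 0 < #{a | D.B (e a) x = 0})
      have z0 : D.B (e z) x = 0 := by simpa using hz
      obtain ⟨f, hf⟩ := Function.Embedding.exists_of_card_le_finset (α := Fin 4)
        (s := {a | ¬ D.B (e a) x = 0}) (by simp only [Fintype.card_fin]; omega)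
      have h6 : ∀ a, D.B (e (f a)) x ≠ 0 := fun a => by simpa using hf ⟨a, rfl⟩
      have h7 : ∀ a b d, a ≠ b → a ≠ d → a ≠ 3 → b ≠ d → b ≠ 3 → d ≠ 3 → γ (f a) = 1 := fun a b d _ _ _ _ _ _ =>
        k4 (f a) (f b) (f d) (f 3) (by simpa) (by simpa) (by simpa) (by simpa) (by simpa) (by simpa) (h6 _) (h6 _)
          (h6 _) (h6 _)
      have g0 := h7 0 1 2 (by decide) (by decide) (by decide) (by decide) (by decide) (by decide)
      have g1 := h7 1 0 2 (by decide) (by decide) (by decide) (by decide) (by decide) (by decide)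
      have g2 := h7 2 0 1 (by decide) (by decide) (by decide) (by decide) (by decide) (by decide)
      have g3 := (k3 (f 0) (f 1) (by simp) (h6 _) (h6 _)).1
      have a0 := h6 0
      have k5 : ∀ a, f a ≠ z := fun a h => h6 a (h ▸ z0)
      have ab : f 0 ≠ f 1 := by simp
      have ad : f 0 ≠ f 2 := by simp
      have bd : f 1 ≠ f 2 := by simp
      have az := k5 0
      have bz := k5 1
      have dz := k5 2
      rw [g0] at g3
      rw [hγ] at g0 g1 g2
      generalize f 0 = a, f 1 = b, f 2 = d at *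
      have k7 : ∀ k ∈ X, D.B (e z) (k.1 x) ≠ 0 → Fm.Al ((D.B x (k.1 x) / c) ^ 2) := fun k hk h4 =>
        k1 k hk z z (by rwa [z0]) (by rwa [z0, neg_zero])
      have s1 := k7 _ (hs _ _ _ _ az bd) (by
        simp [refl_apply, z0, h.B_eq, az.symm, bz.symm, dz.symm, ab, ad, a0, h2, hc, h.Q_sub az, bz, dz])
      have s2 := k7 _ (X.mul_mem (hr b) (X.mul_mem (hs _ _ _ _ az bd) (hr b))) (by
        simp [refl_apply, z0, h.B_eq, az.symm, bz.symm, dz.symm, ab, ad, a0, h2, hc, h.Q_sub az, bz, dz])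
      have t1 : D.B x ((D.refl (e a - e z) * D.refl (e b - e d)).1 x) / c =
          2 - (D.B (e b) x / c - D.B (e d) x / c) ^ 2 / 2 - (D.B (e a) x / c) ^ 2 / 2 := by
        simp only [isom_mul_apply, refl_apply, D.B_lin, quad_B_self, qx, quad_symm D x, z0, h.B_eq, ab, ad,
          bz.symm, dz.symm, if_false, h.Q_sub az, h.Q_sub bd, RingHom.id_apply]
        field_simp; ring
      have t2 : D.B x ((D.refl (e b) * (D.refl (e a - e z) * D.refl (e b - e d) * D.refl (e b))).1 x) / c =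
          2 - (D.B (e b) x / c + D.B (e d) x / c) ^ 2 / 2 - (D.B (e a) x / c) ^ 2 / 2 := by
        simp only [isom_mul_apply, refl_apply, D.B_lin, quad_B_self, qx, quad_symm D x, z0, h.B_eq, ab, ad,
          bz.symm, dz.symm, if_false, h.Q_sub az, h.Q_sub bd, RingHom.id_apply, h.Q, ab.symm, bz, bd, bd.symm,
          if_true]
        field_simp; ring
      rw [t1] at s1
      rw [t2] at s2
      generalize D.B (e a) x / c = α, D.B (e b) x / c = β, D.B (e d) x / c = δ at *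
      rcases sq_eq_sq_iff_eq_or_eq_neg.1 (g1.trans g2.symm) with rfl | rfl
      · exact Fm.Al.ne_one h2 h3 g3 one_ne_zero s1 s2 (by rw [g0]; field_simp; ring)
          (by rw [g0, ← two_mul, mul_pow, g1]; field_simp; ring)
      · exact Fm.Al.ne_one h2 h3 g3 one_ne_zero s2 s1 (by rw [g0]; field_simp; ring)
          (by rw [g0, ← neg_add', ← two_mul, neg_sq, mul_pow, g2]; field_simp; ring)
    obtain ⟨f, hf⟩ := Function.Embedding.exists_of_card_le_finset (α := Fin 5)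
      (s := {a | ¬ D.B (e a) x = 0}) (by simp only [Fintype.card_fin]; omega)
    have h6 : ∀ a, D.B (e (f a)) x ≠ 0 := fun a => by simpa using hf ⟨a, rfl⟩
    have h7 : ∀ a b d, a ≠ b → a ≠ d → a ≠ 4 → b ≠ d → b ≠ 4 → d ≠ 4 → γ (f a) = 1 := fun a b d _ _ _ _ _ _ =>
      k4 (f a) (f b) (f d) (f 4) (by simpa) (by simpa) (by simpa) (by simpa) (by simpa) (by simpa) (h6 _) (h6 _)
        (h6 _) (h6 _)
    refine (k2 {f 0, f 1, f 2, f 3} (f 0) (f 4) (by simp) (by simp) (h6 _) (h6 _)).2 ?_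
    simp [h7 0 1 2, h7 1 0 2, h7 2 0 1, h7 3 0 1]
    norm_num
  have k5 : ∀ a, D.B (e a) x ≠ 0 → a ≠ z ∧ a ≠ w := fun a h4 =>
    ⟨by rintro rfl; exact h4 z0, by rintro rfl; exact h4 w0⟩
  have k6 : ∀ a, D.B (e a) x ≠ 0 → (D.refl (e a - e z) * D.refl (e z - e w)).1 x =
      x - (D.B (e a) x / (2 * c)) • (e a - e z) := fun a a0 => by
    simp [refl_apply, h.Q_sub (k5 a a0).1, z0, w0, div_eq_inv_mul]
  have k7 : ∀ k ∈ X, D.B (e z) (k.1 x) ≠ 0 → Fm.Al ((D.B x (k.1 x) / c) ^ 2) := fun k hk h4 =>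
    k1 k hk z z (by rwa [z0]) (by rwa [z0, neg_zero])
  have k8 : ∀ a, D.B (e a) x ≠ 0 → ∃ k ∈ X, Fm.Al ((D.B x (k.1 x) / c) ^ 2) ∧
      4 * (D.B x (k.1 x) / c) ^ 2 = (4 - γ a) ^ 2 := fun a a0 =>
    ⟨_, hs _ _ _ _ (k5 a a0).1 zw, k7 _ (hs _ _ _ _ (k5 a a0).1 zw) (by
      rw [k6 a a0]; simp [z0, h.B_eq, (k5 a a0).1.symm, a0, h2, hc]), by
      simp only [k6 a a0, D.B_lin, quad_B_self, qx, quad_symm D x, z0, hγ]; field_simp; ring⟩
  have k9 : ∀ a b, a ≠ b → D.B (e a) x ≠ 0 → D.B (e b) x ≠ 0 → ∃ t, Fm.Al t ∧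
      4 * t = (4 - γ a - 2 * γ b) ^ 2 := fun a b ab a0 b0 =>
    ⟨_, k7 _ (X.mul_mem (hr b) (hs _ _ _ _ (k5 a a0).1 zw)) (by
      rw [isom_mul_apply, k6 a a0]
      simp [refl_apply, z0, h.B_eq, (k5 a a0).1.symm, (k5 b b0).1.symm, a0, h2, hc]), by
      rw [isom_mul_apply, k6 a a0]
      simp only [refl_apply, D.B_lin, quad_B_self, qx, quad_symm D x, z0, hγ, h.B_eq, ab.symm, (k5 b b0).1,
        if_false, h.Q]
      field_simp; ring⟩
  obtain ⟨k, hk, s1, s2⟩ := k8 i hi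
  obtain ⟨k', -, s3, s4⟩ := k8 j hj
  obtain ⟨t, t1, t2⟩ := k9 i j ij hi hj
  obtain ⟨t', t3, t4⟩ := k9 j i ij.symm hj hi
  have h4 : γ i = 2 := Fm.Al.two h2 h3 (k3 i j ij hi hj).1 (k3 j i ij.symm hj hi).1 (k3 i j ij hi hj).2
    (k3 j i ij.symm hj hi).2 s1 s3 t1 t3 (k7 _ (hs _ _ _ _ (k5 i hi).1 (k5 j hj).2) (by
      simp [refl_apply, z0, w0, h.B_eq, (k5 i hi).1.symm, (k5 j hj).1.symm, hi, h2, hc, ij, zw, (k5 i hi).2,
        h.Q_sub (k5 i hi).1])) s2 s4 t2 t4 (by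
      simp only [isom_mul_apply, refl_apply, D.B_lin, quad_B_self, qx, quad_symm D x, z0, w0, hγ, h.B_eq, ij,
        zw, (k5 i hi).2, (k5 j hj).1.symm, if_false, h.Q_sub (k5 i hi).1, h.Q_sub (k5 j hj).2]
      field_simp; ring)
  exact ⟨hγ i ▸ h4, k, hk, mul_left_cancel₀ (mul_ne_zero h2 h2) (by rw [h4] at s2; linear_combination s2)⟩

omit h3 hw [FiniteDimensional F V] in
include hD in
theorem E_le_three5 (h3 : (3 : F) = 0) {x : V} (qx : D.Q x = c) (rx : D.refl x ∈ X) {i j : ι} (ij : i ≠ j)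
    (hi : D.B (e i) x ≠ 0) (hj : D.B (e j) x ≠ 0) : D.E ≤ X := by
  classical
  have h2 := h.two
  have hc := h.ne
  have k0 : ∀ t : F, t = 0 ∨ t = 2 ∨ t = -2 := fun t => by
    obtain ⟨n, rfl⟩ := exists_natCast_of_prime hp t
    rw [← Nat.div_add_mod n 3, Nat.cast_add, Nat.cast_mul, Nat.cast_ofNat, h3, zero_mul, zero_add]
    have := Nat.mod_lt n (by decide : 0 < 3)
    interval_cases n % 3
    exacts [Or.inl (by simp), Or.inr (Or.inr (by linear_combination h3)), Or.inr (Or.inl (by simp))]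
  obtain ⟨k, hk, h4⟩ := h.exists_flip (P := fun _ k => k ∈ X) X.one_mem (fun _ _ i h => X.mul_mem (hr i) h)
    {a | D.B (e a) x = -(2 * c)}
  have h5 : ∀ a, D.B (e a) x ≠ 0 → D.B (e a) (k.1 x) = 2 * c := fun a ha => by
    rw [h4, h.B_flip]
    split_ifs with h5
    · simpa [neg_eq_iff_eq_neg] using h5
    rcases k0 (D.B (e a) x / c) with h6 | h6 | h6 <;> field_simp at h6
    exacts [absurd (by simpa using h6) ha, by linear_combination h6,
      absurd (by simpa using (by linear_combination h6)) h5]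
  have h6 : 4 ≤ #{a | D.B (e a) x ≠ 0} := by
    have h6 : (#{a | D.B (e a) x ≠ 0} : F) = 1 := by
      rw [card_filter, Nat.cast_sum, show (1 : F) = 4 by linear_combination -h3, ← h.sum_sq qx]
      refine sum_congr rfl fun a _ => ?_
      split_ifs with h6
      · rcases k0 (D.B (e a) x / c) with h7 | h7 | h7
        exacts [absurd (by simpa [hc] using h7) h6, by rw [h7]; linear_combination -h3,
          by rw [h7]; linear_combination -h3]
      · simp [not_not.1 h6]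
    have h7 : 1 < #{a | D.B (e a) x ≠ 0} := one_lt_card.2 ⟨i, by simpa, j, by simpa, ij⟩
    by_contra
    obtain h8 | h8 : #{a | D.B (e a) x ≠ 0} = 2 ∨ #{a | D.B (e a) x ≠ 0} = 3 := by omega
    all_goals rw [h8] at h6
    exacts [one_ne_zero (by linear_combination h6 : (1 : F) = 0), h2 (by linear_combination h6)]
  obtain ⟨f, hf⟩ := Function.Embedding.exists_of_card_le_finset (α := Fin 4) h6
  replace hf : ∀ a, D.B (e (f a)) (k.1 x) = 2 * c := fun a => h5 _ (by simpa using hf ⟨a, rfl⟩)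
  have qy : D.Q (k.1 x) = c := (Q_isom _ _).trans qx
  replace rx := refl_map_mem hk rx
  generalize k.1 x = y at *
  obtain ⟨u, hu⟩ : ∃ u, u = e (f 0) + e (f 1) + e (f 2) := ⟨_, rfl⟩
  have u1 : D.Q u = 0 := by simp [hu, quad_Q_add, h.Q, h.B_eq]; linear_combination c * h3
  have u2 : ∀ l, l ≠ f 0 → l ≠ f 1 → l ≠ f 2 → D.B (e l) u = 0 := fun l h0 h1 h2 => by simp [hu, h.B_eq, *]
  let A : Submodule F V := { zSet X u u1 with
    smul_mem' := fun t z hz => smul_mem_of_prime hp (P := zSet X u u1) (by simpa using hz) one_ne_zero t }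
  have hA : ∀ {z}, z ∈ A ↔ z ∈ zSet X u u1 := Iff.rfl
  have h7 : e (f 3) ∈ A := by
    obtain ⟨k, hk, h7⟩ := h.exists_flip (P := fun _ k => k ∈ X) X.one_mem (fun _ _ i h => X.mul_mem (hr i) h)
      {f 0, f 1, f 2}
    have h8 := mem_zSet_of_refl u1 (z := y) (by simp [hu, hf]; linear_combination 2 * c * h3) (qy ▸ hc)
      (s := -2) (t := 0) (by
        convert refl_map_mem hk rx using 2
        simp [h7, hf, hu, hc]; module) (by simpa)
    have h9 := sub_mem_zSet h8 (hr (f 3)) (refl_apply_of_perp (u2 _ (by simp) (by simp) (by simp)))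
    refine (A.smul_mem_iff (s := 4 / c) (by simp [hc]; exact fun h => one_ne_zero (by linear_combination h - h3))).1 ?_
    convert hA.2 h9 using 1
    simp only [refl_apply, map_smul, hf, h.Q, qy, smul_eq_mul]
    match_scalars <;> field_simp <;> ring
  have h8 : ∀ l, l ≠ f 0 → l ≠ f 1 → l ≠ f 2 → e l ∈ A := fun l h0 h1 h8 => by
    by_cases h9 : f 3 = l
    · exact h9 ▸ h7
    have h01 : f 0 ≠ f 1 := by simp
    convert hA.2 (map_mem_zSet' h7 (hs _ _ _ _ h9 h01) (by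
      have : D.B (e (f 0) - e (f 1)) u = 0 := by simp [hu, h.B_eq]
      rw [isom_mul_apply, refl_apply_of_perp this, refl_apply_of_perp (by simp [u2 l h0 h1 h8, u2 (f 3)])])) using 1
    rw [isom_mul_apply, h.refl_sub h01, Equiv.swap_apply_of_ne_of_ne (by simp) (by simp), h.refl_sub h9,
      Equiv.swap_apply_left]
  have h9 : e (f 0) - e (f 1) ∈ A := by
    have q := h.Q_sub (i := f 0) (j := f 1) (by simp)
    refine (A.smul_mem_iff (s := (0 - -1) / D.Q (e (f 0) - e (f 1))) (by simp [q, h2, hc])).1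
      (mem_zSet_of_refl_mul u1 (by simp [hu, h.B_eq]) (by simp [q, h2, hc]) ?_)
    convert hs (f 0) (f 1) (f 1) (f 2) (by simp) (by simp) using 3
    · simp
    · rw [hu]; match_scalars <;> first | rfl | linear_combination -h3 | ring
  have u3 : D.B (e (f 0)) u = 2 * c := by simp [hu, h.B_eq]
  refine At.E_le_of_map hD (quad_at (he := u1) fun z _ hz => ?_) u1 (hr (f 0))
    (by simp [refl_apply, quad_B_self, u1, quad_symm D u (e _), u3, h.Q, hc, h2])
  have h10 : z - (D.B (e (f 2)) z / (2 * c)) • u - ((D.B (e (f 0)) z - D.B (e (f 2)) z) / (2 * c)) •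
      (e (f 0) - e (f 1)) ∈ A := h.mem_of fun l hl => h8 l (by
        rintro rfl; refine hl ?_; simp [hu, h.B_eq]; field_simp; ring) (by
        rintro rfl; refine hl ?_; simp [hu, h.B_eq] at hz ⊢; field_simp
        linear_combination hz - D.B (e (f 2)) z * h3) (by
        rintro rfl; refine hl ?_; simp [hu, h.B_eq, h2, hc])
  exact hA.1 ((A.sub_mem_iff_left (smul_mem_zSet u1 _)).1 ((A.sub_mem_iff_left (A.smul_mem _ h9)).1 h10))

omit h3 hw in
include hD in
theorem E_le5 {g : D.isom} (hg : g ∈ X) {i₀ i j : ι} (ij : i ≠ j) (hi : D.B (e i) (g.1 (e i₀)) ≠ 0)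
    (hj : D.B (e j) (g.1 (e i₀)) ≠ 0) : D.E ≤ X := by
  by_cases h3 : (3 : F) = 0
  · exact h.E_le_three5 hp hD hr hs hn h3 ((Q_isom _ _).trans (h.Q i₀)) (refl_map_mem hg (hr i₀)) ij hi hj
  refine h.E_le_of_win hD hr hs (exists_sq_ne_one h.two fun h4 => h3 ?_) (by_contra fun hw =>
    h.false_of_two h3 (h.two_of_ne5 hp hr hs h3 hn hw) hg ij hi hj)
  simpa [h4] using FiniteField.cast_card_eq_zero F

omit h3 hw hr hs hn in
include hD in
theorem E_le_of_odd5 (ho : Odd (finrank F V)) (hn : 5 ≤ finrank F V) (hc : Fintype.card ι = finrank F V)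
    (X : Subgroup D.isom) (h0 : X ≤ D.E) (h1 : D.E ⊓ D.dec (fun i => F ∙ e i) ≤ X)
    (h4 : ¬ X ≤ D.dec fun i => F ∙ e i) : D.E ≤ X := by
  have h2 := h.two
  have c0 := h.ne
  have n1 : ∀ g : D.isom, g * D.negOne = D.negOne * g := fun g => isom_ext fun x => by
    simp [isom_mul_apply]
  have n2 : ∀ g : D.isom, D.negOne * (D.negOne * g) = g := fun g => isom_ext fun x => by
    simp [isom_mul_apply]
  let Y : Subgroup D.isom :=
    { carrier := {g | g ∈ X ∨ D.negOne * g ∈ X}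
      one_mem' := Or.inl X.one_mem
      mul_mem' := by
        rintro a b (ha | ha) (hb | hb)
        · exact Or.inl (X.mul_mem ha hb)
        · exact Or.inr (by simpa [← mul_assoc, n1] using X.mul_mem ha hb)
        · exact Or.inr (by simpa [mul_assoc] using X.mul_mem ha hb)
        · exact Or.inl (by simpa [mul_assoc, ← mul_assoc a, n1, n2] using X.mul_mem ha hb)
      inv_mem' := by
        rintro a (ha | ha)
        · exact Or.inl (X.inv_mem ha)
        · exact Or.inr (by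
            simpa [n1, inv_eq_of_mul_eq_one_right (show D.negOne * D.negOne = 1 by simpa using n2 1)]
              using X.inv_mem ha) }
  obtain ⟨k, ⟨k1, k2⟩, k3⟩ := h.exists_flip
    (P := fun n k => dickson hD k = (-1) ^ n ∧ spinor hD k = chi c ^ n) (by simp) (fun n k i h1 => by
      simp [h1, dickson_refl hD (h.Q i ▸ c0), spinor_refl hD (h.Q i ▸ c0), h.Q, pow_succ']) univ
  obtain rfl : k = D.negOne := isom_ext fun x =>
    sub_eq_zero.1 (h.ext _ fun d => by rw [map_sub, k3, h.B_flip]; simp)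
  rw [card_univ, hc, ho.neg_one_pow] at k1
  rw [card_univ, hc, Int.units_pow_eq_pow_mod_two, Nat.odd_iff.1 ho, pow_one] at k2
  have k4 : ∀ {g : D.isom} (π : Equiv.Perm ι), (∀ i, g.1 (e i) = e (π i) ∨ g.1 (e i) = -e (π i)) →
      g ∈ D.dec fun i => F ∙ e i := fun π hg => ⟨π, fun i => by
    rcases hg i with h5 | h5 <;> simp [Submodule.map_span, h5, ← Set.neg_singleton]⟩
  have k5 : ∀ i j, i ≠ j → D.refl (e i - e j) ∈ D.dec fun i => F ∙ e i := fun i j ij =>
    k4 (Equiv.swap i j) fun l => Or.inl (by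
      rw [Equiv.swap_apply_def]
      have : (2 * c)⁻¹ * (2 * c) = 1 := inv_mul_cancel₀ (mul_ne_zero h2 c0)
      split_ifs with h5 h6
      · simp [-mul_inv_rev, refl_apply, h.Q_sub ij, h.B_eq, h5, ij.symm, this]
      · simp [-mul_inv_rev, refl_apply, h.Q_sub ij, h.B_eq, h6, ij, this]
      · simp [refl_apply, h.B_eq, Ne.symm h5, Ne.symm h6])
  obtain ⟨g, hg, h5⟩ := SetLike.not_le_iff_exists.1 h4
  obtain ⟨i₀, h6⟩ : ∃ i₀, ∀ j, g.1 (e i₀) ∉ F ∙ e j := by
    by_contra! H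
    refine h5 (mem_dec_of_forall (fun i j ij => by_contra fun h6 => ?_) fun i => (H i).imp fun j hj => ?_)
    · obtain ⟨t, ht⟩ := mem_span_singleton.1 (ij.le (mem_span_singleton_self _))
      simpa [h.B_eq, h6, h2, c0] using congrArg (D.B (e i)) ht
    · obtain ⟨t, ht⟩ := mem_span_singleton.1 hj
      rw [Submodule.map_span, Set.image_singleton, LinearEquiv.coe_coe, ← ht,
        span_singleton_smul_eq (IsUnit.mk0 t (by rintro rfl; simpa [h.Q, c0.symm] using congrArg D.Q ht))]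
  obtain ⟨i, hi⟩ : ∃ i, D.B (e i) (g.1 (e i₀)) ≠ 0 := by
    by_contra! H; exact h6 i₀ (h.ext _ H ▸ zero_mem _)
  obtain ⟨j, ij, hj⟩ : ∃ j, i ≠ j ∧ D.B (e j) (g.1 (e i₀)) ≠ 0 := by
    by_contra! H
    exact h6 i (h.mem_of fun a ha => by_contra fun h7 => ha (H a (by rintro rfl; simp at h7)))
  intro k hk
  refine (h.E_le5 (X := Y) hp hD (fun i => Or.inr (h1 ⟨(Quad.mem_E_iff hD (by omega)).2 ?_,
    k4 1 fun l => ?_⟩)) (fun i j k l ij kl => Or.inl (h1 ⟨(Quad.mem_E_iff hD (by omega)).2 ?_,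
      mul_mem (k5 _ _ ij) (k5 _ _ kl)⟩)) (by omega) (Or.inl hg) ij hi hj hk).resolve_right fun h7 => ?_
  · simp [k1, k2, dickson_refl hD (h.Q i ▸ c0), spinor_refl hD (h.Q i ▸ c0), h.Q]
  · by_cases h7 : i = l
    · simp [h7, refl_apply_self (h.Q l ▸ c0)]
    · simp [refl_apply_of_perp (h.B _ _ h7)]
  · have q : ∀ {i j}, i ≠ j → D.Q (e i - e j) ≠ 0 := fun ij => by simp [h.Q_sub ij, h2, c0]
    simp [dickson_refl hD (q ij), spinor_refl hD (q ij), dickson_refl hD (q kl), spinor_refl hD (q kl),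
      h.Q_sub ij, h.Q_sub kl]
  · simpa [k1, ((Quad.mem_E_iff hD (by omega)).1 hk).1] using ((Quad.mem_E_iff hD (by omega)).1 (h0 h7)).1

end IsFrame

variable [FiniteDimensional F V] [Fintype F] {W : Submodule F V} (hD : D.Nondeg) (h2 : (2 : F) ≠ 0)
  (hW : Disjoint W (D.perp W)) (h4 : 3 ≤ finrank F W) (hq : ∃ t : F, t ≠ 0 ∧ t ^ 2 ≠ 1)
include hD hW h2 h4 hq

theorem E_le_of_nondeg_refl3 (hn4 : 4 ≤ finrank F V) (hn : finrank F V < 2 * finrank F W)
    (hI : (D.restrict (D.perp W)).Irr)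
    {c : F} (hc : c ≠ 0) (hR : ∀ x ∈ W, D.Q x = c → D.refl x ∈ X) (h1 : D.E ⊓ D.stab W ≤ X)
    (h3 : ¬ X ≤ D.stab W) : D.E ≤ X := by
  have h5 := W.finrank_le
  obtain ⟨U, hU, hM⟩ := (full_of_stab h1 le_rfl).exists_maxFull
  have hD' := D.nondeg_restrict_iff.2 hW
  obtain ⟨⟨e, he⟩, ⟨f, hf⟩, hef⟩ := Quad.exists_isHyp hD' (by omega)
  rcases hI.le_or_le_perp hD (Quad.trans hD (by omega)) (hD.disjoint_perp hW) (hD.perp_perp W).ge
    (Quad.univ ((wide_self hW).mono le_rfl (by omega))) hU (Or.inr ((hD.perp_perp W).trans_le hU))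
    (fun g hg _ hg' => by
      rw [hD.stab_perp] at hg'
      exact hM.mem_stab' ⟨hef.Q_e, hef.Q_f, hef.B_ef⟩ (hU he) (hU hf) (h1 ⟨hg, hg'⟩)
        (hU (stab_inv_mem hg' he)) (hU (stab_inv_mem hg' hf))) with H | H
  · obtain rfl : U = ⊤ := by
      rw [eq_top_iff, ← (hD.isCompl_perp hW).sup_eq_top]; exact sup_le hU H
    exact hM.full.E_le hD
  obtain rfl : U = W := le_antisymm (H.trans_eq (hD.perp_perp W)) hU
  refine (h3 fun g hg => ?_).elim
  have k : ∀ x ∈ U, D.Q x = c → g.1 x ∈ U ∨ g.1 x ∈ D.perp U := fun x hx h6 =>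
    hM.mem_or_perp_refl h2 hW h4 le_rfl hc hR hq hD (by simpa) (refl_map_mem hg (hR x hx h6))
  have k1 : ∀ A : Submodule F V, (∀ x ∈ U, D.Q x = c → g.1 x ∈ A) → ∀ x ∈ U, g.1 x ∈ A := by
    intro A hA x hx
    obtain ⟨y, hy⟩ := Quad.exists_Q_eq hD' (by omega) c
    let S := Submodule.span F {y | (D.restrict U).Q y = c}
    have h6 : S ≤ A.comap (g.1.toLinearMap ∘ₗ U.subtype) :=
      Submodule.span_le.2 fun y hy => hA y.1 y.2 hy
    have h7 : ∀ k : (D.restrict U).isom, S ≤ S.comap k.1.toLinearMap := fun k =>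
      Submodule.span_le.2 fun z hz => Submodule.subset_span ((Q_isom k z).trans hz)
    exact h6 ((Quad.irr hD' (by omega) S (fun h6 => hc (by
      rw [← hy, show y = 0 from h6.le (Submodule.subset_span hy), Q_zero])) h7).ge
        (Submodule.mem_top (x := ⟨x, hx⟩)))
  by_contra H
  obtain ⟨x, x1, x2, x3⟩ : ∃ x ∈ U, D.Q x = c ∧ g.1 x ∉ U := by
    by_contra! H1
    exact H (D.mem_stab_of_mapsTo (k1 _ H1))
  obtain ⟨y, y1, y2, y3⟩ : ∃ x ∈ U, D.Q x = c ∧ g.1 x ∉ D.perp U := by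
    by_contra! H1
    have h6 := Submodule.finrank_mono (show U.map (g.1 : V →ₗ[F] V) ≤ D.perp U by
      rintro _ ⟨x, hx, rfl⟩; exact k1 _ H1 x hx)
    have := hD.finrank_perp U
    rw [finrank_map_isom] at h6
    omega
  have x4 := (k x x1 x2).resolve_left x3
  have y4 := (k y y1 y2).resolve_right y3
  obtain ⟨z, z1, z2, z3⟩ := hD'.exists_conn h2 (Or.inr ⟨h4, hq⟩)
    (x := ⟨x, x1⟩) (y := ⟨y, y1⟩) (by simpa [x2]) (y2.trans x2.symm)
    (by simpa using D.mem_perp'.1 x4 _ y4)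
  rcases k z z.2 (z1.trans x2) with h6 | h6
  · exact z2 (by simpa using D.mem_perp'.1 x4 _ h6)
  · exact z3 (by simpa using D.mem_perp.1 h6 _ y4)

omit h4 hq in
theorem E_le_of_nondeg5 (hq : 5 ≤ Fintype.card F) (hn : finrank F V = 5) (h0 : W ≠ ⊥) (h1 : W ≠ ⊤)
    (X : Subgroup D.isom) (x0 : X ≤ D.E) (x1 : D.E ⊓ D.stab W ≤ X) (x2 : ¬ X ≤ D.stab W) : D.E ≤ X := by
  have h3 := hD.finrank_perp W
  have hq' := exists_sq_ne_one h2 (by omega : Fintype.card F ≠ 3)
  refine hD.E_le_of_neg h2 (by omega) (hn ▸ by decide) (fun X c hc hR => ?_) X x0 x1 x2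
  have k : ∀ A : Submodule F _, ∀ x ∈ A, D.negOne * D.refl x ∈ D.stab A :=
    fun A x hx => mul_mem (Form.mem_stab_of_mapsTo _ fun y hy => by simpa)
      (mem_stab_of_sub_mem fun y => by simp [refl_apply, Submodule.smul_mem _ _ hx])
  by_cases h4 : 2 < finrank F W
  · exact E_le_of_nondeg_refl3 hD h2 hW (by omega) hq' (by omega) (by omega)
      (Quad.irr (Form.nondeg_restrict_iff _ |>.2 (hD.disjoint_perp hW)) (by omega)) hc
      fun x hx h5 => hR x h5 (k _ x hx)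
  rw [← hD.stab_perp] at hR ⊢
  refine E_le_of_nondeg_refl3 hD h2 (hD.disjoint_perp hW) (by omega) hq' (by omega) (by omega) ?_ hc
    fun x hx h5 => hR x h5 (k _ x hx)
  rw [hD.perp_perp]
  exact Quad.irr (Form.nondeg_restrict_iff _ |>.2 hW) (by omega)

end Form

end Cfsg.Lib.Forms
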