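import Cfsg.Agent.Lib.K4.Tr
import Cfsg.Agent.Lib.K4.Fm5

/-!
# Stabilisers of orthogonal frames in dimension six: elements fixing a line
-/

namespace Cfsg.Lib.Forms

open Module Form Submodule Finset

variable {F V : Type*} [Field F] [AddCommGroup V] [Module F V]

namespace Form

variable {D : Form (quadKind F) V} {X : Subgroup D.isom} {ι : Type*}

namespace IsFrame

variable {e : ι → V} {c : F} (h : D.IsFrame e c) [DecidableEq ι] [Fintype ι] [FiniteDimensional F V]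
include h

variable [Fintype F] (hp : (Fintype.card F).Prime) (hD : D.Nondeg)
  (hr : ∀ i j, D.refl (e i) * D.refl (e j) ∈ X)
  (hs : ∀ i j k l, i ≠ j → k ≠ l → D.refl (e i - e j) * D.refl (e k - e l) ∈ X)
  (hn : Fintype.card ι = 6) (hno : ¬ D.E ≤ X)
include hp hD hr hs hn hno

theorem exists_of_stab6 {S : Finset ι} {s : ι} (s0 : S = {s}) {g : D.isom} (hg : g ∈ X)
    (H : ∀ x, (∀ j ∈ S, D.B (e j) x = 0) → ∀ j ∈ S, D.B (e j) (g.1 x) = 0) {i : ι} (hi : i ∉ S) :
    ∃ j, g.1 (e i) ∈ F ∙ e j := by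
  classical
  have h2 := h.two
  have c0 := h.ne
  have h4 : #S = 1 := by simp [s0]
  have s1 : s ∈ S := by simp [s0]
  obtain ⟨W, hW⟩ : ∃ W : Submodule F V, ∀ x, x ∈ W ↔ ∀ j ∈ S, D.B (e j) x = 0 :=
    ⟨D.perp (span F (e '' S)), fun x => by simp [mem_perp_span]⟩
  have w1 : ∀ i ∉ S, e i ∈ W := fun i hi => (hW _).2 fun j hj => h.B _ _ (by rintro rfl; exact hi hj)
  have hf : (D.restrict W).IsFrame (fun i : {i // i ∉ S} => (⟨e i, w1 i i.2⟩ : W)) c :=
    ⟨c0, h2, fun i => h.Q i, fun i j ij => h.B _ _ (Subtype.val_injective.ne ij), fun x hx =>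
      Subtype.ext (h.ext _ fun i => if hi : i ∈ S then (hW _).1 x.2 i hi else hx ⟨i, hi⟩)⟩
  have w2 : (D.restrict W).Nondeg := fun x hx => hf.ext x fun i => (D.restrict W).eq_zero_symm (hx _)
  have hc := hD.isOrthCompl (D.nondeg_restrict_iff.1 w2)
  have w3 : Fintype.card ι - #S ≤ finrank F W := by
    rw [← card_compl]; exact h.card_le_finrank fun i hi => w1 i (mem_compl.1 hi)
  have w4 : ∀ {k : (D.restrict W).isom} {x : D.isom}, x ∈ X → (∀ w : W, x.1 w = k.1 w) →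
      k ∈ (X.subgroupOf (D.stab W)).map (D.res W) := fun {k x} hx H =>
    ⟨⟨x, D.mem_stab_of_mapsTo fun w hw => (H ⟨w, hw⟩).symm ▸ (k.1 _).2⟩, hx,
      isom_ext fun w => Subtype.ext (H w)⟩
  have w5 : g ∈ D.stab W := D.mem_stab_of_mapsTo fun x hx => (hW _).2 (H x ((hW _).1 hx))
  refine (h.mem_or_two _).resolve_right fun h5 => hno ?_
  obtain ⟨a, b, ab, ha, hb⟩ := h5.resolve_left (by simpa using fun h6 => c0 (by simpa [h6] using (h.Q i).symm))
  have w6 : ∀ a, D.B (e a) (g.1 (e i)) ≠ 0 → a ∉ S := fun a ha h6 => ha (H _ ((hW _).1 (w1 i hi)) a h6)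
  have hE := hf.E_le5 (X := (X.subgroupOf (D.stab W)).map (D.res W)) hp w2
    (fun i => w4 (hr s i) fun w => by
      rw [isom_mul_apply, ← extend_refl hc ⟨_, w1 i i.2⟩, extend_apply_left,
        refl_apply_of_perp ((hW _).1 (Subtype.property _) s s1)])
    (fun i j k l ij kl => w4 (hs _ _ _ _ (Subtype.val_injective.ne ij) (Subtype.val_injective.ne kl))
      fun w => by rw [← extend_apply_left hc, map_mul, extend_refl, extend_refl]; rfl)
    (by rw [Fintype.card_subtype_compl, Fintype.card_coe]; omega) (g := D.res W ⟨g, w5⟩) ⟨_, hg, rfl⟩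
    (i₀ := ⟨i, hi⟩) (i := ⟨a, w6 a ha⟩) (j := ⟨b, w6 b hb⟩) (by simpa) ha hb
  obtain ⟨k, hk⟩ := exists_not_mem (insert a (insert b S)) (by
    have := card_insert_le a (insert b S); have := card_insert_le b S; omega)
  simp only [mem_insert, not_or] at hk
  have q : ∀ i : {i // i ∉ S}, (D.restrict W).Q ⟨e i, w1 i i.2⟩ ≠ 0 := fun i => (hf.Q i).symm ▸ c0
  obtain ⟨U, hU, hM⟩ := (full_of_res hD hc (by omega) hE (n := (D.restrict W).refl ⟨_, w1 a (w6 a ha)⟩ *
    (D.restrict W).refl ⟨_, w1 b (w6 b hb)⟩) ((Quad.mem_E_iff w2 (by omega)).2 (by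
      simp [dickson_refl w2 (q ⟨a, w6 a ha⟩), spinor_refl w2 (q ⟨a, w6 a ha⟩),
        dickson_refl w2 (q ⟨b, w6 b hb⟩), spinor_refl w2 (q ⟨b, w6 b hb⟩), h.Q]))
    (by rw [map_mul, extend_refl, extend_refl]; exact hr a b) fun t ht => by
      have k1 := congrArg (fun x : W => D.B (e k) x) (ht ⟨_, w1 k hk.2.2⟩)
      have k2 := congrArg (fun x : W => D.B (e a) x) (ht ⟨_, w1 a (w6 a ha)⟩)
      simp [isom_mul_apply, refl_apply, h.B_eq, h.Q, hk, Ne.symm hk.1, Ne.symm hk.2.1, ab.symm, c0, h2] at k1 k2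
      rw [k1, mul_left_comm c⁻¹, inv_mul_cancel₀ c0] at k2
      exact mul_ne_zero h2 (mul_ne_zero h2 c0) (by linear_combination -k2)).exists_maxFull
  have sk : s ≠ k := by rintro rfl; exact hk.2.2 s1
  have sa : s ≠ a := by rintro rfl; exact w6 _ ha s1
  have sb : s ≠ b := by rintro rfl; exact w6 _ hb s1
  obtain ⟨m, hm⟩ := exists_not_mem {s, k, a, b} (card_le_four.trans_lt (by omega))
  simp only [mem_insert, mem_singleton, not_or] at hm
  obtain ⟨t1, t2⟩ := D.span_three (a := e a) (b := e b) (c := e m) fun r s t h1 h3 h5 => by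
    simp [h.B_eq, ab, ab.symm, hm, Ne.symm hm.2.2.1, Ne.symm hm.2.2.2, h2, c0] at h1 h3 h5
    exact ⟨h1, h3, h5⟩
  have t3 : ∀ x ∈ span F {e a, e b, e m}, D.B (e s) x = 0 ∧ D.B (e k) x = 0 := fun x hx => by
    obtain ⟨r, t, u, rfl⟩ := mem_span_triple.1 hx
    simp [h.B_eq, sa, sb, hk.1, hk.2.1, Ne.symm hm.1, Ne.symm hm.2.1]
  obtain ⟨u, u1, u2, u3⟩ := exists_sing_on t1 t2.ge (a := e a) (subset_span (by simp))
    (fun h0 => c0 (by simpa [h0] using (h.Q a).symm))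
  obtain ⟨f, f1, f2⟩ := exists_isHyp_mem u1 u2 (not_mem_perp_iff.2 ⟨_, subset_span (by simp), u3⟩)
  have t4 : (D.refl (e s - e k) * D.refl (e a - e b)).1 (e s) = e k := by
    rw [isom_mul_apply, h.refl_sub ab, Equiv.swap_apply_of_ne_of_ne sa sb, h.refl_sub sk, Equiv.swap_apply_left]
  have t5 : ∀ x ∈ span F {e a, e b, e m}, x ∈ U ∧ ((D.refl (e s - e k) * D.refl (e a - e b))⁻¹).1 x ∈ U :=
    fun x hx => ⟨hU ((hW _).2 (by simpa [s0] using (t3 x hx).1)), hU ((hW _).2 (by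
      simp only [s0, mem_singleton, forall_eq]
      rw [← B_isom_left, t4, (t3 x hx).2]))⟩
  have h7 := hM.mem_stab' f2 (t5 _ u1).1 (t5 _ f1).1 (hs s k a b sk ab) (t5 _ u1).2 (t5 _ f1).2
  obtain rfl : U = ⊤ := eq_top_iff.2 fun y _ => h.mem_of fun l _ => by
    by_cases hl : l ∈ S
    swap
    · exact hU (w1 l hl)
    obtain rfl : l = s := by simpa [s0] using hl
    have := stab_mem h7 (hU (w1 k hk.2.2))
    rwa [isom_mul_apply, h.refl_sub ab, Equiv.swap_apply_of_ne_of_ne hk.1 hk.2.1,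
      h.refl_sub sk, Equiv.swap_apply_right] at this
  exact hM.full.E_le hD

theorem mem_dec_of_line6 {g : D.isom} (hg : g ∈ X) {a b : ι} (H : g.1 (e a) ∈ F ∙ e b) :
    g ∈ D.dec fun i => F ∙ e i := by
  have k : ∀ g ∈ X, g.1 (e a) ∈ F ∙ e a → g ∈ D.dec fun i => F ∙ e i := fun g hg H => h.mem_dec_iff.2 fun i => by
    by_cases ia : i = a
    · exact ⟨a, ia ▸ H⟩
    obtain ⟨t, ht⟩ := mem_span_singleton.1 H
    refine h.exists_of_stab6 hp hD hr hs hn hno (s := a) rfl hg (fun x hx j hj => ?_) (by simpa)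
    have := hx a (mem_singleton_self a)
    rw [← B_isom g, ← ht, D.B_smul_left, mul_eq_zero] at this
    exact mem_singleton.1 hj ▸ this.resolve_left (by
      rintro (rfl : t = 0); simpa [h.Q, h.ne.symm] using congrArg D.Q ht)
  by_cases ab : a = b
  · exact k g hg (ab ▸ H)
  obtain ⟨i, hi⟩ := exists_not_mem {a, b} (card_le_two.trans_lt (by omega))
  obtain ⟨j, hj⟩ := exists_not_mem {a, b, i} (card_le_three.trans_lt (by omega))
  simp only [mem_insert, mem_singleton, not_or] at hi hj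
  obtain ⟨t, ht⟩ := mem_span_singleton.1 H
  refine (Subgroup.mul_mem_cancel_left _ (mul_mem (h.refl_sub_mem ab) (h.refl_sub_mem hj.2.2))).1
    (k _ (X.mul_mem (hs _ _ _ _ ab hj.2.2) hg) ?_)
  rw [isom_mul_apply, isom_mul_apply, ← ht, map_smul, map_smul, h.refl_sub hj.2.2,
    Equiv.swap_apply_of_ne_of_ne (Ne.symm hj.2.1) (Ne.symm hi.2), h.refl_sub ab, Equiv.swap_apply_right]
  exact smul_mem _ _ (mem_span_singleton_self _)

end IsFrame

end Form

end Cfsg.Lib.Forms
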