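import Cfsg.Agent.Lib.K4.Fm6

/-!
# Stabilisers of orthogonal frames in dimension six: two frames with a common plane
-/

namespace Cfsg.Lib.Forms

open Module Form Submodule Finset

variable {F V : Type*} [Field F] [AddCommGroup V] [Module F V]

namespace Form

variable {D : Form (quadKind F) V} {X : Subgroup D.isom} {ι : Type*}

namespace IsFrame

variable {e y : ι → V} {c : F} (h : D.IsFrame e c) [DecidableEq ι] [Fintype ι] [FiniteDimensional F V]
include h

theorem card_supp_refl6 {v : V} (hv : D.Q v ≠ 0) (H : D.refl v ∈ D.dec fun i => F ∙ e i) :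
    #(supp D e v) ≤ 2 := by
  have := h.card_moved_le H (A := F ∙ v) (sub_mem_refl (mem_span_singleton_self v)) (S := supp D e v)
    fun i hi h1 => mem_supp.1 hi (D.eq_zero_symm ((refl_apply_eq_self_iff hv).1 h1))
  have := finrank_span_singleton_le (F := F) v
  omega

theorem card_union_le6 {a b : V} (ha : D.Q a ≠ 0) (hb : D.Q b = D.Q a) (h0 : D.B a b = 0)
    (h1 : D.refl a ∈ D.dec fun i => F ∙ e i) (h2 : D.refl b ∈ D.dec fun i => F ∙ e i)
    (h3 : D.refl (a - b) ∈ D.dec fun i => F ∙ e i) : #(supp D e a ∪ supp D e b) ≤ 2 := by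
  classical
  have t := h.two
  have h4 : D.refl (a + b) ∈ D.dec fun i => F ∙ e i := by
    have := refl_map_mem h2 h3
    rwa [map_sub, refl_apply_self (hb ▸ ha), refl_apply_of_perp (D.eq_zero_symm h0), sub_neg_eq_add] at this
  have k1 := h.card_supp_refl6 ha h1
  have k2 := h.card_supp_refl6 (hb ▸ ha) h2
  have k3 := h.card_supp_refl6 (by
    rw [quad_Q_sub, h0, hb, show D.Q a + D.Q a - 0 = 2 * D.Q a by ring]; exact mul_ne_zero t ha) h3
  have k4 := h.card_supp_refl6 (by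
    rw [D.Q_add_of_B h0, hb, ← two_mul]; exact mul_ne_zero t ha) h4
  have k5 : ∀ i ∈ supp D e a ∪ supp D e b, 3 ≤ (if i ∈ supp D e a then 1 else 0) + (if i ∈ supp D e b then 1 else 0) +
      (if i ∈ supp D e (a - b) then 1 else 0) + (if i ∈ supp D e (a + b) then 1 else 0) := fun i hi => by
    simp only [mem_union, mem_supp, map_sub, map_add] at hi ⊢
    generalize D.B (e i) a = α, D.B (e i) b = β at *
    by_cases h5 : α = 0
    · subst h5; simp_all
    by_cases h6 : β = 0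
    · subst h6; simp_all
    by_cases h7 : α - β = 0
    · have : α + β ≠ 0 := fun h8 => mul_ne_zero t h5 (by linear_combination h7 + h8)
      simp [*]
    · simp only [ne_eq, h5, h6, h7, not_false_eq_true, if_true]; omega
  have k6 := sum_le_sum k5
  simp only [sum_add_distrib, sum_boole, Nat.cast_id, filter_mem_eq_inter, sum_const, smul_eq_mul] at k6
  have := card_le_card (inter_subset_right (s₁ := supp D e a ∪ supp D e b) (s₂ := supp D e a))
  have := card_le_card (inter_subset_right (s₁ := supp D e a ∪ supp D e b) (s₂ := supp D e b))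
  have := card_le_card (inter_subset_right (s₁ := supp D e a ∪ supp D e b) (s₂ := supp D e (a - b)))
  have := card_le_card (inter_subset_right (s₁ := supp D e a ∪ supp D e b) (s₂ := supp D e (a + b)))
  omega

theorem perp_of_two6 {a b : V} (ha : D.Q a ≠ 0) (hb : D.Q b ≠ 0) (h0 : D.B a b = 0) {U : Finset ι} (hU : #U ≤ 2)
    (h1 : supp D e a ∪ supp D e b ⊆ U) :
    #U = 2 ∧ ∀ i ∈ U, ∀ x, D.B a x = 0 → D.B b x = 0 → D.B (e i) x = 0 := by
  have k1 : span F {a, b} ≤ span F (e '' U) := span_le.2 (by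
    rintro _ (rfl | rfl)
    exacts [h.mem_span_of_supp (subset_union_left.trans h1), h.mem_span_of_supp (subset_union_right.trans h1)])
  have k2 : (F ∙ a) < span F {a, b} := (span_mono (by simp)).lt_of_ne fun h2 => by
    obtain ⟨t, rfl⟩ := mem_span_singleton.1 (h2.ge (subset_span (by simp)) : b ∈ F ∙ a)
    rw [map_smul, quad_B_self, smul_eq_mul, mul_eq_zero] at h0
    exact hb (by simp [h0.resolve_right (mul_ne_zero h.two ha)])
  have k3 := Submodule.finrank_lt_finrank_of_lt k2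
  rw [finrank_span_singleton (by rintro rfl; simp at ha)] at k3
  have k4 := finrank_span_le (F := F) (e := e) U
  have k5 := Submodule.finrank_mono k1
  refine ⟨by omega, fun i hi x h2 h3 => ?_⟩
  obtain ⟨s, t, h4⟩ := mem_span_pair.1 ((eq_of_le_of_finrank_le k1 (by omega)).ge (subset_span ⟨i, hi, rfl⟩))
  simp [← h4, h2, h3]

omit [FiniteDimensional F V] in
theorem refl_mem_of6 {k : D.isom} (hk : k ∈ D.dec fun i => F ∙ e i) {v : V}
    (H : ∀ i, D.B v (e i) = 0 ∨ k.1 (e i) = (D.refl v).1 (e i)) : D.refl v ∈ D.dec fun i => F ∙ e i :=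
  h.mem_dec_iff.2 fun i => (H i).elim (fun h1 => ⟨i, by rw [refl_apply_of_perp h1]; exact mem_span_singleton_self _⟩)
    fun h1 => h1 ▸ h.mem_dec_iff.1 hk i

omit [FiniteDimensional F V] [Fintype ι] [DecidableEq ι] in
theorem flip6 {x : V} {i : ι} (H : e i ∈ F ∙ x) : x ∈ F ∙ e i := by
  obtain ⟨t, ht⟩ := mem_span_singleton.1 H
  have : t ≠ 0 := by rintro rfl; exact h.ne (by simpa [← ht] using (h.Q i).symm)
  exact mem_span_singleton.2 ⟨t⁻¹, by simp [← ht, this]⟩

theorem line_of_three6 (hy : D.IsFrame y c) {a b d : ι} (ab : a ≠ b) (ad : a ≠ d) (bd : b ≠ d)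
    (h1 : D.refl (e a) ∈ D.dec fun i => F ∙ y i) (h2 : D.refl (e b) ∈ D.dec fun i => F ∙ y i)
    (h3 : D.refl (e d) ∈ D.dec fun i => F ∙ y i) (h4 : D.refl (e a - e b) ∈ D.dec fun i => F ∙ y i)
    (h5 : D.refl (e a - e d) ∈ D.dec fun i => F ∙ y i) : ∃ i j, y i ∈ F ∙ e j := by
  have q : D.Q (e a) ≠ 0 := h.Q a ▸ h.ne
  rcases hy.mem_or_two (e a) with ⟨j, hj⟩ | h0 | ⟨i, j, ij, hi, hj⟩
  · exact ⟨j, a, h.flip6 hj⟩
  · simp [h0] at q
  have k1 : 1 < #(supp D y (e a)) := one_lt_card.2 ⟨i, mem_supp.2 hi, j, mem_supp.2 hj, ij⟩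
  have k2 := hy.card_union_le6 q (by rw [h.Q, h.Q]) (h.B _ _ ab) h1 h2 h4
  have k3 := hy.card_union_le6 q (by rw [h.Q, h.Q]) (h.B _ _ ad) h1 h3 h5
  have k4 := card_le_card (subset_union_left (s₁ := supp D y (e a)) (s₂ := supp D y (e b)))
  have := h.card_le_finrank (S := {a, b, d}) (W := span F (y '' supp D y (e a))) fun l hl => by
    simp only [mem_insert, mem_singleton] at hl
    rcases hl with rfl | rfl | rfl
    · exact hy.mem_span_of_supp subset_rfl
    · exact hy.mem_span_of_supp (subset_union_right.trans (eq_of_subset_of_card_le subset_union_left (by omega)).ge)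
    · exact hy.mem_span_of_supp (subset_union_right.trans (eq_of_subset_of_card_le subset_union_left (by omega)).ge)
  have k5 := finrank_span_le (F := F) (e := y) (supp D y (e a))
  rw [card_eq_three.2 ⟨a, b, d, ab, ad, bd, rfl⟩] at this
  omega

omit [FiniteDimensional F V] in
theorem exists_perp6 (hn : Fintype.card ι = 6) (hy : D.IsFrame y c) {i j k a b : ι} (ij : i ≠ j) (ik : i ≠ k)
    (jk : j ≠ k) (ab : a ≠ b) (H : D.refl (y j - y i) * D.refl (y j - y k) ∈ D.dec fun i => F ∙ e i)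
    (ha : (D.refl (y j - y i) * D.refl (y j - y k)).1 (e a) = e a)
    (hb : (D.refl (y j - y i) * D.refl (y j - y k)).1 (e b) = e b) :
    ∃ m, m ≠ a ∧ m ≠ b ∧ D.B (y j - y i) (e m) = 0 := by
  have c2 := mul_ne_zero h.two h.ne
  have k1 : ∀ x, (D.refl (y j - y i) * D.refl (y j - y k)).1 x = x → D.B (y j - y i) x = 0 := fun x hx => by
    have h1 := congrArg (D.refl (y j - y i)).1 hx
    rw [← isom_mul_apply, ← mul_assoc, refl_mul_self, one_mul] at h1
    simpa [refl_apply, hy.B_eq, ij, ik, hy.Q_sub ij.symm, h.two, h.ne] using congrArg (D.B (y i)) h1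
  have k2 : (D.refl (y j - y i) * D.refl (y j - y k)) ^ 3 = 1 := hy.isom_eq fun l => by
    have h1 := pow_orderOf_eq_one (Equiv.swap j i * Equiv.swap j k)
    rw [(Equiv.Perm.isThreeCycle_swap_mul_swap_same ij.symm jk ik).orderOf] at h1
    have h2 := congrArg (fun σ : Equiv.Perm ι => y (σ l)) h1
    simpa [pow_three, isom_mul_apply, hy.refl_sub ij.symm, hy.refl_sub jk] using h2
  generalize D.refl (y j - y i) * D.refl (y j - y k) = w at *
  obtain ⟨π, hπ⟩ := h.exists_perm H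
  have k3 : ∀ x, w.1 (w.1 (w.1 x)) = x := fun x => by
    simpa [pow_three, isom_mul_apply] using congrArg (fun g : D.isom => g.1 x) k2
  have k4 : ∀ l m, e l = e m ∨ e l = -e m → l = m := fun l m h1 => by_contra fun h2 => by
    have := h.B_eq l l
    rcases h1 with h1 | h1 <;> nth_rw 2 [h1] at this <;> simp [h.B_eq, h2, h.two, h.ne] at this
  have k5 : π ^ 3 ^ 1 = 1 := Equiv.ext fun l => (k4 _ _ (by
    have := k3 (e l)
    simp only [pow_one, pow_three, Equiv.Perm.mul_apply, Equiv.Perm.one_apply]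
    rcases hπ l with h1 | h1 <;> rcases hπ (π l) with h2 | h2 <;> rcases hπ (π (π l)) with h3 | h3 <;>
      simp only [h1, h2, h3, map_neg, neg_neg] at this <;> simp [← this])).symm
  have k6 : π a = a := (k4 _ _ (ha ▸ hπ a)).symm
  have k7 : π b = b := (k4 _ _ (hb ▸ hπ b)).symm
  have : Fact (Nat.Prime 3) := ⟨by norm_num⟩
  obtain ⟨⟨m, m1, m2⟩, hm⟩ := Equiv.Perm.exists_fixed_point_of_prime (p := 3) (n := 1)
    (α := {m // m ≠ a ∧ m ≠ b}) (by
      rw [Fintype.card_subtype, show ({m | m ≠ a ∧ m ≠ b} : Finset ι) = {a, b}ᶜ by ext; simp, card_compl,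
        card_pair ab, hn]; decide)
    (σ := π.subtypePerm fun x => by
      conv_lhs => rw [← k6, ← k7]
      simp) (by rw [Equiv.Perm.subtypePerm_pow]; ext; simp [show π ^ 3 = 1 by simpa using k5])
  refine ⟨m, m1, m2, k1 _ ?_⟩
  replace hm : π m = m := congrArg Subtype.val hm
  refine (hm ▸ hπ m).resolve_right fun h1 => ?_
  have := congrArg (D.B (e m)) (k3 (e m))
  simp only [h1, map_neg, neg_neg, h.B_eq, if_true] at this
  exact mul_ne_zero h.two c2 (by linear_combination -this)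

end IsFrame

variable (D X) in
/-- A frame whose even monomial group lies in `X`, and which is fixed by the stabilisers of its lines. -/
structure Fr6 (e : ι → V) (c : F) : Prop where
  fr : D.IsFrame e c
  r : ∀ i j, D.refl (e i) * D.refl (e j) ∈ X
  s : ∀ i j k l, i ≠ j → k ≠ l → D.refl (e i - e j) * D.refl (e k - e l) ∈ X
  line : ∀ g ∈ X, ∀ a b, g.1 (e a) ∈ F ∙ e b → g ∈ D.dec fun i => F ∙ e i

theorem conj_refl_two6 (g : D.isom) (y z : V) :
    g * (D.refl y * D.refl z) * g⁻¹ = D.refl (g.1 y) * D.refl (g.1 z) := by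
  simp [← conj_refl, mul_assoc]

namespace Fr6

open IsFrame

variable {e y : ι → V} {c : F} (h : D.Fr6 X e c) [DecidableEq ι] [Fintype ι]
include h

theorem map {g : D.isom} (hg : g ∈ X) : D.Fr6 X (fun i => g.1 (e i)) c := by
  have hf : D.IsFrame (fun i => g.1 (e i)) c := ⟨h.fr.ne, h.fr.two, fun i => by rw [Q_isom, h.fr.Q],
    fun i j ij => by rw [B_isom, h.fr.B _ _ ij], fun x hx => by
      rw [← isom_apply_inv g x, h.fr.ext (g⁻¹.1 x) fun i => (B_isom_left g _ _).symm.trans (hx i), map_zero]⟩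
  refine ⟨hf, fun i j => ?_, fun i j k l ij kl => ?_, fun k hk a b H => hf.mem_dec_iff.2 fun i => ?_⟩
  · exact conj_refl_two6 g _ _ ▸ X.mul_mem (X.mul_mem hg (h.r i j)) (X.inv_mem hg)
  · rw [← map_sub, ← map_sub]
    exact conj_refl_two6 g _ _ ▸ X.mul_mem (X.mul_mem hg (h.s i j k l ij kl)) (X.inv_mem hg)
  · obtain ⟨t, ht⟩ := mem_span_singleton.1 H
    obtain ⟨j, hj⟩ := h.fr.mem_dec_iff.1 (h.line (g⁻¹ * k * g) (X.mul_mem (X.mul_mem (X.inv_mem hg) hk) hg) a b
      (mem_span_singleton.2 ⟨t, by simp [isom_mul_apply, ← ht]⟩)) i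
    obtain ⟨s, hs⟩ := mem_span_singleton.1 hj
    exact ⟨j, mem_span_singleton.2 ⟨s, by simpa [isom_mul_apply] using congrArg g.1 hs⟩⟩

variable [FiniteDimensional F V] (hn : Fintype.card ι = 6) (hy : D.Fr6 X y c) {a b i j : ι} (ab : a ≠ b) (ij : i ≠ j)
  (h1 : ∀ k, k ≠ i → k ≠ j → D.B (y k) (e a) = 0 ∧ D.B (y k) (e b) = 0)
  (h2 : ∀ m, m ≠ a → m ≠ b → D.B (e m) (y i) = 0 ∧ D.B (e m) (y j) = 0)
include hn hy ab ij h1 h2

theorem refl_sub_mem_of : D.refl (y i - y j) ∈ D.dec fun i => F ∙ e i := by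
  obtain ⟨k, hk⟩ := exists_not_mem {i, j} (card_le_two.trans_lt (by omega))
  obtain ⟨l, hl⟩ := exists_not_mem {i, j, k} (card_le_three.trans_lt (by omega))
  obtain ⟨n, hm⟩ := exists_not_mem {i, j, k, l} (card_le_four.trans_lt (by omega))
  simp only [mem_insert, mem_singleton, not_or] at hk hl hm
  have k1 := h1 k hk.1 hk.2
  have k2 := h1 l hl.1 hl.2.1
  have k3 := h1 n hm.1 hm.2.1
  have k4 : (D.refl (y l - y k) * D.refl (y l - y n)).1 (e a) = e a := by simp [isom_mul_apply, refl_apply, *]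
  obtain ⟨m, m1, m2, m3⟩ := h.fr.exists_perp6 hn hy.fr (Ne.symm hl.2.2) (Ne.symm hm.2.2.1) (Ne.symm hm.2.2.2) ab
    (h.line _ (hy.s _ _ _ _ hl.2.2 (Ne.symm hm.2.2.2)) a a (k4.symm ▸ mem_span_singleton_self _)) k4
    (by simp [isom_mul_apply, refl_apply, *])
  have k5 : ∀ m, m ≠ a → m ≠ b → D.B (y i - y j) (e m) = 0 := fun m m1 m2 =>
    D.eq_zero_symm (by simp [h2 m m1 m2])
  refine h.fr.refl_mem_of6 (h.line _ (hy.s _ _ _ _ ij hl.2.2) m m (by
    rw [isom_mul_apply, refl_apply_of_perp m3, refl_apply_of_perp (k5 m m1 m2)]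
    exact mem_span_singleton_self _)) fun t => ?_
  by_cases ta : t = a
  · exact Or.inr (by rw [isom_mul_apply, refl_apply_of_perp (v := y l - y k) (by simp [ta, *])])
  by_cases tb : t = b
  · exact Or.inr (by rw [isom_mul_apply, refl_apply_of_perp (v := y l - y k) (by simp [tb, *])])
  exact Or.inl (k5 t ta tb)

theorem share_of_plane : ∃ i j, y i ∈ F ∙ e j := by
  have c0 := h.fr.ne
  have t0 := h.fr.two
  obtain ⟨t, ht⟩ := hy.fr.mem_dec_iff.1 (hy.refl_sub_mem_of hn h ij ab h2 h1) i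
  have k1 := h.fr.sum_sq (hy.fr.Q i)
  rw [Fintype.sum_eq_add a b ab fun x hx => by simp [(h2 x hx.1 hx.2).1]] at k1
  field_simp at k1
  obtain ⟨s, hs⟩ := mem_span_singleton.1 ht
  by_cases ti : t = i
  swap
  · have k2 := congrArg (D.B (y i)) hs
    simp only [refl_apply, D.B_lin, hy.fr.B_eq, Ne.symm ti, if_false, if_true, h.fr.Q_sub ab,
      quad_symm D (y i), RingHom.id_apply] at k2
    field_simp at k2
    have k3 : D.B (e a) (y i) * D.B (e b) (y i) = 0 :=
      mul_left_cancel₀ t0 (by linear_combination -k2 + k1)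
    rcases mul_eq_zero.1 k3 with k4 | k4
    · exact ⟨i, b, h.fr.mem_of fun m hm => by
        obtain rfl : m = b := by_contra fun mb => hm (if ma : m = a then ma ▸ k4 else (h2 m ma mb).1)
        exact mem_span_singleton_self _⟩
    · exact ⟨i, a, h.fr.mem_of fun m hm => by
        obtain rfl : m = a := by_contra fun ma => hm (if mb : m = b then mb ▸ k4 else (h2 m ma mb).1)
        exact mem_span_singleton_self _⟩
  subst ti
  have k2 := congrArg (D.B (e a)) hs
  have k3 := congrArg (D.B (e b)) hs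
  simp only [refl_apply, D.B_lin, h.fr.B_eq, ab, ab.symm, if_false, if_true, h.fr.Q_sub ab,
    RingHom.id_apply] at k2 k3
  field_simp at k2 k3
  have k4 : (D.refl (e a)).1 (y t) ∈ F ∙ y j := hy.fr.mem_of fun m hm => by
    obtain rfl : m = j := by_contra fun mj => hm (by
      by_cases mt : m = t
      · simp only [mt, refl_apply, D.B_lin, hy.fr.B_eq, if_true, h.fr.Q, quad_symm D (y t), RingHom.id_apply]
        field_simp
        exact mul_left_cancel₀ (mul_ne_zero t0 (mul_ne_zero t0 c0)) (by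
          linear_combination -2 * c * k1 - D.B (e b) (y t) * k2 + D.B (e a) (y t) * k3)
      · simp [refl_apply, hy.fr.B _ _ mt, (h1 m mt mj).1])
    exact mem_span_singleton_self _
  have k5 : ∀ u v l, D.refl v * D.refl u ∈ X → (D.refl u).1 (y t) ∈ F ∙ y l → D.B v (y l) = 0 → D.B v (y t) = 0 →
      D.B v (y j) = 0 → (∀ k, k ≠ t → k ≠ j → D.B u (y k) = 0) → D.refl v ∈ D.dec fun i => F ∙ y i :=
    fun u v l h3 h4 h5 h6 h7 h8 => by
      obtain ⟨s, hs⟩ := mem_span_singleton.1 h4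
      refine hy.fr.refl_mem_of6 (hy.line _ h3 t l (by
        rw [isom_mul_apply, ← hs, map_smul, refl_apply_of_perp h5]
        exact smul_mem _ _ (mem_span_singleton_self _))) fun k => ?_
      by_cases kt : k = t
      · exact Or.inl (kt ▸ h6)
      by_cases kj : k = j
      · exact Or.inl (kj ▸ h7)
      exact Or.inr (by rw [isom_mul_apply, refl_apply_of_perp (h8 k kt kj)])
  have k6 : ∀ m, m ≠ a → m ≠ b → D.refl (e m) ∈ D.dec fun i => F ∙ y i := fun m ma mb =>
    k5 _ _ j (h.r m a) k4 (h2 m ma mb).2 (h2 m ma mb).1 (h2 m ma mb).2 fun k kt kj => D.eq_zero_symm (h1 k kt kj).1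
  have k7 : ∀ m n, m ≠ a → m ≠ b → n ≠ a → n ≠ b → m ≠ n → D.refl (e m - e n) ∈ D.dec fun i => F ∙ y i :=
    fun m n ma mb na nb mn => k5 _ _ t (h.s m n a b mn ab) ht (by simp [h2 m ma mb, h2 n na nb])
      (by simp [h2 m ma mb, h2 n na nb]) (by simp [h2 m ma mb, h2 n na nb])
      fun k kt kj => D.eq_zero_symm (by simp [h1 k kt kj])
  obtain ⟨k, hk⟩ := exists_not_mem {a, b} (card_le_two.trans_lt (by omega))
  obtain ⟨l, hl⟩ := exists_not_mem {a, b, k} (card_le_three.trans_lt (by omega))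
  obtain ⟨n, hm⟩ := exists_not_mem {a, b, k, l} (card_le_four.trans_lt (by omega))
  simp only [mem_insert, mem_singleton, not_or] at hk hl hm
  exact h.fr.line_of_three6 hy.fr (Ne.symm hl.2.2) (Ne.symm hm.2.2.1) (Ne.symm hm.2.2.2) (k6 k hk.1 hk.2)
    (k6 l hl.1 hl.2.1) (k6 n hm.1 hm.2.1) (k7 _ _ hk.1 hk.2 hl.1 hl.2.1 (Ne.symm hl.2.2))
    (k7 _ _ hk.1 hk.2 hm.1 hm.2.1 (Ne.symm hm.2.2.1))

omit ij h1 h2 in
theorem share_of_supp {A : Finset ι} (hA : #A ≤ 2)
    (H : IsFrame.supp D y (e a) ∪ IsFrame.supp D y (e b) ⊆ A) : ∃ i j, y i ∈ F ∙ e j := by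
  obtain ⟨k1, k2⟩ := hy.fr.perp_of_two6 (h.fr.Q a ▸ h.fr.ne) (h.fr.Q b ▸ h.fr.ne) (h.fr.B _ _ ab) hA H
  obtain ⟨i, j, ij, rfl⟩ := card_eq_two.1 k1
  refine h.share_of_plane hn hy ab ij (fun k ki kj => ⟨by_contra fun h3 => ?_, by_contra fun h3 => ?_⟩)
    fun m ma mb => ⟨D.eq_zero_symm (k2 i (by simp) _ (h.fr.B _ _ ma.symm) (h.fr.B _ _ mb.symm)),
      D.eq_zero_symm (k2 j (by simp) _ (h.fr.B _ _ ma.symm) (h.fr.B _ _ mb.symm))⟩
  · simpa [ki, kj] using H (mem_union_left _ (IsFrame.mem_supp.2 h3))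
  · simpa [ki, kj] using H (mem_union_right _ (IsFrame.mem_supp.2 h3))

end Fr6

end Form

end Cfsg.Lib.Forms
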