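import Cfsg.Agent.Lib.K4.Fm6b

/-!
# Stabilisers of orthogonal frames in dimension six: involutions fix a unique frame
-/

namespace Cfsg.Lib.Forms

open Module Form Submodule Finset

variable {F V : Type*} [Field F] [AddCommGroup V] [Module F V]

namespace Form

variable {D : Form (quadKind F) V} {X : Subgroup D.isom} {ι : Type*}

theorem perp_of_eigen6 (h2 : (2 : F) ≠ 0) {d : D.isom} {x z : V} (hx : d.1 x = x) (hz : d.1 z = -z) :
    D.B x z = 0 := by
  have := B_isom d x z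
  rw [hx, hz, map_neg] at this
  exact (mul_eq_zero.1 (by linear_combination -this)).resolve_left h2

namespace Fr6

variable {e y : ι → V} {c : F} (h : D.Fr6 X e c) [DecidableEq ι] [Fintype ι] [FiniteDimensional F V]
  (hn : Fintype.card ι = 6)
include h hn

theorem mem_dec_of_set {A : Finset ι} (hA : #A = 2) {k : D.isom} (hk : k ∈ X)
    (H : ∀ i ∈ A, ∀ l ∉ A, D.B (e l) (k.1 (e i)) = 0) : k ∈ D.dec fun i => F ∙ e i := by
  obtain ⟨i, j, ij, rfl⟩ := card_eq_two.1 hA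
  obtain ⟨a, b, hab⟩ := (h.map hk).share_of_supp hn h ij hA.le (union_subset
    (fun l hl => by_contra fun h1 => IsFrame.mem_supp.1 hl (H i (by simp) l h1))
    fun l hl => by_contra fun h1 => IsFrame.mem_supp.1 hl (H j (by simp) l h1))
  exact h.line k hk b a (h.fr.flip6 hab)

theorem mem_dec_of_diag {N : Finset ι} (hN : #N = 2 ∨ #N = 4) {w k : D.isom} (h1 : ∀ i ∈ N, w.1 (e i) = -e i)
    (h2 : ∀ i ∉ N, w.1 (e i) = e i) (hk : k ∈ X) (hc : k * w = w * k) : k ∈ D.dec fun i => F ∙ e i := by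
  have k1 : ∀ x, w.1 (k.1 x) = k.1 (w.1 x) := fun x => by rw [← isom_mul_apply, ← hc, isom_mul_apply]
  rcases hN with hN | hN
  · exact h.mem_dec_of_set hn hN hk fun i hi l hl =>
      perp_of_eigen6 h.fr.two (h2 l hl) (by rw [k1, h1 i hi, map_neg])
  · exact h.mem_dec_of_set hn (A := Nᶜ) (by rw [card_compl]; omega) hk fun i hi l hl => D.eq_zero_symm
      (perp_of_eigen6 h.fr.two (by rw [k1, h2 i (mem_compl.1 hi)]) (h1 l (by simpa using hl)))

theorem mem_dec_of_comm {i j : ι} (ij : i ≠ j) {k : D.isom} (hk : k ∈ X)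
    (hc : k * (D.refl (e i) * D.refl (e j)) = D.refl (e i) * D.refl (e j) * k) : k ∈ D.dec fun i => F ∙ e i :=
  h.mem_dec_of_diag hn (N := {i, j}) (Or.inl (card_pair ij)) (fun l hl => by
    simp only [mem_insert, mem_singleton] at hl
    rcases hl with rfl | rfl <;> simp [isom_mul_apply, h.fr.refl_e, ij, ij.symm]) (fun l hl => by
    simp only [mem_insert, mem_singleton, not_or] at hl
    simp [isom_mul_apply, h.fr.refl_e, Ne.symm hl.1, Ne.symm hl.2]) hk hc

theorem share_of_mem (hy : D.Fr6 X y c) {i j : ι} (ij : i ≠ j)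
    (H : D.refl (y i) * D.refl (y j) ∈ D.dec fun i => F ∙ e i) : ∃ a b, y a ∈ F ∙ e b := by
  classical
  have c0 := h.fr.ne
  have t0 := h.fr.two
  have qe : ∀ a, D.Q (e a) ≠ 0 := fun a => h.fr.Q a ▸ c0
  have d1 := h.fr.card_moved_two H (S := {m | (D.refl (y i) * D.refl (y j)).1 (e m) ≠ e m})
    fun m hm => (mem_filter.1 hm).2
  have d2 : ∀ x, (D.refl (y i) * D.refl (y j)).1 x = x → D.B (y i) x = 0 ∧ D.B (y j) x = 0 := fun x hx =>
    IsFrame.perp_of_fix (hy.fr.Q i ▸ c0) (hy.fr.Q j ▸ c0) t0 (hy.fr.B _ _ ij) hx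
  have d3 : ∀ l, l ∉ ({i, j} : Finset ι) → (D.refl (y i) * D.refl (y j)).1 (y l) = y l := fun l hl => by
    simp only [mem_insert, mem_singleton, not_or] at hl
    simp [isom_mul_apply, hy.fr.refl_e, Ne.symm hl.1, Ne.symm hl.2]
  have d4 : ∀ k ∈ X, k * (D.refl (y i) * D.refl (y j)) = D.refl (y i) * D.refl (y j) * k →
      k ∈ D.dec fun i => F ∙ y i := fun k hk hc => hy.mem_dec_of_comm hn ij hk hc
  have d5 : ∀ x, (D.refl (y i) * D.refl (y j)).1 ((D.refl (y i) * D.refl (y j)).1 x) = x := fun x => by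
    rw [← isom_mul_apply, mul_assoc (D.refl _), ← mul_assoc (D.refl (y j)), ← refl_comm (hy.fr.B _ _ ij),
      mul_assoc (D.refl _), refl_mul_self, mul_one, refl_mul_self]; rfl
  have d6 := hy.r i j
  generalize D.refl (y i) * D.refl (y j) = d at *
  have d7 : ∀ u v, D.refl u * D.refl v ∈ X → D.refl (d.1 u) * D.refl (d.1 v) = D.refl u * D.refl v → ∀ w,
      d.1 w = w → (∀ x, d.1 x = x → (D.refl u).1 ((D.refl v).1 x) = (D.refl w).1 x) →
      D.refl w ∈ D.dec fun i => F ∙ y i := fun u v h1 h2 w h3 h4 =>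
    hy.fr.refl_mem_of6 (d4 _ h1 (by rw [eq_comm, ← mul_inv_eq_iff_eq_mul, conj_refl_two6, h2])) fun l => by
      by_cases hl : l ∈ ({i, j} : Finset ι)
      · simp only [mem_insert, mem_singleton] at hl
        rcases hl with rfl | rfl
        exacts [Or.inl (D.eq_zero_symm (d2 w h3).1), Or.inl (D.eq_zero_symm (d2 w h3).2)]
      · exact Or.inr (h4 _ (d3 l hl))
  have d8 : ∀ v z, d.1 v = v → d.1 z = -z → D.refl v * D.refl z ∈ X → D.refl v ∈ D.dec fun i => F ∙ y i :=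
    fun v z h1 h2 h3 => d7 v z h3 (by rw [h1, h2, refl_neg]) v h1 fun x hx => by
      rw [refl_apply_of_perp (D.eq_zero_symm (perp_of_eigen6 t0 hx h2))]
  have d9 : ∀ v, D.Q v ≠ 0 → D.B v (d.1 v) = 0 → D.refl v * D.refl (d.1 v) ∈ X →
      D.refl (v + d.1 v) ∈ D.dec fun i => F ∙ y i := fun v h1 h2 h3 =>
    d7 _ _ h3 (by rw [d5, refl_comm h2]) _ (by rw [map_add, d5, add_comm]) fun x hx => by
      have h4 : D.B (d.1 v) x = D.B v x := by rw [← hx, B_isom, hx]
      simp only [refl_apply, D.B_lin, h2, h4, D.Q_add_of_B h2, Q_isom, ← two_mul]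
      match_scalars <;> field_simp <;> ring
  have h2 := card_filter_add_card_filter_not (s := univ) fun m => d.1 (e m) ≠ e m
  obtain ⟨a, ha, b, hb, ab⟩ := one_lt_card.1 (by rw [card_univ] at h2; omega : 1 < #{m | ¬ d.1 (e m) ≠ e m})
  replace ha : d.1 (e a) = e a := by simpa using ha
  replace hb : d.1 (e b) = e b := by simpa using hb
  by_cases hS : #{m | d.1 (e m) ≠ e m} ≤ 2
  · obtain ⟨a, b, hab⟩ := hy.share_of_supp hn h ij hS (union_subset
      (fun l hl => by_contra fun h1 => IsFrame.mem_supp.1 hl (D.eq_zero_symm (d2 _ (by simpa using h1)).1))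
      fun l hl => by_contra fun h1 => IsFrame.mem_supp.1 hl (D.eq_zero_symm (d2 _ (by simpa using h1)).2))
    exact ⟨b, a, h.fr.flip6 hab⟩
  obtain ⟨π, hπ⟩ := h.fr.exists_perm H
  have k0 : ∀ m, π m = m → d.1 (e m) ≠ e m → d.1 (e m) = -e m := fun m h1 h3 => by
    simpa [h1, h3] using hπ m
  by_cases hp : ∃ p, π p ≠ p
  swap
  · push Not at hp
    obtain ⟨m, hm, n, hm', mn⟩ := one_lt_card.1 (by omega : 1 < #{m | d.1 (e m) ≠ e m})
    exact h.share_of_supp hn hy mn card_le_two (union_subset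
      (fun l hl => by_contra fun h1 => IsFrame.mem_supp.1 hl
        (perp_of_eigen6 t0 (d3 l h1) (k0 m (hp m) (by simpa using hm))))
      fun l hl => by_contra fun h1 => IsFrame.mem_supp.1 hl
        (perp_of_eigen6 t0 (d3 l h1) (k0 n (hp n) (by simpa using hm'))))
  obtain ⟨p, hp⟩ := hp
  have k1 : ∀ l m, D.B (e l) (d.1 (e m)) ≠ 0 ↔ l = π m := fun l m => by
    rcases hπ m with h1 | h1 <;> simp [h1, h.fr.B_eq, t0, c0]
  have k2 : ∀ m, π (π m) = m := fun m => ((k1 _ _).1 (by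
    rw [← B_isom d, d5]; exact D.ne_zero_symm ((k1 _ _).2 rfl))).symm
  have k3 : ∀ m, d.1 (e m) = e m → π m = m := fun m h1 => ((k1 _ _).1 (by simp [h1, h.fr.B_eq, t0, c0])).symm
  have k4 : ∀ l m, l ≠ π m → D.B (e l) (d.1 (e m)) = 0 := fun l m h1 => by_contra fun h3 => h1 ((k1 _ _).1 h3)
  have pa : ∀ p, π p ≠ p → p ≠ a ∧ p ≠ b := fun p hp =>
    ⟨by rintro rfl; exact hp (k3 _ ha), by rintro rfl; exact hp (k3 _ hb)⟩
  have hq : ∀ p, π p ≠ p → π (π p) ≠ π p := fun p hp => π.injective.ne hp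
  have hab : d.1 (e a - e b) = e a - e b := by rw [map_sub, ha, hb]
  by_cases hs : ∃ s, d.1 (e s) = -e s
  · obtain ⟨s, hs⟩ := hs
    refine h.share_of_supp hn hy ab (hy.fr.card_union_le6 (qe a) (by rw [h.fr.Q, h.fr.Q]) (h.fr.B _ _ ab)
      (d8 _ _ ha hs (h.r a s)) (d8 _ _ hb hs (h.r b s))
      (d8 _ (e p - d.1 (e p)) hab (by rw [map_sub, d5, neg_sub]) ?_)) subset_rfl
    rcases hπ p with h1 | h1 <;> rw [h1]
    · exact h.s _ _ _ _ ab hp.symm
    obtain ⟨m, hm⟩ := IsFrame.exists_not_mem {a, b, p, π p} (card_le_four.trans_lt (by omega))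
    simp only [mem_insert, mem_singleton, not_or] at hm
    have := X.mul_mem (X.mul_mem (h.r (π p) m) (h.s _ _ _ _ ab hp.symm)) (X.inv_mem (h.r (π p) m))
    rw [conj_refl_two6] at this
    simpa [isom_mul_apply, h.fr.refl_e, hm, hp, pa _ (hq p hp)] using this
  push Not at hs
  obtain ⟨p', h3⟩ : ∃ p', p' ∈ ({m | d.1 (e m) ≠ e m} : Finset ι) \ {p, π p} := card_pos.1 (by
    have := le_card_sdiff {p, π p} ({m | d.1 (e m) ≠ e m} : Finset ι)
    have := card_le_two (a := p) (b := π p)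
    omega)
  simp only [mem_sdiff, mem_filter, mem_univ, true_and, mem_insert, mem_singleton, not_or] at h3
  have hp' : π p' ≠ p' := fun h4 => hs _ (k0 _ h4 h3.1)
  have h4 : p ≠ π p' := fun h4 => h3.2.2 (by rw [h4, k2])
  have k5 : ∀ p, π p ≠ p → D.refl (e p + d.1 (e p)) ∈ D.dec fun i => F ∙ y i := fun p hp =>
    d9 _ (qe p) (k4 _ _ hp.symm) (by rcases hπ p with h1 | h1 <;> simp [h1, refl_neg, h.r])
  have k6 : ∀ p, π p ≠ p → D.Q (e p + d.1 (e p)) = 2 * c := fun p hp => by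
    rw [D.Q_add_of_B (k4 _ _ hp.symm), Q_isom, h.fr.Q, two_mul]
  have k7 : D.B (e p + d.1 (e p)) (e p' + d.1 (e p')) = 0 := by
    simp [h.fr.B _ _ (Ne.symm h3.2.1), k4 _ _ h4, quad_symm D (d.1 (e p)) (e p'), k4 _ _ h3.2.2]
  have k8 := d9 (e p - e p') (by rw [h.fr.Q_sub (Ne.symm h3.2.1)]; exact mul_ne_zero t0 c0)
    (by simp [k4 _ _ h4, k4 _ _ h3.2.2, k4 _ _ hp.symm, k4 _ _ hp'.symm]) (by
      have := X.mul_mem (h.s _ _ _ _ (Ne.symm h3.2.1) ab)
        (X.mul_mem (X.mul_mem d6 (h.s _ _ _ _ ab (Ne.symm h3.2.1))) (X.inv_mem d6))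
      rwa [conj_refl_two6, hab, mul_assoc, ← mul_assoc (D.refl (e a - e b)), refl_mul_self, one_mul] at this)
  rw [map_sub, ← add_sub_add_comm] at k8
  have q := mul_ne_zero t0 c0
  obtain ⟨k9, k10⟩ := hy.fr.perp_of_two6 (k6 p hp ▸ q) (k6 p' hp' ▸ q) k7 (hy.fr.card_union_le6 (k6 p hp ▸ q)
    (by rw [k6 p hp, k6 p' hp']) k7 (k5 p hp) (k5 p' hp') k8) subset_rfl
  have k11 : ∀ p, d.1 (e p + d.1 (e p)) = e p + d.1 (e p) := fun p => by rw [map_add, d5, add_comm]
  have k12 : Disjoint (IsFrame.supp D y (e p + d.1 (e p)) ∪ IsFrame.supp D y (e p' + d.1 (e p'))) {i, j} :=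
    disjoint_right.2 fun l hl => by
      simp only [mem_insert, mem_singleton] at hl
      rcases hl with rfl | rfl <;> simp only [mem_union, IsFrame.mem_supp, d2 _ (k11 _)] <;> simp
  have k13 : ∀ a, d.1 (e a) = e a → IsFrame.supp D y (e a) ⊆
      (IsFrame.supp D y (e p + d.1 (e p)) ∪ IsFrame.supp D y (e p' + d.1 (e p')) ∪ {i, j})ᶜ := fun a ha l hl => by
    have k : ∀ p, π p ≠ p → D.B (e p + d.1 (e p)) (e a) = 0 := fun p hp => by
      have : p ≠ a := by rintro rfl; exact hp (k3 _ ha)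
      rw [map_add, LinearMap.add_apply, ← ha, B_isom, ha, h.fr.B _ _ this, add_zero]
    rw [mem_compl, mem_union]
    rintro (h5 | h5)
    · exact IsFrame.mem_supp.1 hl (k10 l h5 _ (k p hp) (k p' hp'))
    · simp only [mem_insert, mem_singleton] at h5
      rcases h5 with rfl | rfl
      exacts [IsFrame.mem_supp.1 hl (d2 _ ha).1, IsFrame.mem_supp.1 hl (d2 _ ha).2]
  exact h.share_of_supp hn hy ab (by rw [card_compl, card_union_of_disjoint k12, k9, card_pair ij, hn])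
    (union_subset (k13 a ha) (k13 b hb))

theorem mem_dec_of_conj {g : D.isom} {a b : ι} (ab : a ≠ b) (hg : g ∈ X)
    (H : g * (D.refl (e a) * D.refl (e b)) * g⁻¹ ∈ D.dec fun i => F ∙ e i) : g ∈ D.dec fun i => F ∙ e i := by
  obtain ⟨i, j, hij⟩ := h.share_of_mem hn (h.map hg) ab (conj_refl_two6 g _ _ ▸ H)
  exact h.line g hg i j hij

end Fr6

end Form

end Cfsg.Lib.Forms
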