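import Cfsg.Agent.Lib.K4.Fm6c

/-!
# Stabilisers of orthogonal frames in dimension six
-/

namespace Cfsg.Lib.Forms

open Module Form Submodule Finset

theorem Qd.exists_family {G : Type*} [Group G] [Finite G] {X H : Subgroup G} {D : Set G} (hX : D ⊆ X)
    (hD : ∀ g ∈ X, ∀ t ∈ D, g * t * g⁻¹ ∈ D)
    (inv : ∀ t ∈ D, t * t = 1) (uq : ∀ t ∈ D, t ∈ H → ∀ g ∈ X, g * t * g⁻¹ ∈ H → g ∈ H)
    (odd : ∀ t ∈ D, t ∈ H → ∀ t' ∈ D, t' ∉ H → Odd (orderOf (t * t')))
    {κ : Type*} {a : κ → G} (ha : ∀ i, a i ∈ D) (h1 : ∀ i, a i ∈ H) (i₀ : κ) (h4 : ¬ X ≤ H) :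
    ∃ c : κ → G, (∀ i, c i ∈ D ∧ c i ∉ H) ∧ ∀ i j, c i * c j ∈ H ∧
      ∀ t ∈ D, t ∈ H → t * (c i * c j) = c i * c j * t → a i = a j := by
  obtain ⟨g, hg, h4⟩ := SetLike.not_le_iff_exists.1 h4
  have hb := hD g hg _ (ha i₀)
  have hb' := mt (uq _ (ha i₀) (h1 i₀) g hg) h4
  generalize g * a i₀ * g⁻¹ = b at hb hb'
  have k : ∀ i, ∃ c ∈ D, c ∉ H ∧ c * a i * c = b := fun j => by
    obtain ⟨i, hi⟩ := Qd.exists_mid (inv _ (ha j)) (inv b hb) (odd _ (ha j) (h1 j) b hb hb')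
    have h5 := hD _ (X.inv_mem (X.pow_mem (X.mul_mem (hX (ha j)) (hX hb)) i)) _ (ha j)
    rw [inv_inv] at h5
    exact ⟨_, h5, fun h => hb' (hi ▸ H.mul_mem (H.mul_mem h (h1 j)) h), hi⟩
  choose c c1 c2 c3 using k
  refine ⟨c, fun i => ⟨c1 i, c2 i⟩, fun i j => ?_⟩
  have d1 := c1 j
  have d2 := c2 j
  have d3 := c3 j
  replace c1 := c1 i
  replace c2 := c2 i
  replace c3 := c3 i
  generalize c i = c, c j = d at *
  have c4 := inv c c1
  have d4 := inv d d1
  have c5 : c⁻¹ = c := inv_eq_of_mul_eq_one_right c4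
  have d5 : d⁻¹ = d := inv_eq_of_mul_eq_one_right d4
  refine ⟨uq _ (ha j) (h1 j) _ (X.mul_mem (hX c1) (hX d1)) (by
    rw [mul_inv_rev, c5, d5, show c * d * a j * (d * c) = c * (d * a j * d) * c by group, d3, ← c3,
      show c * (c * a i * c) * c = (c * c) * a i * (c * c) by group, c4, one_mul, mul_one]
    exact h1 i), fun t t1 t2 t3 => ?_⟩
  have t4 : (t * c) ^ 2 = (t * d) ^ 2 := by
    rw [sq, sq, mul_assoc, mul_assoc, mul_right_inj, ← c5, inv_mul_eq_iff_eq_mul, ← mul_assoc c,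
      ← mul_assoc (c * d), ← t3, mul_assoc, mul_assoc, d4, mul_one, c5]
  obtain ⟨m, hm⟩ := (odd t t1 t2 c c1 c2).mul (odd t t1 t2 d d1 d2)
  have t5 : ∀ x : G, orderOf x ∣ 2 * m + 1 → (x ^ 2) ^ (m + 1) = x := fun x hx => by
    rw [← pow_mul, show 2 * (m + 1) = 2 * m + 1 + 1 by ring, pow_succ, orderOf_dvd_iff_pow_eq_one.1 hx,
      one_mul]
  obtain rfl : c = d := mul_left_cancel (a := t) (by
    rw [← t5 (t * c) (hm ▸ dvd_mul_right _ _), t4, t5 _ (hm ▸ dvd_mul_left _ _)])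
  exact mul_left_cancel (mul_right_cancel (c3.trans d3.symm))

variable {F V : Type*} [Field F] [AddCommGroup V] [Module F V]

namespace Form

variable {D : Form (quadKind F) V} {X : Subgroup D.isom} {ι : Type*}

theorem IsFrame.map6 {e : ι → V} {c : F} (h : D.IsFrame e c) (g : D.isom) : D.IsFrame (fun i => g.1 (e i)) c :=
  ⟨h.ne, h.two, fun i => by rw [Q_isom, h.Q], fun i j ij => by rw [B_isom, h.B _ _ ij], fun x hx => by
    rw [← isom_apply_inv g x, h.ext (g⁻¹.1 x) fun i => (B_isom_left g _ _).symm.trans (hx i), map_zero]⟩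

namespace Fr6

variable {e : ι → V} {c : F} (h : D.Fr6 X e c) [DecidableEq ι] [Fintype ι] [FiniteDimensional F V]
  (hn : Fintype.card ι = 6)
include h hn

theorem exists_comm (hD : D.Nondeg) {y z y' z' : V} (h1 : D.refl y * D.refl z ∈ X)
    (h2 : D.refl y * D.refl z ∉ D.dec fun i => F ∙ e i)
    (h3 : D.refl y * D.refl z * (D.refl y' * D.refl z') ∈ D.dec fun i => F ∙ e i) {o : ι}
    (h4 : (D.refl y * D.refl z * (D.refl y' * D.refl z')).1 (e o) ∈ F ∙ e o) : ∃ a b, a ≠ b ∧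
      D.refl (e a) * D.refl (e b) * (D.refl y * D.refl z * (D.refl y' * D.refl z')) =
        D.refl y * D.refl z * (D.refl y' * D.refl z') * (D.refl (e a) * D.refl (e b)) := by
  classical
  have c0 := h.fr.ne
  have t0 := h.fr.two
  obtain ⟨k, hk⟩ := IsFrame.exists_not_mem {o} (by simp [hn])
  obtain ⟨v, hv, v0⟩ : ∃ v ∈ D.perp (span F (({y, z, y', z', e k} : Finset V) : Set V)), v ≠ 0 :=
    (Submodule.ne_bot_iff _).1 fun h5 => by
      have h6 := hD.finrank_perp (span F (({y, z, y', z', e k} : Finset V) : Set V))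
      have h7 := (finrank_span_finset_le_card (R := F) ({y, z, y', z', e k} : Finset V)).trans card_le_five
      have h8 := h.fr.card_le_finrank (W := ⊤) (S := univ) (by simp)
      unfold Set.finrank at h7
      rw [h5, finrank_bot] at h6
      rw [card_univ, finrank_top] at h8
      omega
  simp only [mem_perp_span, coe_insert, coe_singleton, Set.mem_insert_iff, Set.mem_singleton_iff,
    forall_eq_or_imp, forall_eq] at hv
  have v1 : (D.refl y * D.refl z).1 v = v := by simp [isom_mul_apply, refl_apply, hv]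
  have v2 : (D.refl y * D.refl z * (D.refl y' * D.refl z')).1 v = v := by simp [isom_mul_apply, refl_apply, hv]
  generalize D.refl y * D.refl z * (D.refl y' * D.refl z') = w at *
  obtain ⟨π, hπ⟩ := h.fr.exists_perm h3
  have k1 : ∀ N : Finset ι, (∀ l, π l ∈ N ↔ l ∈ N) → #N = 2 → ∃ a b, a ≠ b ∧
      D.refl (e a) * D.refl (e b) * w = w * (D.refl (e a) * D.refl (e b)) := fun N h5 h6 => by
    obtain ⟨a, b, ab, rfl⟩ := card_eq_two.1 h6
    refine ⟨a, b, ab, ?_⟩
    have k : ∀ l, D.refl (w.1 (e l)) = D.refl (e (π l)) := fun l => by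
      rcases hπ l with h7 | h7 <;> simp [h7, refl_neg]
    rw [eq_comm, ← mul_inv_eq_iff_eq_mul, conj_refl_two6, k, k]
    have h7 := (h5 a).2 (by simp)
    have h8 := (h5 b).2 (by simp)
    have h9 := π.injective.ne ab
    simp only [mem_insert, mem_singleton] at h7 h8
    rcases h7 with h7 | h7 <;> rcases h8 with h8 | h8 <;> rw [h7, h8] at h9 ⊢
    exacts [(h9 rfl).elim, refl_comm (h.fr.B _ _ ab.symm), (h9 rfl).elim]
  have k2 : ∀ N : Finset ι, (∀ l, π l ∈ N ↔ l ∈ N) → #N = 4 → ∃ a b, a ≠ b ∧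
      D.refl (e a) * D.refl (e b) * w = w * (D.refl (e a) * D.refl (e b)) := fun N h5 h6 =>
    k1 Nᶜ (by simp [h5]) (by rw [card_compl]; omega)
  have k3 : ∀ l, π l = o ↔ l = o := fun l => by
    have : π o = o := by_contra fun h5 => by
      obtain ⟨t, ht⟩ := mem_span_singleton.1 h4
      have := congrArg (D.B (e (π o))) ht
      rcases hπ o with h6 | h6 <;> simp [h6, h.fr.B_eq, h5, t0, c0] at this
    conv_lhs => rw [← this]
    simp
  have k4 : ∀ l, π l ∈ (IsFrame.supp D e v).erase o ↔ l ∈ (IsFrame.supp D e v).erase o := fun l => by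
    have := B_isom w (e l) v
    rw [v2] at this
    rcases hπ l with h6 | h6 <;> simp [IsFrame.mem_supp, k3, ← this, h6]
  have k5 : ∀ l, π l ∈ insert o ((IsFrame.supp D e v).erase o) ↔ l ∈ insert o ((IsFrame.supp D e v).erase o) :=
    fun l => by rw [mem_insert, mem_insert, k3, k4]
  have k6 := card_insert_of_notMem (notMem_erase o (IsFrame.supp D e v))
  have k7 : #((IsFrame.supp D e v).erase o) ≤ 4 := (card_le_card (t := {k, o}ᶜ) fun l hl => by
    simp only [mem_erase, IsFrame.mem_supp] at hl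
    simp only [mem_compl, mem_insert, mem_singleton, not_or]
    exact ⟨by rintro rfl; exact hl.2 hv.2.2.2.2, hl.1⟩).trans (by
      rw [card_compl, card_pair (by simpa using hk), hn])
  have k8 : #((IsFrame.supp D e v).erase o) ≠ 0 := fun h5 => h2 (h.line _ h1 o o (by
    obtain ⟨t, rfl⟩ := mem_span_singleton.1 (h.fr.mem_of (x := v) (A := F ∙ e o) fun a ha => by
      obtain rfl : a = o := by_contra fun h6 =>
        notMem_empty a (card_eq_zero.1 h5 ▸ mem_erase.2 ⟨h6, IsFrame.mem_supp.2 ha⟩)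
      exact mem_span_singleton_self _)
    rw [map_smul, smul_right_inj (by rintro rfl; simp at v0)] at v1
    exact v1.symm ▸ mem_span_singleton_self _))
  obtain h5 | h5 | h5 | h5 : #((IsFrame.supp D e v).erase o) + 1 = 2 ∨ #((IsFrame.supp D e v).erase o) = 2 ∨
    #((IsFrame.supp D e v).erase o) + 1 = 4 ∨ #((IsFrame.supp D e v).erase o) = 4 := by omega
  exacts [k1 _ k5 (k6.trans h5), k1 _ k4 h5, k2 _ k5 (k6.trans h5), k2 _ k4 h5]

theorem le_dec [Finite F] (hD : D.Nondeg) : X ≤ D.dec fun i => F ∙ e i := by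
  classical
  have := Module.finite_of_finite F (M := V)
  have := D.finite_isom
  have c0 := h.fr.ne
  have t00 := h.fr.two
  let T : Set D.isom := {t | ∃ g ∈ X, ∃ a b, a ≠ b ∧ t = g * (D.refl (e a) * D.refl (e b)) * g⁻¹}
  have t0 : ∀ a b, a ≠ b → D.refl (e a) * D.refl (e b) ∈ T := fun a b ab => ⟨1, X.one_mem, a, b, ab, by simp⟩
  have t1 : T ⊆ X := by rintro _ ⟨g, hg, a, b, -, rfl⟩; exact X.mul_mem (X.mul_mem hg (h.r a b)) (X.inv_mem hg)
  have t2 : ∀ g ∈ X, ∀ t ∈ T, g * t * g⁻¹ ∈ T := by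
    rintro g hg _ ⟨k, hk, a, b, ab, rfl⟩; exact ⟨g * k, X.mul_mem hg hk, a, b, ab, by group⟩
  have t3 : ∀ t ∈ T, t * t = 1 := by
    rintro _ ⟨k, hk, a, b, ab, rfl⟩
    rw [conj_mul, mul_assoc (D.refl _), ← mul_assoc (D.refl (e b)), ← refl_comm (h.fr.B _ _ ab),
      mul_assoc (D.refl _), refl_mul_self, mul_one, refl_mul_self]; simp
  have t4 : ∀ t ∈ T, t ∈ D.dec (fun i => F ∙ e i) → ∃ a b, a ≠ b ∧ t = D.refl (e a) * D.refl (e b) := by
    rintro _ ⟨k, hk, a, b, ab, rfl⟩ H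
    obtain ⟨π, hπ⟩ := h.fr.exists_perm (h.mem_dec_of_conj hn ab hk H)
    refine ⟨π a, π b, π.injective.ne ab, ?_⟩
    rw [conj_refl_two6]
    rcases hπ a with h1 | h1 <;> rcases hπ b with h2 | h2 <;> simp [h1, h2, refl_neg]
  have t5 : ∀ {a b}, a ≠ b → ∀ i, (D.refl (e a) * D.refl (e b)).1 (e i) =
      if i ∈ ({a, b} : Finset ι) then -e i else e i := fun {a b} ab i => by
    by_cases ha : a = i
    · subst ha; simp [isom_mul_apply, h.fr.refl_e, ab.symm]
    by_cases hb : b = i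
    · subst hb; simp [isom_mul_apply, h.fr.refl_e, ab]
    simp [isom_mul_apply, h.fr.refl_e, ha, hb, Ne.symm ha, Ne.symm hb]
  let σ := (Fintype.equivFinOfCardEq hn).symm
  let p : Fin 7 → Fin 6 := ![0, 0, 0, 0, 0, 1, 1]
  let q : Fin 7 → Fin 6 := ![1, 2, 3, 4, 5, 2, 3]
  have p1 : ∀ m, p m ≠ q m := by decide
  have p2 : ∀ m n, m ≠ n → ∃ l, (l = p m ∨ l = q m) ∧ l ≠ p n ∧ l ≠ q n := by decide
  by_contra hno
  refine (Qd.exists_family t1 t2 t3 (fun t ht h1 g hg h2 => ?_)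
    (fun t ht h1 t' ht' h2 => by_contra fun h3 => ?_) (a := fun m => D.refl (e (σ (p m))) * D.refl (e (σ (q m))))
    (fun m => t0 _ _ (σ.injective.ne (p1 m))) (fun m => mul_mem (h.fr.refl_mem _) (h.fr.refl_mem _)) 0 hno).elim
    fun f ⟨f1, f2⟩ => ?_
  rotate_right
  · choose ψ hψ using fun m => h.fr.mem_dec_iff.1 (f2 0 m).1 (σ 0)
    obtain ⟨m, n, mn, h1⟩ := Fintype.exists_ne_map_eq_of_card_lt ψ (by simp [hn])
    have h2 : (f m * f n).1 (e (σ 0)) ∈ F ∙ e (σ 0) := by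
      obtain ⟨s, hs⟩ := mem_span_singleton.1 (hψ n)
      obtain ⟨t, ht⟩ := mem_span_singleton.1 ((h.fr.map6 (f 0 * f m)).flip6 (i := σ 0) (h1 ▸ hψ m))
      refine mem_span_singleton.2 ⟨s * t, ?_⟩
      rw [show f m * f n = (f 0 * f m)⁻¹ * (f 0 * f n) by
        rw [mul_inv_rev, mul_assoc, inv_mul_cancel_left, inv_eq_of_mul_eq_one_right (t3 _ (f1 m).1)],
        isom_mul_apply, ← hs, ← ht]
      simp [mul_smul]
    obtain ⟨g, hg, a, b, -, h3⟩ := (f1 m).1
    obtain ⟨g', -, a', b', -, h4⟩ := (f1 n).1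
    have h5 := f2 m n
    have h6 := (f1 m).2
    have h7 := t1 (f1 m).1
    rw [h3, conj_refl_two6] at h2 h5 h6 h7
    rw [h4, conj_refl_two6] at h2 h5
    obtain ⟨i, j, ij, h8⟩ := h.exists_comm hn hD h7 h6 h5.1 h2
    obtain ⟨l, l1, l2⟩ := p2 m n mn
    have := congrArg (fun g : D.isom => D.B (e (σ l)) (g.1 (e (σ l))))
      (h5.2 _ (t0 i j ij) (mul_mem (h.fr.refl_mem _) (h.fr.refl_mem _)) h8)
    simp only [t5 (σ.injective.ne (p1 _)), mem_insert, mem_singleton, σ.injective.eq_iff, l1, l2, if_true,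
      or_self, if_false, map_neg, h.fr.B_eq] at this
    exact mul_ne_zero t00 (mul_ne_zero t00 c0) (by linear_combination -this)
  · obtain ⟨a, b, ab, rfl⟩ := t4 t ht h1
    exact h.mem_dec_of_conj hn ab hg h2
  · obtain ⟨w, w1, w2, w3, i, w4⟩ := Qd.exists_central (t3 t ht) (t3 t' ht') h3
    have h4 := X.pow_mem (X.mul_mem (t1 ht) (t1 ht')) i
    have h5 : t * w ∈ T := by
      rcases w4 with w4 | w4 <;> rw [w4]
      exacts [by simpa using t2 _ (X.inv_mem h4) _ ht, by simpa using t2 _ (X.inv_mem h4) _ ht']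
    obtain ⟨k, l, kl, rfl⟩ := t4 t ht h1
    obtain ⟨p, q, pq, h6⟩ := t4 _ h5 (mul_mem h1 (h.mem_dec_of_comm hn kl
      ((X.mul_mem_cancel_left (t1 ht)).1 (t1 h5)) w2.symm))
    rw [← eq_inv_mul_iff_mul_eq, mul_inv_rev, refl_inv, refl_inv] at h6
    have h7 : ∀ i, w.1 (e i) = if i ∈ ({l, k} \ {p, q} ∪ {p, q} \ {l, k} : Finset ι) then -e i else e i :=
      fun i => by
        rw [h6, isom_mul_apply, t5 pq]
        by_cases h8 : i ∈ ({p, q} : Finset ι) <;> by_cases h9 : i ∈ ({l, k} : Finset ι) <;>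
          simp only [h8, h9, if_true, if_false, map_neg, t5 kl.symm, neg_neg, mem_union, mem_sdiff, not_true,
            not_false_eq_true, and_true, and_false, or_self, or_true, true_or]
    refine h2 (h.mem_dec_of_diag hn (N := {l, k} \ {p, q} ∪ {p, q} \ {l, k}) ?_ (fun i hi => by rw [h7, if_pos hi])
      (fun i hi => by rw [h7, if_neg hi]) (t1 ht') w3)
    have h8 := card_sdiff_comm ((card_pair kl.symm).trans (card_pair pq).symm)
    have h9 := (card_le_card (sdiff_subset (s := {p, q}) (t := {l, k}))).trans card_le_two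
    have h10 : #({l, k} \ {p, q} ∪ {p, q} \ {l, k} : Finset ι) ≠ 0 := fun h10 =>
      w1 (h.fr.isom_eq fun i => by rw [h7, card_eq_zero.1 h10]; simp)
    rw [card_union_of_disjoint disjoint_sdiff_sdiff] at h10 ⊢
    omega

end Fr6

theorem IsFrame.E_le_six {e : ι → V} {c : F} (h : D.IsFrame e c) [DecidableEq ι] [Fintype ι] [Fintype F]
    [FiniteDimensional F V] (hp : (Fintype.card F).Prime) (hD : D.Nondeg) (hn : finrank F V = 6)
    (hc : Fintype.card ι = finrank F V) (X : Subgroup D.isom) (h1 : D.E ⊓ D.dec (fun i => F ∙ e i) ≤ X)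
    (h4 : ¬ X ≤ D.dec fun i => F ∙ e i) : D.E ≤ X := by
  by_contra hno
  have q : ∀ i, D.Q (e i) ≠ 0 := fun i => h.Q i ▸ h.ne
  have q' : ∀ {i j}, i ≠ j → D.Q (e i - e j) ≠ 0 := fun ij => h.Q_sub ij ▸ mul_ne_zero h.two h.ne
  have hr : ∀ i j, D.refl (e i) * D.refl (e j) ∈ X := fun i j =>
    h1 ⟨(Quad.mem_E_iff hD (by omega)).2 (by simp [dickson_refl hD (q _), spinor_refl hD (q _), h.Q]),
      mul_mem (h.refl_mem i) (h.refl_mem j)⟩
  have hs : ∀ i j k l, i ≠ j → k ≠ l → D.refl (e i - e j) * D.refl (e k - e l) ∈ X := fun i j k l ij kl =>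
    h1 ⟨(Quad.mem_E_iff hD (by omega)).2 (by
      simp [dickson_refl hD (q' ij), spinor_refl hD (q' ij), dickson_refl hD (q' kl), spinor_refl hD (q' kl),
        h.Q_sub ij, h.Q_sub kl]), mul_mem (h.refl_sub_mem ij) (h.refl_sub_mem kl)⟩
  exact h4 (Fr6.le_dec ⟨h, hr, hs, fun g hg a b H => h.mem_dec_of_line6 hp hD hr hs (hc.trans hn) hno hg H⟩
    (hc.trans hn) hD)

end Form

end Cfsg.Lib.Forms
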