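import Cfsg.Agent.Lib.Max2.Fr2

/-! Overgroups of the monomial group in `SL_4`: stabilisers of frame points. -/

set_option autoImplicit false
set_option linter.unusedSectionVars false

namespace Cfsg.Lib.Forms

open Module Cfsg.Geo

variable {F : Type*} [Field F] {V : Type*} [AddCommGroup V] [Module F V] {ι : Type*}

namespace Fr

variable {b : Basis ι F V} [Fintype ι] [DecidableEq ι]

theorem exists_ne2 (h4 : 3 ≤ Fintype.card ι) (i j : ι) : ∃ l, l ≠ i ∧ l ≠ j := by
  by_contra h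
  push Not at h
  have : (Finset.univ : Finset ι) ⊆ {i, j} := fun l _ => by
    have := h l
    simp only [Finset.mem_insert, Finset.mem_singleton]; tauto
  have := (Finset.card_le_card this).trans Finset.card_le_two
  simp at this; omega

section General
variable {L : Subgroup (V ≃ₗ[F] V)}

theorem win_of_centre3 (hL : mono b ≤ L) {ε : Fˣ} (hε : ε ≠ 1) {i : ι} {φ : V →ₗ[F] F}
    (h : HasTv L (b i) φ) (h0 : φ (b i) = 0) (h1 : φ ≠ 0) : Win b L := by
  obtain ⟨j, hj⟩ : ∃ j, φ (b j) ≠ 0 := by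
    by_contra h; push Not at h; exact h1 (b.ext h)
  have hij : i ≠ j := by rintro rfl; exact hj h0
  have h2 := h.conj (hL (dg_mem b (Pi.mulSingle j ε)))
  rw [dg_b, Pi.mulSingle_eq_of_ne hij, Units.val_one, one_smul] at h2
  have h3 := h2.sub h (by simp [h0]) h0
  have he : (ε : F)⁻¹ - 1 ≠ 0 := by
    rw [sub_ne_zero]; simpa using hε
  refine ⟨i, j, ((ε : F)⁻¹ - 1) * φ (b j), hij, by simp [he, hj], ?_⟩
  convert h3 using 1
  refine b.ext fun m => ?_
  by_cases hm : m = j
  · subst hm; simp; ring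
  · simp [Finsupp.single_apply, hm]

theorem win_of_axis3 (hL : mono b ≤ L) {ε : Fˣ} (hε : ε ≠ 1) {j : ι} {u : V}
    (h : HasTv L u (b.coord j)) (h0 : b.repr u j = 0) (h1 : u ≠ 0) : Win b L := by
  obtain ⟨i, hi⟩ : ∃ i, b.repr u i ≠ 0 := by
    by_contra h; push Not at h; exact h1 (b.ext_elem fun i => by simp [h])
  have hij : i ≠ j := by rintro rfl; exact hi h0
  have h2 := h.conj (hL (dg_mem b (Pi.mulSingle i ε)))
  have h3 : HasTv L (dg b (Pi.mulSingle i ε) u - u) (b.coord j) :=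
    HasTv.sub_left (h2.congr fun x => by simp [hij.symm]) h (by simpa using h0)
  have he : (ε : F) - 1 ≠ 0 := by
    rw [sub_ne_zero]; simpa using hε
  refine ⟨i, j, ((ε : F) - 1) * b.repr u i, hij, by simp [he, hi], hasTv_smul.1 ?_⟩
  convert h3 using 1
  refine b.ext_elem fun m => ?_
  by_cases hm : m = i
  · subst hm; simp; ring
  · simp [hm, Finsupp.single_apply, Ne.symm hm]

variable (hL : mono b ≤ L) (h4 : 3 ≤ Fintype.card ι) {ε ε' : F} (e0 : ε ≠ 0) (e1 : ε ≠ 1)
  (hW : ¬ Win b L)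
include hL h4 e0 e1 hW

theorem Pair.zero_iff3 {u : V} {φ : V →ₗ[F] F} (h : Pair L u φ) (i : ι) :
    b.repr u i = 0 ↔ φ (b i) = 0 := by
  have h1 := h.act (pair_basis hL i) e0
  have he : (Units.mk0 ε e0) ≠ 1 := fun h => e1 (congrArg Units.val h)
  have he' : ε - 1 ≠ 0 := sub_ne_zero.2 e1
  have he'' : ε⁻¹ - 1 ≠ 0 := sub_ne_zero.2 (by simpa using e1)
  constructor
  · intro h0
    by_contra h2
    simp only [Basis.coord_apply, h0, mul_zero, zero_smul, add_zero] at h1
    have h3 := h1.centre h e0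
    rw [add_sub_cancel_left, smul_smul, ← hasTv_smul] at h3
    refine hW (win_of_axis3 hL he h3 (by simp [h0]) ?_)
    refine smul_ne_zero (by simp [he', he'', h2]) ?_
    rintro rfl; simpa using h.1
  · intro h0
    by_contra h2
    simp only [Basis.coord_apply, h0, mul_zero, zero_smul, add_zero] at h1
    have h3 := h1.axis h e0
    rw [add_sub_cancel_left, hasTv_smul, smul_smul] at h3
    refine hW (win_of_centre3 hL he h3 (by simp [h0]) ?_)
    refine smul_ne_zero (by simp [he', sub_ne_zero.2 (sub_ne_zero.1 he'').symm, h2]) ?_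
    rintro rfl; simpa using h.1

theorem Pair.of_one3 (f0 : ε' ≠ 0) (f1 : ε' ≠ 1) (f2 : ε' ≠ ε) (f3 : ε' * ε ≠ 1)
    {u : V} {φ : V →ₗ[F] F} (h : Pair L u φ) {i j : ι}
    (h1 : b.repr u i * φ (b i) = 1) (hij : j ≠ i) : b.repr u j = 0 := by
  by_contra h2
  have h3 : φ (b j) ≠ 0 := fun h' => h2 ((h.zero_iff3 hL h4 e0 e1 hW j).2 h')
  have a1 : ε - 1 ≠ 0 := sub_ne_zero.2 e1
  have a2 : ε' - 1 ≠ 0 := sub_ne_zero.2 f1
  have a3 : -((ε' - 1) * ε / (ε - 1)) ≠ 0 := by simp [a1, a2, e0]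
  have h5 := (((pair_basis hL i).act h e0).act (h.act (pair_basis hL i) a3) f0).zero_iff3
    hL h4 e0 e1 hW j
  have hu : b.repr u i ≠ 0 := left_ne_zero_of_mul_eq_one h1
  have hφ : φ (b i) = (b.repr u i)⁻¹ := (inv_eq_of_mul_eq_one_right h1).symm
  simp only [map_add, map_smul, Basis.coord_apply, Basis.repr_self, Finsupp.add_apply,
    Finsupp.smul_apply, LinearMap.add_apply, LinearMap.smul_apply, smul_eq_mul,
    Finsupp.single_eq_same, Finsupp.single_eq_of_ne hij, Finsupp.single_eq_of_ne hij.symm, h.1,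
    hφ] at h5
  have h6 := h5.1 (by field_simp; ring)
  have : ε * (b.repr u i * φ (b j)) * (ε' - 1) * ((ε' - ε) * (ε' * ε - 1)) = 0 := by
    field_simp at h6
    linear_combination h6
  simp [sub_ne_zero.2 f2, sub_ne_zero.2 f3, e0, hu, h3, a2] at this

theorem Pair.half3 {u : V} {φ : V →ₗ[F] F} (h : Pair L u φ) {i : ι}
    (h0 : b.repr u i ≠ 0) (h1 : b.repr u i * φ (b i) ≠ 1) : 2 * (b.repr u i * φ (b i)) = 1 := by
  have h3 : φ (b i) ≠ 0 := fun h' => h0 ((h.zero_iff3 hL h4 e0 e1 hW i).2 h')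
  have a1 : b.repr u i * φ (b i) - 1 ≠ 0 := sub_ne_zero.2 h1
  have a3 : (b.repr u i * φ (b i) - 1) / (b.repr u i * φ (b i)) ≠ 0 := by simp [a1, h0, h3]
  have h5 := ((pair_basis hL i).act h a3).zero_iff3 hL h4 e0 e1 hW i
  simp only [map_add, map_smul, Basis.coord_apply, Basis.repr_self, Finsupp.add_apply,
    Finsupp.smul_apply, LinearMap.add_apply, LinearMap.smul_apply, smul_eq_mul,
    Finsupp.single_eq_same] at h5
  have h6 := h5.1 (by field_simp; ring)
  field_simp at h6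
  linear_combination h6

variable (f0 : ε' ≠ 0) (f1 : ε' ≠ 1) (f2 : ε' ≠ ε) (f3 : ε' * ε ≠ 1)
include f0 f1 f2 f3

theorem Pair.three3 {u : V} {φ : V →ₗ[F] F} (h : Pair L u φ) {i j k : ι} (hij : i ≠ j)
    (hik : i ≠ k) (hjk : j ≠ k) (hi : b.repr u i ≠ 0) (hj : b.repr u j ≠ 0) : b.repr u k = 0 := by
  have a1 := h.half3 hL h4 e0 e1 hW hi fun h' => hj (h.of_one3 hL h4 e0 e1 hW f0 f1 f2 f3 h' hij.symm)
  have a2 := h.half3 hL h4 e0 e1 hW hj fun h' => hi (h.of_one3 hL h4 e0 e1 hW f0 f1 f2 f3 h' hij)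
  have h5 := ((pair_basis hL i).act h (neg_ne_zero.2 one_ne_zero)).of_one3 hL h4 e0 e1 hW
    f0 f1 f2 f3 (i := j) (j := k) ?_ hjk.symm
  · simp only [map_add, map_smul, Basis.coord_apply, Basis.repr_self, Finsupp.add_apply,
      Finsupp.smul_apply, smul_eq_mul, Finsupp.single_eq_of_ne hik.symm] at h5
    linear_combination (-b.repr u i) * h5 - b.repr u k * a1
  · simp only [map_add, map_smul, Basis.coord_apply, Basis.repr_self, Finsupp.add_apply,
      Finsupp.smul_apply, LinearMap.add_apply, LinearMap.smul_apply, smul_eq_mul,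
      Finsupp.single_eq_of_ne hij, Finsupp.single_eq_of_ne hij.symm, inv_neg, inv_one]
    linear_combination (2 * (b.repr u j * φ (b j))) * a1 + a2

theorem Pair.std3 (g1 : ε * ε ≠ 1) {u : V} {φ : V →ₗ[F] F} (h : Pair L u φ) {i j : ι}
    (hij : i ≠ j) (hi : b.repr u i ≠ 0) : b.repr u j = 0 := by
  by_contra hj
  obtain ⟨k, ki, kj⟩ := exists_ne2 h4 i j
  have a2 := h.half3 hL h4 e0 e1 hW hj fun h' => hi (h.of_one3 hL h4 e0 e1 hW f0 f1 f2 f3 h' hij)
  have hk := h.three3 hL h4 e0 e1 hW f0 f1 f2 f3 hij ki.symm kj.symm hi hj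
  have hk' := (h.zero_iff3 hL h4 e0 e1 hW k).1 hk
  set g := mon b (Equiv.swap i k) 1
  have r1 : b.repr (g u) i = 0 := by simpa [hk] using repr_mon b (Equiv.swap i k) 1 u k
  have r2 : b.repr (g u) k = b.repr u i := by simpa using repr_mon b (Equiv.swap i k) 1 u i
  have r3 : ∀ m, m ≠ i → m ≠ k → b.repr (g u) m = b.repr u m := fun m h1 h2 => by
    simpa [Equiv.swap_apply_of_ne_of_ne h1 h2] using repr_mon b (Equiv.swap i k) 1 u m
  have r4 : g⁻¹ u = b.repr u i • b k + b.repr u j • b j := by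
    apply g.injective
    rw [lin_apply_inv, map_add, map_smul, map_smul, mon_b, mon_b]
    refine b.ext_elem fun m => ?_
    by_cases hm : m = i
    · subst hm; simp [Equiv.swap_apply_of_ne_of_ne hij.symm kj.symm, Finsupp.single_apply, hij.symm]
    by_cases hm' : m = j
    · subst hm'; simp [Equiv.swap_apply_of_ne_of_ne hij.symm kj.symm, Finsupp.single_apply, hij]
    · simp [Equiv.swap_apply_of_ne_of_ne hij.symm kj.symm, Finsupp.single_apply, Ne.symm hm,
        Ne.symm hm', h.three3 hL h4 e0 e1 hW f0 f1 f2 f3 hij (Ne.symm hm) (Ne.symm hm') hi hj]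
  have h5 := (h.act (h.conj (hL (mon_mem b (Equiv.swap i k) 1))) e0).three3 hL h4 e0 e1 hW
    f0 f1 f2 f3 ki.symm hij kj ?_ ?_
  · simp only [map_add, map_smul, Finsupp.add_apply, Finsupp.smul_apply, smul_eq_mul,
      LinearMap.comp_apply, LinearEquiv.coe_coe] at h5
    rw [r3 j hij.symm kj.symm, r4] at h5
    simp only [map_add, map_smul, hk', smul_eq_mul] at h5
    have : b.repr u j * (ε + 1) = 0 := by
      linear_combination 2 * h5 - (ε - 1) * b.repr u j * a2
    have h6 : ε + 1 = 0 := (mul_eq_zero.1 this).resolve_left hj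
    exact g1 (by linear_combination (ε - 1) * h6)
  · simp only [map_add, map_smul, Finsupp.add_apply, Finsupp.smul_apply, smul_eq_mul]
    rw [r1]; simpa using hi
  · simp only [map_add, map_smul, Finsupp.add_apply, Finsupp.smul_apply, smul_eq_mul,
      LinearMap.comp_apply, LinearEquiv.coe_coe]
    rw [r2, r4, hk]
    simp only [map_add, map_smul, hk', smul_eq_mul]
    intro h6
    have : (ε - 1) * b.repr u i = 0 := by
      linear_combination 2 * h6 - (ε - 1) * b.repr u i * a2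
    simp [sub_ne_zero.2 e1, hi] at this

end General

variable {X : Subgroup (V ≃ₗ[F] V)} [FiniteDimensional F V]
  (hS : X ≤ slV F V) (hX : slV F V ⊓ mono b ≤ X) (h5 : 4 ≤ Fintype.card ι)
  (hF : ∀ a b c d : F, ∃ x, x ≠ a ∧ x ≠ b ∧ x ≠ c ∧ x ≠ d) (hW : ¬ Win b X)
include hS hX h5 hF hW

theorem not_win_quo4 (i : ι) : ¬ Win (Pi.basisFun F _) (quo b X i) := by
  rintro ⟨⟨j, ji⟩, ⟨k, ki⟩, c, hjk, hc, _, ⟨x, hx, H⟩, H'⟩
  have jk : j ≠ k := fun h => hjk (Subtype.ext h)
  obtain ⟨ε, e0, e1, e2, -⟩ := hF 0 1 (-1) 0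
  have he : Units.mk0 ε e0 ≠ 1 := fun h => e1 (congrArg Units.val h)
  set β : V →ₗ[F] F := b.coord i ∘ₗ x - b.coord i
  have h1 : ∀ v, x v = v + (c * b.repr v k) • b j + β v • b i := fun v => by
    refine ext_pr b i ?_ (by simp [β, Finsupp.single_apply, ji])
    rw [← H, H', map_add, map_add, map_smul, map_smul, pr_b b i ⟨j, ji⟩]; simp
  have h2 : β (b i) = 0 := by
    obtain ⟨τ, hτ, hτ'⟩ := exists_tv (u := b j) (φ := -c • b.coord k)
      (by simp [Finsupp.single_apply, jk])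
    have h3 := det_of_tv (g := τ * x) (u := b i) (φ := β) fun v => by
      rw [LinearEquiv.mul_apply, hτ', h1]
      simp [Finsupp.single_apply, jk, ki.symm]; abel
    rw [mem_slV.1 (mul_mem hτ (hS hx))] at h3
    simpa using h3
  have h3 : ∀ t : ι → Fˣ, dg b t ∈ X → t j = t k → ∀ l, (t i : F) * β (b l) = t l * β (b l) := by
    intro t ht htk l
    have hxi : x.symm (b i) = b i := by
      rw [LinearEquiv.symm_apply_eq, h1]; simp [h2, Finsupp.single_apply, ki.symm]
    have h4 : HasTv X (b i) ((((t i : F) • β) ∘ₗ ((dg b t).symm : V →ₗ[F] V) - β) ∘ₗ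
        (x.symm : V →ₗ[F] V)) := by
      refine ⟨dg b t * x * (dg b t)⁻¹ * x⁻¹, mul_mem (mul_mem (mul_mem ht hx) (inv_mem ht))
        (inv_mem hx), fun v => ?_⟩
      obtain ⟨w, rfl⟩ := x.surjective v
      simp only [LinearEquiv.mul_apply, lin_inv_apply, LinearMap.comp_apply, LinearEquiv.coe_coe,
        LinearEquiv.symm_apply_apply, LinearMap.sub_apply, LinearMap.smul_apply]
      rw [h1, h1 w]
      simp [lin_apply_inv, htk, smul_smul, sub_smul, mul_comm]
      congr 1; field_simp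
    by_contra h6
    refine hW (win_of_centre hX (by omega) he h4 (by simp [hxi, h2]) fun h => h6 ?_)
    have := LinearMap.congr_fun h (x (b l))
    simp at this
    field_simp at this
    linear_combination this
  refine hW ⟨j, k, c, jk, hc, x, hx, fun v => ?_⟩
  have : β = 0 := b.ext fun l => by
    by_cases hl : l = i
    · rw [hl, h2]; rfl
    by_cases hl' : l = j ∨ l = k
    · obtain ⟨m, mi, mj, mk⟩ := exists_ne3 (by omega) i j k
      have := h3 _ (hX (d2_mem b i m (Units.mk0 ε e0)))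
        (by rw [d2_ne ji mj.symm, d2_ne ki mk.symm]) l
      rw [d2_left mi.symm, d2_ne hl (by rcases hl' with rfl | rfl <;> exact fun h => by simp_all)]
        at this
      have : (ε - 1) * β (b l) = 0 := by simp at this; linear_combination this
      simpa [sub_ne_zero.2 e1] using this
    · push Not at hl'
      have := h3 _ (hX (d2_mem b i l (Units.mk0 ε e0)))
        (by rw [d2_ne ji hl'.1.symm, d2_ne ki hl'.2.symm]) l
      rw [d2_left (Ne.symm hl), d2_right (Ne.symm hl)] at this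
      have : (ε - 1) * (ε + 1) * β (b l) = 0 := by
        simp only [Units.val_mk0, Units.val_inv_eq_inv_val] at this
        field_simp at this
        linear_combination this
      simpa [sub_ne_zero.2 e1, add_eq_zero_iff_eq_neg, e2] using this
  rw [h1, this]; simp

theorem stab_mono4 {x : V ≃ₗ[F] V} (hx : x ∈ X) {i : ι} {c : F} (h : x (b i) = c • b i) :
    x ∈ mono b := by
  have hc : c ≠ 0 := by rintro rfl; exact b.ne_zero i (x.injective (by simpa using h))
  have h' : x.symm (b i) = c⁻¹ • b i := by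
    rw [LinearEquiv.symm_apply_eq, map_smul, h, smul_smul, inv_mul_cancel₀ hc, one_smul]
  let y : ({j // j ≠ i} → F) ≃ₗ[F] ({j // j ≠ i} → F) :=
    LinearEquiv.ofLinearMap (pr b i ∘ₗ x ∘ₗ sec b i) (pr b i ∘ₗ x.symm ∘ₗ sec b i)
      (LinearMap.ext fun w => by simp [sec_pr, h]) (LinearMap.ext fun w => by simp [sec_pr, h'])
  have hy : ∀ v, y (pr b i v) = pr b i (x v) := fun v => by
    change pr b i (x (sec b i (pr b i v))) = _
    simp [sec_pr, h]
  obtain ⟨ε, e0, e1, e2, -⟩ := hF 0 1 (-1) 0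
  obtain ⟨ε', f0, f1, f2, f3⟩ := hF 0 1 ε ε⁻¹
  have h4 : 3 ≤ Fintype.card {j // j ≠ i} := by simp; omega
  have hL := mono_le_quo hX i
  obtain ⟨τ, hτ, hτ'⟩ := exists_tv (u := b i) (φ := b.coord i - c⁻¹ • b.coord i ∘ₗ x)
    (by simp [h, hc])
  have h1 : x * τ ∈ mono b := mem_mono.2 fun j => by
    by_cases hj : j = i
    · subst hj; exact ⟨j, c, by simp [hτ', h, hc]⟩
    have h2 := (pair_basis hL ⟨j, hj⟩).conj (g := y) ⟨x, hx, hy⟩
    rw [← pr_b b i ⟨j, hj⟩, hy] at h2
    obtain ⟨k, hk⟩ : ∃ k : {j // j ≠ i}, b.repr (x (b j)) k ≠ 0 := by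
      by_contra h3; push Not at h3
      have : pr b i (x (b j)) = 0 := funext h3
      rw [this] at h2; simpa using h2.1
    refine ⟨k, b.repr (x (b j)) k, b.ext_elem fun l => ?_⟩
    by_cases hl : l = i
    · subst hl; simp [hτ', h, hc, Finsupp.single_apply, hj, k.2]; field_simp; ring
    by_cases hl' : l = k
    · subst hl'; simp [hτ', h, Finsupp.single_apply, k.2.symm]
    have := h2.std3 hL h4 e0 e1 (not_win_quo4 hS hX h5 hF hW i) f0 f1 f2
      (fun h => f3 (eq_inv_of_mul_eq_one_left h))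
      (fun h => by
        have : (ε - 1) * (ε + 1) = 0 := by linear_combination h
        simp [sub_ne_zero.2 e1, add_eq_zero_iff_eq_neg, e2] at this)
      (i := k) (j := ⟨l, hl⟩) (fun h => hl' (congrArg Subtype.val h).symm) (by simpa using hk)
    simp at this
    simp [hτ', h, Finsupp.single_apply, Ne.symm hl, Ne.symm hl', this]
  have h2 : τ ∈ X := (mul_mem_cancel_left hx).1 (hX ⟨mul_mem (hS hx) hτ, h1⟩)
  have h3 : b.coord i - c⁻¹ • b.coord i ∘ₗ x = 0 := by
    by_contra h3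
    exact hW (win_of_centre hX (by omega) (ε := Units.mk0 ε e0)
      (fun h => e1 (congrArg Units.val h)) ⟨τ, h2, hτ'⟩ (by simp [h, hc]) h3)
  have : τ = 1 := by ext v; rw [hτ', h3]; simp
  rwa [this, mul_one] at h1

theorem mem_mono_of_map4 {g : V ≃ₗ[F] V} (hg : g ∈ X) {l k : ι} {c : F} (h : g (b l) = c • b k) :
    g ∈ mono b := by
  obtain ⟨y, hy, a, ha⟩ := exists_fix b (mon_mem b (Equiv.swap l k) 1) k
  refine (Subgroup.mul_mem_cancel_left _ hy.2).1 (stab_mono4 hS hX h5 hF hW (mul_mem (hX hy) hg)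
    (i := l) (c := c * a) ?_)
  simp [h, ha, mon_b, smul_smul]

theorem frame_map4 {g y : V ≃ₗ[F] V} (hg : g ∈ X) (hy : y ∈ X) {l : ι} {c : F}
    (h : y (g (b l)) = c • g (b l)) : g⁻¹ * y * g ∈ mono b :=
  stab_mono4 hS hX h5 hF hW (mul_mem (mul_mem (inv_mem hg) hy) hg) (i := l) (c := c)
    (by simp [h])

theorem frame_map4' {g y : V ≃ₗ[F] V} (hg : g ∈ X) (hy : y ∈ X) {l : ι} {c : F}
    (h : y (g (b l)) = c • g (b l)) (m : ι) : ∃ m', ∃ c : F, y (g (b m)) = c • g (b m') := by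
  obtain ⟨m', c, hc⟩ := mem_mono.1 (frame_map4 hS hX h5 hF hW hg hy h) m
  exact ⟨m', c, by rw [← map_smul, ← hc]; simp⟩

end Fr

end Cfsg.Lib.Forms
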