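import Cfsg.Agent.Lib.K4.Sd2a
import Cfsg.Agent.Lib.Max2.Blk

/-! Overgroups of the monomial group in `SL_4`. -/

set_option autoImplicit false
set_option linter.unusedSectionVars false

namespace Cfsg.Lib.Forms

open Module Cfsg.Geo

variable {F : Type*} [Field F] {V : Type*} [AddCommGroup V] [Module F V]

theorem sd_avoid [Fintype F] (hq : 7 ≤ Fintype.card F) (a b c d e : F) :
    ∃ x, x ≠ a ∧ x ≠ b ∧ x ≠ c ∧ x ≠ d ∧ x ≠ e := by
  classical
  by_contra h
  push Not at h
  have : (Finset.univ : Finset F) ⊆ {a, b, c, d, e} := fun l _ => by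
    have := h l
    simp only [Finset.mem_insert, Finset.mem_singleton]; tauto
  have := (Finset.card_le_card this).trans Finset.card_le_five
  simp at this; omega

theorem sd_exists_pow4 [Fintype F] (hq : 7 ≤ Fintype.card F) : ∃ x : F, x ≠ 0 ∧ x ^ 4 ≠ 1 := by
  have k : ∀ i : F, (∀ x : F, x * x = -1 → x = i ∨ x = -i) → ∃ x : F, x ≠ 0 ∧ x ^ 4 ≠ 1 :=
    fun i hi => by
      obtain ⟨x, h0, h1, h2, h3, h4⟩ := sd_avoid hq 0 1 (-1) i (-i)
      refine ⟨x, h0, fun h => ?_⟩
      have : (x - 1) * (x + 1) * (x * x + 1) = 0 := by linear_combination h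
      simp only [mul_eq_zero, sub_eq_zero, add_eq_zero_iff_eq_neg, h1, h2, false_or] at this
      exact (hi x this).elim h3 h4
  by_cases h : ∃ i : F, i * i = -1
  · obtain ⟨i, hi⟩ := h
    exact k i fun x hx => mul_self_eq_mul_self_iff.1 (hx.trans hi.symm)
  · exact k 0 fun x hx => absurd ⟨x, hx⟩ h

theorem sd_fin1 : ∀ m m' : Fin 4, ∃ j j' : Fin 4, j ≠ j' ∧ j ≠ m ∧ j ≠ m' ∧ j' ≠ m ∧ j' ≠ m' := by
  decide

theorem sd_fin2 : ∀ σ : alternatingGroup (Fin 4), σ * σ = 1 →
    ∃ x y : alternatingGroup (Fin 4), σ = x * y * x⁻¹ * y⁻¹ := by decide +kernel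

theorem sd_fin3 : ∀ (π : Equiv.Perm (Fin 4)) (l : Fin 4), Equiv.Perm.sign π = 1 → π * π = 1 →
    π l = l → π = 1 := by decide +kernel

theorem sd_sum4 (f : Fin 4 → F) (j : Fin 4) :
    f j + f ((Equiv.swap 0 1 * Equiv.swap 2 3 : Equiv.Perm (Fin 4))⁻¹ j) +
      f ((Equiv.swap 0 2 * Equiv.swap 1 3 : Equiv.Perm (Fin 4))⁻¹ j) +
      f ((Equiv.swap 0 3 * Equiv.swap 1 2 : Equiv.Perm (Fin 4))⁻¹ j) = f 0 + f 1 + f 2 + f 3 := by
  have h1 : ∀ j, (Equiv.swap 0 1 * Equiv.swap 2 3 : Equiv.Perm (Fin 4))⁻¹ j = ![1, 0, 3, 2] j := by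
    decide
  have h2 : ∀ j, (Equiv.swap 0 2 * Equiv.swap 1 3 : Equiv.Perm (Fin 4))⁻¹ j = ![2, 3, 0, 1] j := by
    decide
  have h3 : ∀ j, (Equiv.swap 0 3 * Equiv.swap 1 2 : Equiv.Perm (Fin 4))⁻¹ j = ![3, 2, 1, 0] j := by
    decide
  rw [h1, h2, h3]
  fin_cases j <;> simp <;> ring

namespace Fr

variable [Fintype F] {b : Basis (Fin 4) F V} {X : Subgroup (V ≃ₗ[F] V)} [FiniteDimensional F V]
  (hS : X ≤ slV F V) (hX : slV F V ⊓ mono b ≤ X) (hq : 7 ≤ Fintype.card F) (hW : ¬ Win b X)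
include hS hX hq hW

theorem fm4 {g y : V ≃ₗ[F] V} (hg : g ∈ X) (hy : y ∈ X) {l : Fin 4} {c : F}
    (h : y (g (b l)) = c • g (b l)) (m : Fin 4) : ∃ m', ∃ c : F, y (g (b m)) = c • g (b m') :=
  frame_map4' hS hX (by simp) (exists_avoid4 (by omega)) hW hg hy h m

theorem exists_mu {g : V ≃ₗ[F] V} (hg : g ∈ X) {l a a' : Fin 4}
    (h1 : b.repr (g (b l)) a = 0) (h2 : b.repr (g (b l)) a' = 0) (m : Fin 4) (ε : Fˣ) :
    ∃ m', ∃ e : F, dg b (d2 a a' ε) (g (b m)) = e • g (b m') :=
  fm4 hS hX hq hW hg (hX (d2_mem b a a' ε)) (l := l) (c := 1) (b.ext_elem fun j => by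
    by_cases hj : j = a
    · simp [hj, h1]
    by_cases hj' : j = a'
    · simp [hj', h2]
    · simp [d2_ne hj hj']) m

theorem dichotomy4 {g : V ≃ₗ[F] V} (hg : g ∈ X) {l a a' : Fin 4} (ha : a ≠ a')
    (h1 : b.repr (g (b l)) a = 0) (h2 : b.repr (g (b l)) a' = 0) {m : Fin 4}
    (h3 : b.repr (g (b m)) a ≠ 0) {c : Fin 4} (ca : c ≠ a) (ca' : c ≠ a') :
    b.repr (g (b m)) c = 0 := by
  classical
  by_contra h4
  choose μ e he using exists_mu hS hX hq hW hg h1 h2 m
  have hμ : Function.Injective μ := fun ε ε' h => by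
    have a1 := congrArg (fun v => b.repr v c) (he ε)
    have a2 := congrArg (fun v => b.repr v c) (he ε')
    have a3 := congrArg (fun v => b.repr v a) (he ε)
    have a4 := congrArg (fun v => b.repr v a) (he ε')
    simp only [repr_dg, d2_ne ca ca', d2_left ha, map_smul, Finsupp.smul_apply, smul_eq_mul,
      Units.val_one, one_mul, h] at a1 a2 a3 a4
    have a5 : e ε = e ε' := mul_right_cancel₀ (b := b.repr (g (b (μ ε'))) c)
      (fun h => h4 (by rw [a2, h, mul_zero])) (a1.symm.trans a2)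
    exact Units.ext (mul_right_cancel₀ h3 (by rw [a3, a4, a5]))
  have := Fintype.card_le_of_injective μ hμ
  rw [Fintype.card_units, Fintype.card_fin] at this
  omega

theorem two_zero4 {g : V ≃ₗ[F] V} (hg : g ∈ X) (hg' : g ∉ mono b) {l a a' : Fin 4} (ha : a ≠ a')
    (h1 : b.repr (g (b l)) a = 0) : b.repr (g (b l)) a' ≠ 0 := by
  intro h2
  obtain ⟨m, hm⟩ := exists_coord_ne (b := b) g a
  have h3 := fun c => dichotomy4 hS hX hq hW hg ha h1 h2 hm (c := c)
  have hm' : b.repr (g (b m)) a' ≠ 0 := fun h => hg' (mem_mono_of_map4 hS hX (by simp)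
    (exists_avoid4 (by omega)) hW hg (l := m) (k := a) (c := b.repr (g (b m)) a)
    (b.ext_elem fun j => by
      by_cases hj : j = a
      · simp [hj]
      by_cases hj' : j = a'
      · simp [hj', h, Finsupp.single_apply, ha]
      · simp [Finsupp.single_apply, Ne.symm hj, h3 j hj hj']))
  choose μ e he using exists_mu hS hX hq hW hg h1 h2 m
  have e0 : ∀ ε, e ε ≠ 0 := fun ε h => by
    have := he ε
    rw [h, zero_smul, map_eq_zero_iff _ (dg b _).injective, map_eq_zero_iff _ g.injective] at this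
    exact b.ne_zero m this
  have hμ : ∀ ε ε', μ ε = μ ε' → (ε : F) * ε = ε' * ε' := fun ε ε' h => by
    have a1 := congrArg (fun v => b.repr v a') (he ε)
    have a2 := congrArg (fun v => b.repr v a') (he ε')
    have a3 := congrArg (fun v => b.repr v a) (he ε)
    have a4 := congrArg (fun v => b.repr v a) (he ε')
    simp only [repr_dg, d2_right ha, d2_left ha, map_smul, Finsupp.smul_apply, smul_eq_mul, h,
      Units.val_inv_eq_inv_val] at a1 a2 a3 a4
    have := ε.ne_zero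
    have := ε'.ne_zero
    field_simp at a1 a2
    refine mul_left_cancel₀ (mul_ne_zero (mul_ne_zero hm hm') (e0 ε')) ?_
    generalize b.repr (g (b m)) a = x at *
    generalize b.repr (g (b m)) a' = y at *
    generalize b.repr (g (b (μ ε'))) a = z at *
    generalize b.repr (g (b (μ ε'))) a' = w at *
    have := e0 ε
    have := e0 ε'
    refine mul_left_cancel₀ (e0 ε) ?_
    linear_combination (e ε * e ε' * y * ε) * a3 - (e ε * e ε' * y * ε') * a4
      + (e ε * e ε * e ε' * z * ε) * a2 - (e ε * e ε' * e ε' * z * ε') * a1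
  obtain ⟨x₁, p0, p1, p2, -⟩ := sd_avoid hq 0 1 (-1) 0 0
  obtain ⟨x₂, q0, q1, q2, q3, q4⟩ := sd_avoid hq 0 1 (-1) x₁ (-x₁)
  let ε : Fin 3 → Fˣ := ![1, Units.mk0 x₁ p0, Units.mk0 x₂ q0]
  have hε : Function.Injective (μ ∘ ε) := by
    intro i j h
    replace h := mul_self_eq_mul_self_iff.1 (hμ _ _ h)
    have r1 : (1 : F) ≠ -x₁ := fun h => p2 (by linear_combination h)
    have r2 : (1 : F) ≠ -x₂ := fun h => q2 (by linear_combination h)
    have r3 : x₁ ≠ -x₂ := fun h => q4 (by linear_combination h)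
    revert h
    fin_cases i <;> fin_cases j <;> simp [ε, p1, p2, q1, q2, q3, q4, r1, r2, r3, p1.symm, q1.symm,
      q3.symm]
  obtain ⟨lam, -, l0, hl⟩ := exists_ne_zero_kers (⊤ : Submodule F (Fin 3 → F))
    [∑ r, (ε r : F) • LinearMap.proj r, ∑ r, (ε r : F)⁻¹ • LinearMap.proj r] (by simp)
  simp only [List.mem_cons, List.not_mem_nil, or_false, forall_eq_or_imp, forall_eq,
    LinearMap.sum_apply, LinearMap.smul_apply, LinearMap.proj_apply, smul_eq_mul] at hl
  have li := ((b.linearIndependent.comp _ hε).map' (g : V →ₗ[F] V) g.ker)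
  rw [Fintype.linearIndependent_iff] at li
  have h7 := li (fun r => lam r * e (ε r)) (by
    simp only [Function.comp, LinearEquiv.coe_coe, mul_smul, ← he]
    refine b.ext_elem fun j => ?_
    simp only [map_sum, map_smul, Finsupp.coe_finsetSum, Finset.sum_apply, Finsupp.smul_apply,
      repr_dg, smul_eq_mul, map_zero, Finsupp.zero_apply, ← mul_assoc, ← Finset.sum_mul]
    by_cases hj : j = a
    · simp only [hj, d2_left ha, mul_comm (lam _), hl.1, zero_mul]
    by_cases hj' : j = a'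
    · simp only [hj', d2_right ha, mul_comm (lam _), Units.val_inv_eq_inv_val, hl.2, zero_mul]
    · simp [h3 j hj hj'])
  exact l0 (funext fun r => (mul_eq_zero.1 (h7 r)).resolve_right (e0 _))

theorem one_zero4 {g : V ≃ₗ[F] V} (hg : g ∈ X) (hg' : g ∉ mono b) (l a : Fin 4) :
    b.repr (g (b l)) a ≠ 0 := by
  intro h1
  obtain ⟨x, x0, x4⟩ := sd_exists_pow4 hq
  let t : Fin 4 → Fˣ := fun _ => Units.mk0 x x0
  let s : Fˣ := (Units.mk0 x x0 ^ 4)⁻¹
  have hy : dg b (t * Pi.mulSingle a s) ∈ X := hX ⟨by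
    change _ ∈ slV F V
    rw [mem_slV, det_dg, ← Units.coe_prod]
    simp [Finset.prod_mul_distrib, t, s, x0], dg_mem b _⟩
  have hy' : ∀ v, dg b (t * Pi.mulSingle a s) v = x • v + (x * (s - 1) * b.repr v a) • b a :=
    fun v => b.ext_elem fun j => by
      by_cases hj : j = a
      · subst hj; simp [t]; ring
      · simp [t, hj, Finsupp.single_apply, Ne.symm hj]
  obtain ⟨m, hm⟩ := exists_coord_ne (b := b) g a
  obtain ⟨m', c, hc⟩ := fm4 hS hX hq hW hg hy (l := l) (c := x) (by simp [hy', h1]) m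
  have s1 : (s : F) - 1 ≠ 0 := by
    rw [sub_ne_zero]; simpa [s] using x4
  have h2 : ∀ j, j ≠ m → j ≠ m' → b.repr (g⁻¹ (b a)) j = 0 := fun j j1 j2 => by
    have := congrArg (fun v => b.repr (g⁻¹ v) j) hc
    simpa [hy', lin_inv_apply, Finsupp.single_apply, j1.symm, j2.symm, x0, s1, hm] using this
  obtain ⟨j, j', h3, h4, h5, h6, h7⟩ := sd_fin1 m m'
  exact two_zero4 hS hX hq hW (inv_mem hg) (fun h => hg' (inv_mem_iff.1 h)) h3 (h2 j h4 h5)
    (h2 j' h6 h7)

theorem four_mul {g : V ≃ₗ[F] V} (hg : g ∈ X) (hg' : g ∉ mono b) (l a : Fin 4) :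
    4 * b.repr (g⁻¹ (b a)) l * b.repr (g (b l)) a = 1 := by
  have h1 := one_zero4 hS hX hq hW hg hg'
  let t : Fin 4 → Fˣ := fun c => Units.mk0 _ (h1 l c)
  have hv : ∀ σ, tw b t σ (g (b l)) = g (b l) := fun σ => b.ext_elem fun c => by
    obtain ⟨c, rfl⟩ := σ.surjective c
    rw [repr_tw]; simp [t, h1 l c]
  let ρ₀ : alternatingGroup (Fin 4) →* mono b :=
    (((MulAut.conj g⁻¹).toMonoidHom.comp (tw b t)).comp (alternatingGroup _).subtype).codRestrict _
      fun σ => by
        simpa using frame_map4 hS hX (by simp) (exists_avoid4 (by omega)) hW hg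
          (hX (tw_mem t σ.2)) (c := 1) (by rw [hv, one_smul])
  let ρ := (decPerm (span_inj b)).comp ρ₀
  have hρ : ∀ σ m, ∃ c : F, tw b t σ.1 (g (b m)) = c • g (b (ρ σ m)) := fun σ m => by
    have h2 : (F ∙ b m).map ((ρ₀ σ).1 : V →ₗ[F] V) = F ∙ b (ρ σ m) :=
      decPerm_spec (span_inj b) (ρ₀ σ) m
    have : (ρ₀ σ).1 (b m) ∈ F ∙ b (ρ σ m) :=
      h2 ▸ ⟨b m, Submodule.mem_span_singleton_self _, rfl⟩
    obtain ⟨c, hc⟩ := Submodule.mem_span_singleton.1 this
    refine ⟨c, ?_⟩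
    rw [← map_smul, hc]; simp [ρ₀]
  have hl : ∀ σ, ρ σ l = l := fun σ => by
    obtain ⟨c, hc⟩ := hρ σ l
    rw [hv, ← map_smul, g.injective.eq_iff] at hc
    have := congrArg (fun v => b.repr v l) hc
    by_contra h
    simp [Finsupp.single_apply, h] at this
  have h2 : ∀ σ : alternatingGroup (Fin 4), σ * σ = 1 → ρ σ = 1 := fun σ hσ => by
    obtain ⟨x, y, h⟩ := sd_fin2 σ hσ
    have a1 : Equiv.Perm.sign (ρ σ) = 1 := by
      rw [h, ← MonoidHom.comp_apply, map_mul, map_mul, map_mul, map_inv, map_inv,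
        mul_inv_cancel_comm, mul_inv_cancel]
    exact sd_fin3 _ l a1 (by rw [← map_mul, hσ, map_one]) (hl σ)
  have h3 : ∀ σ : Equiv.Perm (Fin 4), Equiv.Perm.sign σ = 1 → σ * σ = 1 → ∀ m,
      tw b t σ (g (b m)) ∈ F ∙ g (b m) := fun σ s1 s2 m => by
    obtain ⟨c, hc⟩ := hρ ⟨σ, s1⟩ m
    rw [h2 _ (Subtype.ext s2)] at hc
    exact Submodule.mem_span_singleton.2 ⟨c, hc.symm⟩
  let ψ : V →ₗ[F] F := ∑ c, (t c : F)⁻¹ • b.coord c
  have h4 : ∀ x, x + tw b t (Equiv.swap 0 1 * Equiv.swap 2 3) x +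
      tw b t (Equiv.swap 0 2 * Equiv.swap 1 3) x + tw b t (Equiv.swap 0 3 * Equiv.swap 1 2) x =
      ψ x • g (b l) := fun x => b.ext_elem fun j => by
    have k : ∀ σ : Equiv.Perm (Fin 4), b.repr (tw b t σ x) j =
        t j * ((t (σ⁻¹ j) : F)⁻¹ * b.repr x (σ⁻¹ j)) := fun σ => by
      have := repr_tw (b := b) t σ x (σ⁻¹ j)
      rwa [show σ (σ⁻¹ j) = j by simp] at this
    have k' : b.repr x j = t j * ((t j : F)⁻¹ * b.repr x j) := by simp
    have k'' : b.repr (g (b l)) j = t j := rfl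
    have k3 := sd_sum4 (fun c => (t c : F)⁻¹ * b.repr x c) j
    simp only [map_add, Finsupp.add_apply, k, map_smul, Finsupp.smul_apply, k'', ψ,
      Fin.sum_univ_four, LinearMap.add_apply, LinearMap.smul_apply, smul_eq_mul, Basis.coord_apply]
    linear_combination k' + (t j : F) * k3
  have h5 : ψ = (4 : F) • b.coord l ∘ₗ (g⁻¹ : V ≃ₗ[F] V) := (b.map g).ext fun m => by
    by_cases hm : m = l
    · subst hm
      have := h4 (g (b m))
      simp only [hv] at this
      have h6 : ψ (g (b m)) = 4 := smul_left_injective F (g.map_ne_zero_iff.2 (b.ne_zero m))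
        (by beta_reduce; rw [← this]; module)
      simp [h6, lin_inv_apply]
    · have : ψ (g (b m)) • g (b l) ∈ F ∙ g (b m) := by
        rw [← h4]
        exact add_mem (add_mem (add_mem (Submodule.mem_span_singleton_self _)
          (h3 _ (by decide) (by decide) m)) (h3 _ (by decide) (by decide) m))
          (h3 _ (by decide) (by decide) m)
      obtain ⟨c, hc⟩ := Submodule.mem_span_singleton.1 this
      have := congrArg (fun v => b.repr (g⁻¹ v) l) hc
      simp [lin_inv_apply, Finsupp.single_apply, hm] at this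
      simp [← this, lin_inv_apply, Finsupp.single_apply, hm]
  have h6 := LinearMap.congr_fun h5 (b a)
  simp only [ψ, LinearMap.sum_apply, LinearMap.smul_apply, Basis.coord_apply, Basis.repr_self,
    Finsupp.single_apply, smul_eq_mul, mul_ite, mul_one, mul_zero, Finset.sum_ite_eq,
    Finset.mem_univ, if_true, LinearMap.comp_apply, LinearEquiv.coe_coe] at h6
  rw [← h6]; exact inv_mul_cancel₀ (h1 l a)

theorem le_mono4 : X ≤ mono b := fun g hg => by
  by_contra hg'
  have h1 := four_mul hS hX hq hW hg hg' 0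
  have h2 : ∀ t : Fin 4 → Fˣ, 4 * b.repr ((g⁻¹ * dg b t * g) (b 0)) 0 = ∑ c, (t c : F) := fun t => by
    have : dg b t (g (b 0)) = ∑ c, ((t c : F) * b.repr (g (b 0)) c) • b c := by
      conv_lhs => rw [← b.sum_repr (dg b t (g (b 0)))]
      simp only [repr_dg]
    simp only [LinearEquiv.mul_apply, this, map_sum, map_smul, Finsupp.coe_finsetSum,
      Finset.sum_apply, Finsupp.smul_apply, smul_eq_mul, Finset.mul_sum]
    exact Finset.sum_congr rfl fun c _ => by linear_combination (t c : F) * h1 c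
  have h3 : ∀ x : F, x ≠ 0 → x ^ 4 ≠ 1 → x * x + 4 * x + 1 = 0 := fun x x0 x4 => by
    have k1 := h2 (d2 0 1 (Units.mk0 x x0))
    have k2 := h2 (d2 0 1 (Units.mk0 x x0)⁻¹)
    have k3 : g⁻¹ * dg b (d2 0 1 (Units.mk0 x x0)⁻¹) * g =
        (g⁻¹ * dg b (d2 0 1 (Units.mk0 x x0)) * g)⁻¹ := by
      have : dg b (d2 0 1 (Units.mk0 x x0)⁻¹) = (dg b (d2 0 1 (Units.mk0 x x0)))⁻¹ :=
        LinearEquiv.toLinearMap_injective (b.ext fun i => by
          change dg b _ (b i) = (dg b _).symm (b i)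
          rw [dg_b, dg_inv_b]; congr 1
          fin_cases i <;> simp [d2])
      rw [this]; group
    have k4 : g⁻¹ * dg b (d2 0 1 (Units.mk0 x x0)) * g ∈ X :=
      mul_mem (mul_mem (inv_mem hg) (hX (d2_mem b _ _ _))) hg
    rw [k3] at k2
    simp only [Fin.sum_univ_four, d2_left (show (0 : Fin 4) ≠ 1 by decide),
      d2_right (show (0 : Fin 4) ≠ 1 by decide),
      d2_ne (show (2 : Fin 4) ≠ 0 by decide) (show (2 : Fin 4) ≠ 1 by decide),
      d2_ne (show (3 : Fin 4) ≠ 0 by decide) (show (3 : Fin 4) ≠ 1 by decide), inv_inv,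
      Units.val_inv_eq_inv_val, Units.val_mk0, Units.val_one] at k1 k2
    have x1 : x * x⁻¹ = 1 := mul_inv_cancel₀ x0
    have x2 : (x - 1) * (x + 1) * (x * x + 1) ≠ 0 := fun h => x4 (by linear_combination h)
    by_cases k5 : g⁻¹ * dg b (d2 0 1 (Units.mk0 x x0)) * g ∈ mono b
    · exfalso
      obtain ⟨r, c, hc⟩ := mem_mono.1 k5 0
      by_cases hr : r = 0
      · subst hr
        have k6 := congrArg g hc
        simp only [LinearEquiv.mul_apply, lin_apply_inv, map_smul] at k6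
        have k7 := congrArg (fun v => b.repr v 0) k6
        have k8 := congrArg (fun v => b.repr v 2) k6
        simp only [repr_dg, d2_left (show (0 : Fin 4) ≠ 1 by decide),
          d2_ne (show (2 : Fin 4) ≠ 0 by decide) (show (2 : Fin 4) ≠ 1 by decide), map_smul,
          Finsupp.smul_apply, smul_eq_mul, Units.val_mk0, Units.val_one] at k7 k8
        have k9 := mul_right_cancel₀ (one_zero4 hS hX hq hW hg hg' 0 0) k7
        have k10 := mul_right_cancel₀ (one_zero4 hS hX hq hW hg hg' 0 2) k8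
        exact x2 (by rw [k9, ← k10]; simp)
      · rw [hc] at k1
        simp only [map_smul, Basis.repr_self, Finsupp.smul_apply, Finsupp.single_apply, hr,
          if_false, smul_zero, mul_zero] at k1
        have : (x + 1) * (x + 1) = 0 := by linear_combination -x * k1 - x1
        exact x2 (by rw [mul_self_eq_zero.1 this]; simp)
    · have k6 := four_mul hS hX hq hW k4 k5 0 0
      have : (x * x + 1) * (x * x + 4 * x + 1) = 0 := by
        generalize b.repr ((g⁻¹ * dg b (d2 0 1 (Units.mk0 x x0)) * g)⁻¹ (b 0)) 0 = p at *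
        generalize b.repr ((g⁻¹ * dg b (d2 0 1 (Units.mk0 x x0)) * g) (b 0)) 0 = r at *
        generalize x⁻¹ = y at *
        have e1 : 4 * r * x = x * x + 2 * x + 1 := by linear_combination x * k1 + x1
        have e2 : 4 * p * x = x * x + 2 * x + 1 := by linear_combination x * k2 + x1
        linear_combination (4 * x * x) * k6 - (4 * p * x) * e1 - (x * x + 2 * x + 1) * e2
      exact (mul_eq_zero.1 this).resolve_left (right_ne_zero_of_mul x2)
  obtain ⟨x, x0, x4⟩ := sd_exists_pow4 hq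
  have a1 := h3 x x0 x4
  have a2 := h3 (-x) (neg_ne_zero.2 x0) (by rwa [show (-x) ^ 4 = x ^ 4 by ring])
  have a3 : (4 : F) ≠ 0 := fun h => by simpa [h] using h1 0
  have : (4 : F) * 4 * x = 0 := by linear_combination 2 * a1 - 2 * a2
  simp [a3, x0] at this

end Fr

theorem sl4_lines {F : Type*} [Field F] [Fintype F] : 7 ≤ Fintype.card F →
    ∀ D : Fin 4 → Submodule F (Fin 4 → F), IsMDecomposition 1 D →
    IsMaximalIn (specialLinear (Fin 4) F) (decompositionStabilizer D ⊓ specialLinear (Fin 4) F) := by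
  intro hq D hD
  obtain ⟨b, rfl⟩ := exists_blk_basis hD
  refine isMaximalIn_map' (specialLinear_eq) (comap_decompositionStabilizer' _) ofLin_injective
    (not_slV_le_decL b) fun X hS hX h => ?_
  have h3 : decL (Blk.blk b) = Fr.mono (b.reindex (Equiv.prodUnique _ _)) := by
    rw [Fr.mono]; congr 1; ext1 i
    simp [Blk.blk, Set.range_unique]
  rw [h3] at hX h
  exact Fr.Win.slV_le hX (by simp) (by_contra fun hW => h (Fr.le_mono4 hS hX hq hW))

end Cfsg.Lib.Forms
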