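import Cfsg.Agent.Lib.Max2.Blk

/-! Maximality of `GL_2 ≀ S_2` in `SL_4`. -/

set_option autoImplicit false

namespace Cfsg.Lib.Forms

open Module Cfsg.Geo

variable {F : Type*} [Field F] {V : Type*} [AddCommGroup V] [Module F V] {ι κ : Type*}

namespace Blk

open Fr

variable {b : Basis (ι × κ) F V} [DecidableEq ι] [Fintype ι] [Fintype κ] [DecidableEq κ]
  [FiniteDimensional F V] {X : Subgroup (V ≃ₗ[F] V)} (hX : slV F V ⊓ decL (blk b) ≤ X)
  (h2 : 2 ≤ Fintype.card κ) (h3 : ∀ i j k : ι, i ≠ j → k = i ∨ k = j)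
  (hl : ∃ c : F, c ≠ 0 ∧ c * c ≠ 1) (hW : ¬ Win b X)
include hX h2 h3 hl hW

omit [DecidableEq κ] [Fintype ι] in
theorem exists_mem2 {a : V} {α : V →ₗ[F] F} (α0 : α ≠ 0) (h0 : α a = 0)
    (h : ∀ c : F, HasTv X a (c • α)) : ∃ i, a ∈ blk b i := by
  by_contra ha
  push Not at ha
  obtain ⟨⟨j, k₀⟩, hj⟩ : ∃ x, α (b x) ≠ 0 := by
    by_contra h; push Not at h; exact α0 (b.ext h)
  have ne1 : ∀ {φ : V →ₗ[F] F} {w : V}, φ w = 1 → φ ≠ 0 := fun h h' => by simp [h'] at h
  obtain ⟨l, l0, l1⟩ := hl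
  obtain ⟨i, ij, hi⟩ := exists_pj_ne (ha j)
  have h4 : ∀ i, α (pj b i a) = 0 := fun i => by
    by_contra h4
    obtain ⟨w, -, -, -, φ, hφ, p1, p2⟩ := exists_dual' (b := b) i
      ((finrank_span_singleton_le (pj b i a)).trans_lt h2)
    have := p2 a (Submodule.mem_span_singleton_self _)
    exact hW (win_of hX h2 h0 h (ha i) (pj_mem b i a) h4 hφ (ne1 p1) (by rwa [hφ.pj]) this)
  have hs : a = pj b i a + pj b j a := b.ext_elem fun x => by
    rw [map_add, Finsupp.add_apply, repr_pj, repr_pj]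
    rcases h3 i j x.1 ij with h | h
    · simp [h, ij]
    · simp [h, ij.symm]
  have hj' : pj b j a ≠ 0 := fun h => ha i (by rw [hs, h, add_zero]; exact pj_mem b i a)
  obtain ⟨γ, hγ, r1, -⟩ := exists_dual (pj_mem b i a) (W := ⊥) (by simpa using hi)
  obtain ⟨δ, hδ, r2, -⟩ := exists_dual (pj_mem b j a) (W := ⊥) (by simpa using hj')
  obtain ⟨g, hg, H⟩ := exists_dec (pj_mem b i a) (hγ.smul (l - 1)) (by simp [r1, l0])
  obtain ⟨g', hg', H'⟩ := exists_dec (pj_mem b j a) (hδ.smul (l⁻¹ - 1)) (by simp [r2, l0])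
  have h5 : g * g' ∈ X := hX ⟨mem_slV.2 (by
    rw [LinearEquiv.coe_toLinearMap_mul, map_mul, det_of_tv H, det_of_tv H']
    simp [r1, r2, l0]), mul_mem hg hg'⟩
  have h6 : ∀ x, α ((g * g') x) = α x := fun x => by simp [H, H', h4]
  have h7 : (g * g') a - l⁻¹ • a = (l - l⁻¹) • pj b i a := by
    have r3 := hγ j ij.symm _ (pj_mem b j a)
    rw [hγ.pj] at r1
    rw [hδ.pj] at r2
    simp only [LinearEquiv.mul_apply, H, H', LinearMap.smul_apply, r1, r2, map_add, map_smul, r3,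
      smul_eq_mul]
    generalize pj b i a = x at hs
    generalize pj b j a = y at hs
    rw [hs]; module
  have l2 : l - l⁻¹ ≠ 0 := fun h => l1 (by
    rw [sub_eq_zero] at h; nth_rw 2 [h]; exact mul_inv_cancel₀ l0)
  obtain ⟨w, -, -, -, φ, hφ, p1, p2⟩ := exists_dual' (b := b) j
    ((finrank_span_singleton_le (b (j, k₀))).trans_lt h2)
  refine hW (win_of hX h2 (a := (g * g') a - l⁻¹ • a) (by rw [map_sub, h6, map_smul, h0]; simp)
    (fun c => ?_) (fun h => ?_) (b_mem b j k₀) hj hφ (ne1 p1)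
    (p2 _ (by rw [pj_of_mem (b_mem b j k₀)]; exact Submodule.mem_span_singleton_self _)) ?_)
  · refine HasTv.sub_left (((h c).conj h5).congr fun x => ?_)
      (hasTv_smul.2 (by rw [smul_smul]; exact h _)) (by simp [h0])
    have := h6 ((g * g')⁻¹ x)
    rw [lin_apply_inv] at this
    simp only [LinearMap.smul_apply, LinearMap.comp_apply, LinearEquiv.coe_coe, this]
  · have := pj_of_ne h ij.symm
    rw [h7, map_smul, pj_of_mem (pj_mem b i a)] at this
    simp [l2, hi] at this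
  · rw [h7]; simp [hφ i ij _ (pj_mem b i a)]

omit [DecidableEq κ] [Fintype ι] in
theorem exists_map2 {g : V ≃ₗ[F] V} (hg : g ∈ X) (j : ι) : ∃ i, ∀ a ∈ blk b j, g a ∈ blk b i := by
  have h1 : ∀ a ∈ blk b j, ∃ i, g a ∈ blk b i := fun a ha => by
    obtain ⟨w, -, -, -, φ, hφ, p1, p2⟩ := exists_dual' (b := b) j
      ((finrank_span_singleton_le a).trans_lt h2)
    have p3 := p2 a (by rw [pj_of_mem ha]; exact Submodule.mem_span_singleton_self _)
    refine exists_mem2 hX h2 h3 hl hW (α := φ ∘ₗ (g⁻¹ : V ≃ₗ[F] V)) (fun h => ?_) (by simp [p3])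
      fun c => ((hasTv hX ha (hφ.smul c) (by simp [p3])).conj hg).congr fun x => by simp
    simpa [p1] using LinearMap.congr_fun h (g w)
  obtain ⟨k⟩ : Nonempty κ := Fintype.card_pos_iff.1 (by omega)
  obtain ⟨i, hi⟩ := h1 _ (b_mem b j k)
  refine ⟨i, fun a ha => ?_⟩
  obtain ⟨i', hi'⟩ := h1 a ha
  obtain ⟨i'', hi''⟩ := h1 _ (add_mem ha (b_mem b j k))
  by_cases h4 : i'' = i
  · subst h4; simpa using sub_mem hi'' hi
  by_cases h5 : i' = i
  · exact h5 ▸ hi'
  have := pj_of_ne hi'' h4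
  rw [map_add, map_add, pj_of_ne hi' h5, pj_of_mem hi, zero_add, map_eq_zero_iff _ g.injective]
    at this
  exact absurd this (b.ne_zero _)

omit hW in
theorem slV_le2 (h : ¬ X ≤ decL (blk b)) : slV F V ≤ X := by
  have : Nonempty κ := Fintype.card_pos_iff.1 (by omega)
  refine Win.slV_le hX (by_contra fun hW => h fun g hg =>
    mem_decL_of_forall (blk_inj b) fun j => ?_)
  obtain ⟨i, hi⟩ := exists_map2 hX h2 h3 hl hW hg j
  refine ⟨i, Submodule.eq_of_le_of_finrank_eq ?_ ?_⟩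
  · rintro _ ⟨a, ha, rfl⟩; exact hi a ha
  · rw [LinearEquiv.finrank_map_eq, finrank_blk, finrank_blk]

end Blk

theorem sd_exists_sq_ne [Fintype F] (h : 4 ≤ Fintype.card F) : ∃ c : F, c ≠ 0 ∧ c * c ≠ 1 := by
  classical
  by_contra H
  push Not at H
  have : (Finset.univ : Finset F) ⊆ {0, 1, -1} := by
    intro l _
    have := H l
    simp only [Finset.mem_insert, Finset.mem_singleton]
    by_cases h0 : l = 0
    · exact Or.inl h0
    · exact Or.inr (mul_self_eq_one_iff.1 (this h0))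
  have := (Finset.card_le_card this).trans Finset.card_le_three
  simp at this; omega

theorem sl4_planes {F : Type*} [Field F] [Fintype F] : 4 ≤ Fintype.card F →
    ∀ D : Fin 2 → Submodule F (Fin 4 → F), IsMDecomposition 2 D →
    IsMaximalIn (specialLinear (Fin 4) F) (decompositionStabilizer D ⊓ specialLinear (Fin 4) F) := by
  intro hq D hD
  obtain ⟨b, rfl⟩ := exists_blk_basis hD
  refine isMaximalIn_map' (specialLinear_eq) (comap_decompositionStabilizer' _) ofLin_injective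
    (not_slV_le_decL b) fun X _ hX h => ?_
  exact Blk.slV_le2 hX (by simp) (by decide) (sd_exists_sq_ne hq) h

end Cfsg.Lib.Forms
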