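import Cfsg.Agent.Lib.Max.C8
import Cfsg.Agent.Lib.Max2.Fr

/-! Maximality of the orthogonal similarity groups in `SL_4`. -/

set_option autoImplicit false
set_option linter.unusedSectionVars false

namespace Cfsg.Lib.Forms

open Module Form

variable {F V : Type*} [Field F] [AddCommGroup V] [Module F V] [FiniteDimensional F V]
  {X : Subgroup (V ≃ₗ[F] V)}

namespace Sd

variable (X) in
/-- A transvection modulo `e`. -/
def Rq (e z : V) (φ : V →ₗ[F] F) : Prop :=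
  ∃ y ∈ X, y e = e ∧ ∀ x, ∃ c : F, y x = x + φ x • z + c • e

theorem Rq.conj {e z : V} {φ : V →ₗ[F] F} (h : Rq X e z φ) {k : V ≃ₗ[F] V} (hk : k ∈ X) {l : F}
    (l0 : l ≠ 0) (hl : k e = l • e) : Rq X e (k z) (φ ∘ₗ (k⁻¹ : V ≃ₗ[F] V)) := by
  obtain ⟨y, hy, h1, h2⟩ := h
  have h3 : k⁻¹ e = l⁻¹ • e := k.injective (by rw [lin_apply_inv, map_smul, hl, inv_smul_smul₀ l0])
  refine ⟨k * y * k⁻¹, mul_mem (mul_mem hk hy) (inv_mem hk), ?_, fun x => ?_⟩
  · simp only [LinearEquiv.mul_apply, h3, map_smul, h1, hl, inv_smul_smul₀ l0]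
  · obtain ⟨c, hc⟩ := h2 (k⁻¹ x)
    exact ⟨c * l, by simp only [LinearEquiv.mul_apply, hc, map_add, map_smul, hl, lin_apply_inv,
      smul_smul, LinearMap.comp_apply, LinearEquiv.coe_coe]⟩

variable (X) in
/-- Full axes modulo `e`. -/
def Ax (e : V) (φ : V →ₗ[F] F) : Prop := φ e = 0 ∧ ∀ z, φ z = 0 → Rq X e z φ

theorem Ax.conj {e : V} {φ : V →ₗ[F] F} (h : Ax X e φ) {k : V ≃ₗ[F] V} (hk : k ∈ X) {l : F}
    (l0 : l ≠ 0) (hl : k e = l • e) : Ax X e (φ ∘ₗ (k⁻¹ : V ≃ₗ[F] V)) := by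
  have h3 : k⁻¹ e = l⁻¹ • e := k.injective (by rw [lin_apply_inv, map_smul, hl, inv_smul_smul₀ l0])
  refine ⟨by simp only [LinearMap.comp_apply, LinearEquiv.coe_coe, h3, map_smul, h.1, smul_zero],
    fun z hz => ?_⟩
  have := (h.2 (k⁻¹ z) hz).conj hk l0 hl
  rwa [lin_apply_inv] at this

theorem Ax.smul {e : V} {φ : V →ₗ[F] F} (h : Ax X e φ) (c : F) : Ax X e (c • φ) := by
  refine ⟨by simp [h.1], fun z hz => ?_⟩
  obtain ⟨y, hy, h1, h2⟩ := h.2 (c • z) (by simpa using hz)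
  exact ⟨y, hy, h1, fun x => (h2 x).imp fun d hd => by simp [hd, smul_smul, mul_comm]⟩

theorem Ax.add {e : V} {φ ψ : V →ₗ[F] F} (h : Ax X e φ) (h' : Ax X e ψ) : Ax X e (φ + ψ) := by
  by_cases h1 : ψ ∈ F ∙ φ
  · obtain ⟨c, rfl⟩ := Submodule.mem_span_singleton.1 h1
    simpa [add_smul] using h.smul (1 + c)
  obtain ⟨w, p1, p2⟩ := exists_vec_pair h1
  obtain ⟨y, hy, h2, h3⟩ := h.2 w p2
  have := h'.conj (inv_mem hy) one_ne_zero (y.injective (by rw [lin_apply_inv, one_smul, h2]))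
  convert this using 1
  ext x
  obtain ⟨c, hc⟩ := h3 x
  simp [hc, p1, h'.1, add_comm]

theorem ax_zero (e : V) : Ax X e 0 := ⟨rfl, fun _ _ => ⟨1, one_mem _, rfl, fun _ => ⟨0, by simp⟩⟩⟩

theorem atL_of_ax (hn : 3 ≤ finrank F V) {e : V} (h : ∀ φ : V →ₗ[F] F, φ e = 0 → Ax X e φ)
    {χ : V →ₗ[F] F} (h0 : χ e = 0) (h1 : χ ≠ 0) (h2 : HasTv X e χ) : AtL X e := by
  have k : ∀ φ : V →ₗ[F] F, φ e = 0 → χ ∉ F ∙ φ → HasTv X e φ := fun φ hφ h3 => by
    obtain ⟨w, p1, p2⟩ := exists_vec_pair h3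
    obtain ⟨y, hy, q1, q2⟩ := (h φ hφ).2 w p2
    have h4 := h2.conj (inv_mem hy)
    rw [show y⁻¹ e = e from y.injective (by rw [lin_apply_inv, q1]), inv_inv] at h4
    refine (h4.sub h2 (by simp [q1, h0]) h0).congr fun x => ?_
    obtain ⟨c, hc⟩ := q2 x
    simp [hc, p1, h0]
  obtain ⟨U, -, u1, u2⟩ := exists_le_kers (⊤ : Submodule F V) [χ]
  obtain ⟨v, v1, v2⟩ := exists_not_mem_of_finrank_lt (U := U) (W := F ∙ e) (by
    have := finrank_span_singleton_le (F := F) e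
    simp at u1; omega)
  have v3 : χ v = 0 := ((u2 v).1 v1).2 _ (by simp)
  have k' : ∀ φ : V →ₗ[F] F, φ e = 0 → φ v ≠ 0 → HasTv X e φ := fun φ hφ h3 => k φ hφ fun h4 => by
    obtain ⟨c, rfl⟩ := Submodule.mem_span_singleton.1 h4
    exact h1 (by simp [show c = 0 by simpa [h3] using v3])
  intro φ hφ
  by_cases h3 : φ v = 0
  · obtain ⟨ψ, p1, p2⟩ := exists_functional v2 1
    have p3 := p2 e (Submodule.mem_span_singleton_self e)
    simpa using (k' (φ + ψ) (by simp [hφ, p3]) (by simp [h3, p1])).sub (k' ψ p3 (by simp [p1]))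
      (by simp [hφ, p3]) p3
  · exact k' φ hφ h3

variable {D : Form (quadKind F) V} (hD : D.Nondeg) (h2 : (2 : F) ≠ 0) (hn : 4 ≤ finrank F V)
include hD hn

theorem exists_ns_ker (φ : V →ₗ[F] F) : ∃ p, φ p = 0 ∧ D.Q p ≠ 0 := by
  by_contra! H
  obtain ⟨U, -, h1, h3⟩ := exists_le_kers (⊤ : Submodule F V) [φ]
  have := (isTS_quad (U := U) fun u hu => H u (((h3 u).1 hu).2 _ (by simp))).two_mul_finrank_le hD
  simp at h1; omega

include h2

theorem sim_of_sing {e f : V} (hef : D.IsHyp e f) {g : V ≃ₗ[F] V}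
    (h : ∀ x, D.Q x = 0 → D.Q (g x) = 0) : g ∈ D.simB := by
  have he := h e hef.Q_e
  have hf := h f hef.Q_f
  have k0 : ∀ (a b : F) (w : V), D.Q (g (a • e + b • f + w)) = a * b * D.B (g e) (g f) +
      a * D.B (g e) (g w) + b * D.B (g f) (g w) + D.Q (g w) := fun a b w => by
    simp only [map_add, map_smul, quad_Q_add, quad_Q_smul, he, hf, LinearMap.add_apply,
      LinearMap.smul_apply, smul_eq_mul]
    ring
  have k1 : ∀ w ∈ D.hp e f, -D.Q w * D.B (g e) (g f) - D.Q w * D.B (g e) (g w) +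
      D.B (g f) (g w) + D.Q (g w) = 0 := fun w hw => by
    have := h (-D.Q w • e + (1 : F) • f + w) (by rw [hef.Q_comb _ _ hw]; simp [quadKind])
    rw [k0] at this; linear_combination this
  have k2 : ∀ w ∈ D.hp e f, D.Q (g w) = D.B (g e) (g f) * D.Q w ∧
      D.B (g f) (g w) = D.Q w * D.B (g e) (g w) := fun w hw => by
    have a1 := k1 w hw
    have a2 := k1 (-w) (neg_mem hw)
    simp only [map_neg, Q_neg] at a2
    exact ⟨mul_left_cancel₀ h2 (by linear_combination a1 + a2),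
      mul_left_cancel₀ h2 (by linear_combination a1 - a2)⟩
  have k3 : ∀ w ∈ D.hp e f, D.B (g e) (g w) = 0 := by
    by_contra! H
    obtain ⟨w, hw, h1⟩ := H
    obtain ⟨v, hv, v0, v1⟩ := exists_ne_zero_kers (D.hp e f) [D.B (g e) ∘ₗ g] (by
      have := hef.finrank_hp; simp; omega)
    replace v1 : D.B (g e) (g v) = 0 := v1 (D.B (g e) ∘ₗ g) (by simp)
    have v2 : D.B (g f) (g v) = 0 := by rw [(k2 v hv).2, v1, mul_zero]
    have k4 : ∀ w ∈ D.hp e f, D.B (g e) (g w) ≠ 0 → D.B w v = 0 := fun w hw h1 => by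
      have a0 := (k2 w hw).2
      have a1 := (k2 _ (add_mem hw hv)).2
      have a2 := (k2 _ (sub_mem hw hv)).2
      simp only [map_add, map_sub, v1, v2, quad_Q_add, quad_Q_sub] at a1 a2
      exact mul_left_cancel₀ (mul_ne_zero h2 h1) (by linear_combination a2 - a1)
    obtain ⟨z, hz, z1⟩ := hef.exists_B_ne_zero hD hv v0
    have z2 : D.B (g e) (g z) = 0 := by_contra fun h => z1 (k4 z hz h)
    have := k4 _ (add_mem hw hz) (by simpa [z2] using h1)
    rw [D.B_add_left, k4 w hw h1, zero_add] at this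
    exact z1 this
  have k5 : ∀ x, D.Q (g x) = D.B (g e) (g f) * D.Q x := fun x => by
    obtain ⟨w, hw, hx⟩ := hef.exists_comb x
    generalize (quadKind F).ε * D.B f x = a at hx
    generalize D.B e x = b at hx
    rw [hx, k0, hef.Q_comb _ _ hw, (k2 w hw).1, (k2 w hw).2, k3 w hw]
    simp [quadKind]; ring
  have k6 : ∀ x y, D.B (g x) (g y) = D.B (g e) (g f) * D.B x y := fun x y => by
    rw [quad_B_eq, quad_B_eq D x y, ← map_add, k5, k5, k5]; ring
  refine ⟨_, fun h0 => hef.e_ne_zero (g.injective ((hD _ fun y => ?_).trans (map_zero _).symm)), k6⟩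
  obtain ⟨y, rfl⟩ := g.surjective y
  rw [k6, h0, zero_mul]

variable [Fintype F] (hX : ∀ g : D.isom, D.det g = 1 → g.1 ∈ X)
include hX

theorem irr_so {W : Submodule F V} (h0 : W ≠ ⊥) (h : ∀ g ∈ X, ∀ x ∈ W, g x ∈ W) : W = ⊤ := by
  refine Quad.irr hD (by omega) W h0 fun g x hx => ?_
  rcases hD.det_eq_one_or g with h1 | h1
  · exact h _ (hX g h1) x hx
  obtain ⟨p, p1, p2⟩ := exists_ns_ker hD hn (D.B x)
  have := h _ (hX (g * D.refl p) (by rw [map_mul, h1, det_refl p2]; simp)) x hx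
  rwa [isom_mul_apply, refl_apply_of_perp (D.eq_zero_symm p1)] at this

theorem ax_all {g : V ≃ₗ[F] V} (hg : g ∈ X) {a : V} (ha : D.Q a ≠ 0) (he : D.Q (g a) = 0)
    (φ : V →ₗ[F] F) (hφ : φ (g a) = 0) : Ax X (g a) φ := by
  have o := (isOrthCompl_span_singleton (quad_B_ne_zero h2 ha)).symm
  have d := finrank_perp_span_singleton (quad_B_ne_zero h2 ha)
  have a0 : g a ≠ 0 := by rintro h; rw [g.map_eq_zero_iff] at h; simp [h] at ha
  let P : Submodule F (D.perp (F ∙ a)) :=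
    { carrier := {w | Ax X (g a) (D.B w ∘ₗ (g⁻¹ : V ≃ₗ[F] V))}
      zero_mem' := by simpa using ax_zero (g a)
      add_mem' := fun {x y} h1 h3 => by simpa [LinearMap.add_comp] using Ax.add h1 h3
      smul_mem' := fun t x h1 => by simpa [LinearMap.smul_comp] using Ax.smul h1 t }
  have k : ∀ r : D.isom, D.det r = 1 → ∀ s : F, r.1 a = s • a → s ≠ 0 → ∀ x,
      Ax X (g a) (D.B x ∘ₗ (g⁻¹ : V ≃ₗ[F] V)) →
      Ax X (g a) (D.B (r.1 x) ∘ₗ (g⁻¹ : V ≃ₗ[F] V)) := by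
    intro r hr s hs s0 x hx
    convert hx.conj (k := g * r.1 * g⁻¹) (mul_mem (mul_mem hg (hX r hr)) (inv_mem hg)) s0
      (by simp only [LinearEquiv.mul_apply, lin_inv_apply, hs, map_smul]) using 1
    ext y
    simp only [LinearMap.comp_apply, B_isom_left, LinearEquiv.coe_coe, mul_inv_rev, inv_inv,
      LinearEquiv.mul_apply, lin_inv_apply]
    rfl
  have rep : ∀ φ : V →ₗ[F] F, φ (g a) = 0 → ∃ w : D.perp (F ∙ a),
      φ = D.B w ∘ₗ (g⁻¹ : V ≃ₗ[F] V) := fun φ hφ => by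
    obtain ⟨w, hw⟩ := hD.exists_rep (φ ∘ₗ g)
    exact ⟨⟨w, D.mem_perp_span_singleton.2 (D.eq_zero_symm (by rw [hw]; exact hφ))⟩,
      LinearMap.ext fun x => by simp [hw, lin_apply_inv]⟩
  have a1 : Ax X (g a) (D.B (g a)) := ⟨D.B_self_of_Q he, fun z hz => by
    have hE := isEich_quad he (z := -z) (by simp [hz])
    exact ⟨_, hX _ (det_eich _ _ _ hE), D.eich_apply_self hE, fun x =>
      ⟨-D.B z x - D.B (g a) x * D.Q z, by
        rw [eich_apply, show (quadKind F).ε = 1 from rfl, Q_neg, map_neg, LinearMap.neg_apply]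
        module⟩⟩⟩
  have : P = ⊤ := Quad.irr (o.nondeg_left hD) (by omega) P (fun h0 => by
    obtain ⟨w, hw⟩ := rep _ a1.1
    have : w = 0 := h0.le (show w ∈ P by rw [hw] at a1; exact a1)
    exact a0 (hD _ fun y => by rw [hw, this]; simp)) fun r x hx => by
    have a1 := extend_apply_right o r (Submodule.mem_span_singleton_self a)
    change Ax X _ _
    rw [← extend_apply_left o]
    rcases hD.det_eq_one_or (extend o r) with h1 | h1
    · exact k _ h1 1 (by simpa using a1) one_ne_zero _ hx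
    have := k (extend o r * D.refl a) (by rw [map_mul, h1, det_refl ha]; simp) (-1)
      (by simp [isom_mul_apply, refl_apply_self ha, a1]) (by simp) _ hx
    rwa [isom_mul_apply, refl_apply_of_perp (D.mem_perp_span_singleton.1 x.2)] at this
  obtain ⟨w, rfl⟩ := rep φ hφ
  exact this.ge (Submodule.mem_top (x := w))

theorem exists_tv_of_ax {e : V} (he : D.Q e = 0) (e0 : e ≠ 0)
    (h : ∀ φ : V →ₗ[F] F, φ e = 0 → Ax X e φ) :
    ∃ χ : V →ₗ[F] F, χ e = 0 ∧ χ ≠ 0 ∧ HasTv X e χ := by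
  obtain ⟨p, p1, p2⟩ := exists_ns_ker hD hn (D.B e)
  obtain ⟨U, -, u1, u2⟩ := exists_le_kers (⊤ : Submodule F V) [D.B e]
  obtain ⟨z, z1, z2⟩ := exists_not_mem_of_finrank_lt (U := U) (W := Submodule.span F {e, p}) (by
    have := finrank_span_pair_le (F := F) e p
    simp at u1; omega)
  have z3 : D.B e z = 0 := ((u2 z).1 z1).2 _ (by simp)
  obtain ⟨φ, q1, q2⟩ := exists_functional z2 1
  have q3 := q2 e (Submodule.subset_span (by simp))
  have q4 := q2 p (Submodule.subset_span (by simp))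
  obtain ⟨p, p1, q4, p3⟩ : ∃ p, D.B e p = 0 ∧ φ p = 0 ∧ D.Q (z + p) ≠ D.Q z := by
    by_contra! H
    have a1 := H p p1 q4
    have a2 := H (-p) (by simp [p1]) (by simp [q4])
    rw [quad_Q_add] at a1 a2
    simp only [Q_neg, map_neg] at a2
    exact mul_ne_zero h2 p2 (by linear_combination a1 + a2)
  obtain ⟨y, hy, y1, y2⟩ := (h φ q3).2 p q4
  have y3 : ∀ x, D.B e (y x) = D.B e x := fun x => by
    obtain ⟨c, hc⟩ := y2 x
    simp [hc, p1, D.B_self_of_Q he]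
  have y4 : D.Q (y z) = D.Q (z + p) := by
    obtain ⟨c, hc⟩ := y2 z
    rw [hc, q1, one_smul, D.Q_add_smul he]
    simp [D.eq_zero_symm z3, D.eq_zero_symm p1]
  have hd := isEich_quad he z3
  have hd' := isEich_quad he ((y3 z).trans z3)
  let ψ : V →ₗ[F] F := D.B z - D.B (y z) ∘ₗ y - (D.Q z - D.Q (y z)) • D.B e
  refine ⟨ψ ∘ₗ (y⁻¹ : V ≃ₗ[F] V), ?_, fun H => p3 ?_,
    ((D.eich _ _ _ hd').1)⁻¹ * y * (D.eich _ _ _ hd).1 * y⁻¹, mul_mem (mul_mem (mul_mem
      (inv_mem (hX _ (det_eich _ _ _ _))) hy) (hX _ (det_eich _ _ _ _))) (inv_mem hy), fun x => ?_⟩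
  · rw [← y1, LinearMap.comp_apply, LinearEquiv.coe_coe, lin_inv_apply]
    simp [ψ, y1, hd.B_ze, hd'.B_ze, hd.B_ee]
  · have := LinearMap.congr_fun H (y z)
    rw [LinearMap.comp_apply, LinearEquiv.coe_coe, lin_inv_apply] at this
    simp only [ψ, LinearMap.sub_apply, LinearMap.comp_apply, LinearEquiv.coe_coe,
      LinearMap.smul_apply, z3, smul_zero, quad_B_self, LinearMap.zero_apply] at this
    rw [← y4]
    exact mul_left_cancel₀ h2 (by linear_combination -this)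
  · obtain ⟨x, rfl⟩ := y.surjective x
    apply (D.eich _ _ _ hd').1.injective
    simp only [LinearEquiv.mul_apply, lin_inv_apply, lin_apply_inv, LinearMap.comp_apply,
      LinearEquiv.coe_coe, map_add, map_smul, D.eich_apply_self hd']
    simp only [ψ, eich_apply, map_add, map_sub, map_smul, y1, y3, LinearMap.sub_apply,
      LinearMap.comp_apply, LinearMap.smul_apply, smul_eq_mul, LinearEquiv.coe_coe,
      show (quadKind F).ε = 1 from rfl]
    module

omit hX in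
theorem slV_le (X : Subgroup (V ≃ₗ[F] V)) (h1 : slV F V ⊓ D.simB ≤ X) (h3 : ¬ X ≤ D.simB) :
    slV F V ≤ X := by
  have hX : ∀ g : D.isom, D.det g = 1 → g.1 ∈ X := fun g hg => h1 ⟨hg, 1, one_ne_zero, by simp⟩
  obtain ⟨g, hg, hg'⟩ := SetLike.not_le_iff_exists.1 h3
  obtain ⟨e, f, hef⟩ := Quad.exists_isHyp hD (by omega)
  obtain ⟨e, he, ha⟩ : ∃ e, D.Q e = 0 ∧ D.Q (g e) ≠ 0 := by
    by_contra! H; exact hg' (sim_of_sing hD h2 hn hef H)
  have e0 : e ≠ 0 := by rintro rfl; simp at ha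
  have h4 := ax_all hD h2 hn hX (inv_mem hg) ha (by rwa [lin_inv_apply])
  rw [lin_inv_apply] at h4
  obtain ⟨χ, c1, c2, c3⟩ := exists_tv_of_ax hD h2 hn hX he e0 h4
  exact (atL_of_ax (by omega) h4 c1 c2 c3).slV_le fun W hW H =>
    irr_so hD h2 hn hX ((Submodule.ne_bot_iff _).2 ⟨e, hW, e0⟩) H

end Sd

open Matrix Cfsg.Geo in
theorem sl4_quad {F : Type*} [Field F] [Fintype F] : Odd (Fintype.card F) →
    ∀ Q : (Fin 4 → F) → F, IsNondegenerateQuadraticForm Q →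
      IsMaximalIn (specialLinear (Fin 4) F) (quadSimilarityGroup Q ⊓ specialLinear (Fin 4) F) := by
  intro ho Q hQ
  have hn' : finrank F (Fin 4 → F) = 4 := by simp
  obtain ⟨D, rfl, hD⟩ := exists_form_of_quad hQ
  have h2 := two_ne_zero_of_odd_card rfl ho
  obtain ⟨e, f, hef⟩ := Quad.exists_isHyp hD (by omega)
  exact isMaximalIn_map specialLinear_eq (comap_quadSimilarityGroup h2)
    (hef.not_slV_le_simB (by omega)) (Sd.slV_le hD h2 (by omega))

end Cfsg.Lib.Forms
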