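import Cfsg.Agent.Lib.Max.C8
import Cfsg.Agent.Lib.Max.C3H

/-! Maximality of the symplectic and unitary similarity groups in `SL_4`. -/

set_option autoImplicit false

namespace Cfsg.Lib.Forms

open Module Form

variable {F V : Type*} [Field F] [AddCommGroup V] [Module F V] [FiniteDimensional F V]
  {X : Subgroup (V ≃ₗ[F] V)} {σ : F →+* F} {K : Kind σ} {D : Form K V}

theorem Form.Nondeg.sd_exists_sing (hD : D.Nondeg) {s : ℕ} (hs : D.Sing s)
    (hn : s + 2 ≤ finrank F V) {u y : V} (hu : u ≠ 0) (hy : y ∉ F ∙ u) :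
    ∃ t, D.Q t = 0 ∧ D.B u t = 0 ∧ D.B y t ≠ 0 := by
  by_contra! H
  have h1 := hD.finrank_perp (F ∙ u)
  rw [finrank_span_singleton hu] at h1
  obtain ⟨e, he, he', hQ, -⟩ := hs.exists_not_mem (D.perp (F ∙ u)) (F ∙ u) []
    (by rw [finrank_span_singleton hu]; simp; omega)
  have := le_of_singular (A := LinearMap.ker (D.B y)) he hQ (by rwa [hD.perp_perp])
    fun t ht hQt _ => H t hQt (D.mem_perp_span_singleton.1 ht)
  exact hy ((hD.perp_perp _).le (D.mem_perp'.2 fun w hw => this hw))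

theorem Form.Nondeg.slV_le_of_tv4 (hD : D.Nondeg) {s : ℕ} (hs : D.Sing s)
    (hn : s + 2 ≤ finrank F V) (ht : ∃ d, d ≠ 0 ∧ K.tr d = 0)
    (hE : ∀ g ∈ D.E, g.1 ∈ X) {u v : V} (hu : u ≠ 0) (h : D.B v ∈ psi X u) (hv : v ∉ F ∙ u) :
    slV F V ≤ X := by
  have cj : ∀ g ∈ D.E, ∀ x y, HasTv X x (D.B y) → HasTv X (g.1 x) (D.B (g.1 y)) :=
    fun g hg x y h => by
      convert h.conj (hE g hg)
      ext z; exact B_isom_left _ _ _
  obtain ⟨t, t1, t2, t3⟩ := hD.sd_exists_sing hs hn hu hv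
  have tu : t ∉ F ∙ u := fun H => by
    obtain ⟨a, rfl⟩ := Submodule.mem_span_singleton.1 H
    exact t3 (by rw [map_smul, h.1, smul_zero])
  have t0 : t ≠ 0 := fun H => tu (H ▸ zero_mem _)
  obtain ⟨d, d0, hd⟩ := id ht
  have hE' : D.IsEich t 0 d := ⟨t1, by simp, by simpa using hd⟩
  obtain ⟨t', ht'⟩ : ∃ t', t' = (-(K.ε * D.B t v * d)) • t := ⟨_, rfl⟩
  have c0 : -(K.ε * D.B t v * d) ≠ 0 := by simp [K.ε_ne_zero, d0, D.ne_zero_symm t3]
  have q1 : D.Q t' = 0 := by rw [ht', D.Q_smul_of_Q t1]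
  have q0 : t' ≠ 0 := ht' ▸ smul_ne_zero c0 t0
  have q2 : D.B t' u = 0 := by rw [ht', D.B_smul_left, D.eq_zero_symm t2, mul_zero]
  have a1 : HasTv X u (D.B t') := by
    have h1 := cj _ (eich_mem_E _ _ _ hE') _ _ h.2
    rw [D.eich_apply_of_perp_perp hE' (D.eq_zero_symm t2) (by simp), eich_apply] at h1
    have h2 := h1.sub h.2 (by simp [D.B_lin, h.1, D.eq_zero_symm t2]) h.1
    convert h2 using 1
    rw [← map_sub]; congr 1
    rw [ht']; simp only [D.B_zero_left, zero_add]; module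
  have ut : u ∉ F ∙ t' := fun H => by
    obtain ⟨a, rfl⟩ := Submodule.mem_span_singleton.1 H
    have a0 : a ≠ 0 := left_ne_zero_of_smul hu
    exact tu (Submodule.mem_span_singleton.2 ⟨(-(K.ε * D.B t v * d))⁻¹ * a⁻¹, by
      rw [mul_smul, inv_smul_smul₀ a0, ht', inv_smul_smul₀ c0]⟩)
  have a2 : ∀ c : F, HasTv X t' (c • D.B t') := fun c => by
    obtain ⟨z, hz, hB⟩ := hD.exists_perp_B_eq ut c
    obtain ⟨d, hd⟩ := exists_isEich q1 (D.mem_perp_span_singleton.1 hz)
    have h1 := cj _ (eich_mem_E _ _ _ hd) _ _ a1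
    rw [D.eich_apply_self hd, D.eich_apply_of_perp hd q2, hB] at h1
    simpa [hasTv_smul] using h1.sub_left a1 q2
  have a3 : ∀ w, D.Q w = 0 → w ≠ 0 → ∀ c : F, HasTv X w (c • D.B w) := fun w w1 w0 c => by
    obtain ⟨g, hg, a, a0, ha⟩ := hD.exists_mem_map_smul eich_mem_E (Or.inl ht) q1 q0 w1 w0
    have h1 := (a2 (c * (a * σ a)⁻¹)).conj (hE g hg)
    have h2 : D.B t' ∘ₗ ((g.1)⁻¹ : V ≃ₗ[F] V) = D.B (g.1 t') := by
      ext z; exact (B_isom_left _ _ _).symm
    rw [LinearMap.smul_comp, h2, ha, hasTv_smul] at h1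
    refine h1.congr fun x => ?_
    have := K.norm_ne_zero a0
    have : σ a ≠ 0 := right_ne_zero_of_mul this
    simp only [LinearMap.smul_apply, D.B_smul_left, smul_eq_mul]
    congr 1; field_simp
  let A : Submodule F V :=
    { carrier := {x | ∀ c : F, D.B (c • x) ∈ psi X u}
      zero_mem' := fun c => by simpa using (psi X u).zero_mem
      add_mem' := fun h h' c => by simpa using add_mem (h c) (h' c)
      smul_mem' := fun a x h c => by simpa only [smul_smul] using h (c * a) }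
  have hA : D.perp (F ∙ u) ≤ A := RichOn.le_of_invariant (A := A) (Or.inl ht) (e := t)
    (D.mem_perp_span_singleton.2 t2) t1 (by rwa [hD.perp_perp]) (fun c => ⟨by
      rw [D.B_smul_left, D.eq_zero_symm t2, mul_zero], by
      have h1 := h.2.comm (a3 t t1 t0 (σ c * (D.B v t)⁻¹)) h.1 (by simp [D.B_self_of_Q t1])
        (by simp [D.eq_zero_symm t2])
      refine h1.congr fun x => ?_
      simp only [LinearMap.smul_apply, D.B_smul_left, smul_eq_mul]
      congr 1; field_simp⟩)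
    fun t ht _ z hz d h x hx c => by
      have h1 := eich_mem_fix h ht hz u (Submodule.mem_span_singleton_self u)
      have h2 := cj _ (eich_mem_E _ _ _ h) _ _ (hx c).2
      rw [h1, map_smul] at h2
      refine ⟨?_, h2⟩
      rw [← map_smul, ← h1, B_isom]; exact (hx c).1
  refine AtL.slV_le (u := u) (fun φ hφ => ?_) fun W hW H => hD.eq_top_of_E hs (by omega)
    ((Submodule.ne_bot_iff _).2 ⟨u, hW, hu⟩) fun g hg => H _ (hE g hg)
  obtain ⟨y, hy⟩ := hD.exists_rep φ
  obtain rfl : D.B y = φ := LinearMap.ext hy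
  simpa using (hA (D.mem_perp_span_singleton.2 (D.eq_zero_symm hφ)) 1).2

theorem Form.Nondeg.slV_le_tr4 (hD : D.Nondeg) {s : ℕ}
    (hs : D.Sing s) (hn : s + 2 ≤ finrank F V) (ht : ∃ d, d ≠ 0 ∧ K.tr d = 0)
    (hadd : ∀ A : V →+ V, (∀ x, D.Q x = 0 → A x ∈ F ∙ x) → ∃ c : F, ∀ x, A x = c • x)
    (X : Subgroup (V ≃ₗ[F] V)) (h1 : slV F V ⊓ D.simB ≤ X) (h2 : ¬ X ≤ D.simB) : slV F V ≤ X := by
  have hE : ∀ g ∈ D.E, g.1 ∈ X := fun g hg => h1 ⟨E_le_ker_det hg, 1, one_ne_zero, by simp⟩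
  obtain ⟨g, hg, hg'⟩ := SetLike.not_le_iff_exists.1 h2
  obtain ⟨d, d0, hd⟩ := id ht
  choose A hA using fun x => hD.exists_rep (D.B x ∘ₗ (g⁻¹ : V ≃ₗ[F] V))
  simp only [LinearMap.comp_apply, LinearEquiv.coe_coe] at hA
  by_contra H
  obtain ⟨c, hc⟩ := hadd (AddMonoidHom.mk' (fun x => g⁻¹ (A x)) fun x y => by
    rw [← map_add]; congr 1; exact hD.ext fun z => by simp [hA, D.B_add_left]) fun e he => by
      by_cases e0 : e = 0
      · rw [e0, map_zero]; exact Submodule.zero_mem _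
      have hE' : D.IsEich e 0 d := ⟨he, by simp, by simpa using hd⟩
      by_contra h3
      refine H (hD.slV_le_of_tv4 hs hn ht hE (u := g e) (by simpa using e0)
        (v := σ (-(K.ε * d)) • A e) ⟨?_, g * (D.eich e 0 d hE').1 * g⁻¹,
          mul_mem (mul_mem hg (hE _ (eich_mem_E _ _ _ _))) (inv_mem hg), fun x => ?_⟩ fun h => h3 ?_)
      · simp [D.B_smul_left, hA, lin_inv_apply, hE'.B_ee]
      · simp only [LinearEquiv.mul_apply, eich_apply, D.B_smul_left, hA, K.σσ, map_add, map_sub,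
          map_smul, lin_apply_inv, D.B_zero_left, zero_add]
        module
      · rw [Submodule.smul_mem_iff _ (by simp [K.ε_ne_zero, d0])] at h
        obtain ⟨a, ha⟩ := Submodule.mem_span_singleton.1 h
        exact Submodule.mem_span_singleton.2 ⟨a, by simp [← ha, lin_inv_apply]⟩
  simp only [AddMonoidHom.mk'_apply] at hc
  have h3 : ∀ x y, σ c * D.B (g x) (g y) = D.B x y := fun x y => by
    rw [← D.B_smul_left, ← map_smul, ← hc, lin_apply_inv, hA, lin_inv_apply]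
  have c0 : σ c ≠ 0 := fun h0 => by
    obtain ⟨e, -, e0, -⟩ := hs ⊤ (by rw [finrank_top]; omega)
    exact e0 (hD _ fun y => by rw [← h3, h0, zero_mul])
  exact hg' ⟨(σ c)⁻¹, inv_ne_zero c0, fun x y => by rw [← h3 x y]; field_simp⟩

open Matrix Cfsg.Geo in
theorem sl4_symp {F : Type*} [Field F] [Fintype F] :
    ∀ f : (Fin 4 → F) → (Fin 4 → F) → F, IsSymplecticForm f →
      IsMaximalIn (specialLinear (Fin 4) F) (similarityGroup f ⊓ specialLinear (Fin 4) F) := by
  intro f hf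
  have hn' : finrank F (Fin 4 → F) = 4 := by simp
  obtain ⟨D, h, hD⟩ := exists_form_of_symp hf
  obtain ⟨e, f, hef⟩ := Symp.exists_isHyp hD (by omega)
  exact isMaximalIn_map specialLinear_eq (comap_similarityGroup (Or.inl h))
    (hef.not_slV_le_simB (by omega)) (hD.slV_le_tr4 (Symp.sing D) (by omega) Symp.exists_tr
      fun A hA => exists_smul_of_add' (by omega) A fun x => hA x (alt_Q D x))

open Matrix Cfsg.Geo in
theorem sl4_herm {F : Type*} [Field F] [Fintype F] :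
    ∀ (σ : F ≃+* F) (f : (Fin 4 → F) → (Fin 4 → F) → F), IsUnitaryForm σ f →
      IsMaximalIn (specialLinear (Fin 4) F) (similarityGroup f ⊓ specialLinear (Fin 4) F) := by
  intro σ f hf
  have hn' : finrank F (Fin 4 → F) = 4 := by simp
  obtain ⟨q, hq⟩ := exists_isConj (σ := (σ : F →+* F))
    (fun h => hf.ne_refl (RingEquiv.ext fun x => congrArg (· x) h)) hf.involutive
  obtain ⟨D, h, hD⟩ := exists_form_of_herm hq hf.add_left hf.smul_left hf.herm hf.nondegenerate
  obtain ⟨e, f, hef⟩ := Herm.exists_isHyp hD (by omega)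
  exact isMaximalIn_map specialLinear_eq (comap_similarityGroup (Or.inr h))
    (hef.not_slV_le_simB (by omega)) (hD.slV_le_tr4 (Herm.sing D) (by omega) Herm.exists_tr
      (Herm.exists_smul_of_add hD (by omega)))

end Cfsg.Lib.Forms
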