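import Cfsg.Agent.Lib.K4.Sp3

/-!
# The Klein correspondence for `SL₄`
-/

set_option autoImplicit false

namespace Cfsg.Lib.Forms.K4

open Module Form Matrix Cfsg.Geo

variable {F : Type*} [Field F]

local notation "V6" => Fin 3 ⊕ Fin 3 → F
local notation "M4" => Matrix (Fin 4) (Fin 4) F

variable (F) in
/-- Alternating matrices. -/
def al : (V6) →ₗ[F] M4 where
  toFun v := !![0, v (.inl 0), v (.inl 1), v (.inl 2); -v (.inl 0), 0, v (.inr 2), -v (.inr 1);
    -v (.inl 1), -v (.inr 2), 0, v (.inr 0); -v (.inl 2), v (.inr 1), -v (.inr 0), 0]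
  map_add' x y := by ext i j; fin_cases i <;> fin_cases j <;> simp <;> ring
  map_smul' c x := by ext i j; fin_cases i <;> fin_cases j <;> simp

variable (F) in
/-- The dual alternating matrices. -/
def al' : (V6) →ₗ[F] M4 where
  toFun v := !![0, -v (.inr 0), -v (.inr 1), -v (.inr 2); v (.inr 0), 0, -v (.inl 2), v (.inl 1);
    v (.inr 1), v (.inl 2), 0, -v (.inl 0); v (.inr 2), -v (.inl 1), v (.inl 0), 0]
  map_add' x y := by ext i j; fin_cases i <;> fin_cases j <;> simp <;> ring
  map_smul' c x := by ext i j; fin_cases i <;> fin_cases j <;> simp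

theorem al_sq (v : V6) : al F v * al' F v = (fPlus F 3).Q v • (1 : M4) := by
  ext i j; fin_cases i <;> fin_cases j <;>
    simp [al, al', fPlus_Q, quadFormPlus, mul_apply, Fin.sum_univ_four, Fin.sum_univ_three, one_apply] <;> ring

theorem al_sq' (v : V6) : al' F v * al F v = (fPlus F 3).Q v • (1 : M4) := by
  ext i j; fin_cases i <;> fin_cases j <;>
    simp [al, al', fPlus_Q, quadFormPlus, mul_apply, Fin.sum_univ_four, Fin.sum_univ_three, one_apply] <;> ring

theorem al_an (v w : V6) : al F v * al' F w = (fPlus F 3).B v w • (1 : M4) - al F w * al' F v := by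
  have := al_sq (v + w)
  rw [map_add, map_add, add_mul, mul_add, mul_add, al_sq, al_sq, quad_Q_add, add_smul, add_smul] at this
  linear_combination (norm := module) this

theorem al_an' (v w : V6) : al' F v * al F w = (fPlus F 3).B v w • (1 : M4) - al' F w * al F v := by
  have := al_sq' (v + w)
  rw [map_add, map_add, add_mul, mul_add, mul_add, al_sq', al_sq', quad_Q_add, add_smul, add_smul] at this
  linear_combination (norm := module) this

theorem al_inj : Function.Injective (al F) := (injective_iff_map_eq_zero _).2 fun v h => by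
  ext (i | i) <;> fin_cases i
  exacts [by simpa [al] using congrFun (congrFun h 0) 1, by simpa [al] using congrFun (congrFun h 0) 2,
    by simpa [al] using congrFun (congrFun h 0) 3, by simpa [al] using congrFun (congrFun h 2) 3,
    by simpa [al] using congrFun (congrFun h 3) 1, by simpa [al] using congrFun (congrFun h 1) 2]

theorem al_tr (v : V6) : (al F v)ᵀ = -al F v := by
  ext i j; fin_cases i <;> fin_cases j <;> simp [al]

theorem al'_tr (v : V6) : (al' F v)ᵀ = -al' F v := by
  ext i j; fin_cases i <;> fin_cases j <;> simp [al']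

theorem al_wedge (g : M4) (v : V6) : al F (wedge g *ᵥ v) = g * al F v * gᵀ := by
  have k : ∀ i j, (g * al F v * gᵀ) i j =
      ∑ a, v a * (g i (wI a) * g j (wJ a) - g i (wJ a) * g j (wI a)) := fun i j => by
    simp [al, wI, wJ, mul_apply, Fin.sum_univ_four, Fin.sum_univ_three, Fintype.sum_sum_type]; ring
  have k2 : ∀ a, (wedge g *ᵥ v) a =
      ∑ b, v b * (g (wI a) (wI b) * g (wJ a) (wJ b) - g (wI a) (wJ b) * g (wJ a) (wI b)) := fun a => by
    simp only [wedge, mulVec, dotProduct, of_apply, mul_comm (v _)]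
  have k3 : ∀ i j, ∑ a, v a * (g i (wI a) * g j (wJ a) - g i (wJ a) * g j (wI a)) =
      -∑ a, v a * (g j (wI a) * g i (wJ a) - g j (wJ a) * g i (wI a)) := fun i j => by
    rw [← Finset.sum_neg_distrib]; exact Finset.sum_congr rfl fun a _ => by ring
  have k4 : ∀ i, ∑ a, v a * (g i (wI a) * g i (wJ a) - g i (wJ a) * g i (wI a)) = 0 := fun i =>
    Finset.sum_eq_zero fun a _ => by ring
  ext i j
  rw [k]
  fin_cases i <;> fin_cases j <;> first | exact (k4 _).symm | exact k2 _ | exact (congrArg Neg.neg (k2 _)).trans (k3 _ _).symm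

theorem range_wedge [Finite F] : (wedgeHom F).range = (fPlus F 3).E := by
  have hD := fPlus_nondeg (F := F) 3
  refine le_antisymm ?_ (Form.E_le fun e z d hd => ?_)
  · rintro _ ⟨g, rfl⟩
    rw [← hD.commutator_eq_E (good_of_finrank (by simp)) (by simp)]
    exact map_mem_commutator _ ((Linear.sl_commutator_eq_top (Or.inl (by simp))).ge trivial)
  have e1 : al F e * al' F e = 0 := by rw [al_sq, hd.Q_e, zero_smul]
  have e1' : al' F e * al F e = 0 := by rw [al_sq', hd.Q_e, zero_smul]
  have e2 : al' F z * al F e = -(al' F e * al F z) := by rw [al_an', hd.B_ze, zero_smul, zero_sub]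
  have key : ∀ x, wedge (1 + al F e * al' F z) *ᵥ x = ((fPlus F 3).eich e z d hd).1 x := fun x => al_inj (by
    have e5 := al_an' z x
    have e6 := al_an x e
    have e8 := al_an e x
    have e9 := al_an x z
    have e10 := al_sq' z
    rw [al_wedge, transpose_add, transpose_mul, al_tr, al'_tr, transpose_one]
    simp only [eich_apply, map_add, map_sub, map_smul, hd.quad_eq, quadKind_ε, one_mul]
    rw [quad_symm _ x e] at e6
    rw [quad_symm _ x z] at e9
    generalize al F e = E, al F z = Z, al F x = X, al' F e = E', al' F z = Z', al' F x = X',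
      (fPlus F 3).B z x = a, (fPlus F 3).B e x = b, (fPlus F 3).Q z = q at *
    have f1 : E * Z' * X = a • E - E * X' * Z := by
      rw [Matrix.mul_assoc, e5, mul_sub, Matrix.mul_assoc]; simp
    have f2 : X * (Z' * E) = E * X' * Z - b • Z := by
      rw [e2, mul_neg, ← Matrix.mul_assoc, e6, sub_mul]; simp
    have f3 : E * (Z' * E) = 0 := by rw [e2, mul_neg, ← Matrix.mul_assoc, e1]; simp
    have f4 : E * X' * E = b • E := by
      rw [e8, sub_mul, Matrix.mul_assoc X, e1']; simp
    have f5 : E * Z' * X * (Z' * E) = -(b • q • E) := by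
      rw [Matrix.mul_assoc E, Matrix.mul_assoc E, Matrix.mul_assoc Z', ← Matrix.mul_assoc X, e9, sub_mul, mul_sub,
        ← Matrix.mul_assoc Z' (Z * X'), ← Matrix.mul_assoc Z' Z, e10]
      simp only [smul_mul_assoc, mul_smul_comm, one_mul, mul_sub, f3, ← Matrix.mul_assoc E X', f4]
      module
    rw [neg_mul_neg, add_mul, one_mul, mul_add, mul_one, add_mul, f5, f1, f2]
    module)
  refine ⟨⟨1 + al F e * al' F z, ?_⟩, isom_ext key⟩
  have := fPlus_Q_wedge (1 + al F e * al' F z) (fun a => if a = .inl 0 ∨ a = .inr 0 then 1 else 0)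
  rw [key, Q_isom] at this
  simpa [fPlus_Q, quadFormPlus, Fin.sum_univ_three] using this.symm

theorem ker_wedge [Finite F] {g : SpecialLinearGroup (Fin 4) F} (h : wedgeHom F g = 1) : g.1 = 1 ∨ g.1 = -1 := by
  rcases Linear.sl_normal_le_center_or_eq_top (Or.inl (by simp)) (wedgeHom F).ker with H | H
  · obtain ⟨c, hc⟩ := sl_eq_smul_of_mem_center (H h)
    have := congrFun (congrArg (fun g : (fPlus F 3).isom => g.1 (fun _ => 1)) h) (.inl 0)
    rw [wedgeHom_apply, hc, wedge_smul_one_mulVec] at this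
    rcases sq_eq_one_iff.1 (show c ^ 2 = 1 by simpa [isom_one_apply] using this) with rfl | rfl <;> simp [hc]
  · have H2 : SpecialLinearGroup.transvection (show (0 : Fin 4) ≠ 2 by decide) (1 : F) ∈ (wedgeHom F).ker :=
      H.ge trivial
    have := congrFun (congrArg (fun g : (fPlus F 3).isom => g.1 (Pi.single (.inr 0) 1)) H2) (.inl 2)
    rw [wedgeHom_apply] at this
    simp [isom_one_apply, SpecialLinearGroup.transvection, transvection, wedge, wI, wJ, one_apply] at this

variable (F) in
/-- The standard generators of `2^{1+4}`. -/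
def gen : Fin 4 → M4 := ![!![1, 0, 0, 0; 0, -1, 0, 0; 0, 0, 1, 0; 0, 0, 0, -1],
  !![0, -1, 0, 0; 1, 0, 0, 0; 0, 0, 0, -1; 0, 0, 1, 0], !![1, 0, 0, 0; 0, 1, 0, 0; 0, 0, -1, 0; 0, 0, 0, -1],
  !![0, 0, -1, 0; 0, 0, 0, -1; 1, 0, 0, 0; 0, 1, 0, 0]]

theorem gen_scal (h2 : (2 : F) ≠ 0) {x : M4} (h : ∀ k, x * gen F k = gen F k * x) : ∃ c : F, x = c • 1 := by
  have k := fun a i j => congrFun (congrFun (h a) i) j
  refine ⟨x 0 0, ?_⟩
  have k0 := k 0; have k1 := k 1; have k2 := k 2; have k3 := k 3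
  simp [gen, mul_apply, Fin.sum_univ_four, Fin.forall_fin_succ] at k0 k1 k2 k3
  ext i j; fin_cases i <;> fin_cases j <;> simp [one_apply] <;> grind

theorem gen_det (k : Fin 4) : (gen F k).det = 1 := by
  fin_cases k <;> simp [gen, det_succ_row_zero, Fin.sum_univ_succ, Fin.succAbove]

/-- The frame. -/
def fr (i : F) : Fin 3 ⊕ Fin 3 → V6 := Sum.elim (fun k => Pi.single (.inl k) 1 + Pi.single (.inr k) 1)
  fun k => i • (Pi.single (.inl k) 1 - Pi.single (.inr k) 1)

theorem fr_frame [Fintype F] (h2 : (2 : F) ≠ 0) {i : F} (hi : i * i = -1) : (fPlus F 3).IsFrame (fr i) 1 := by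
  refine IsFrame.of_card (fPlus_nondeg 3) one_ne_zero h2 ?_ ?_ (by simp)
  · rintro (k | k) <;> fin_cases k <;> simp [fr, fPlus_Q, quadFormPlus, Fin.sum_univ_three, hi]
  · rintro (k | k) (l | l) h <;> fin_cases k <;> fin_cases l <;>
      first | exact absurd rfl h | simp [fr, fPlus_B, Fin.sum_univ_three]

theorem wedge_gen (k : Fin 4) (v : V6) : wedge (gen F k) *ᵥ v =
    ![Sum.elim ![-v (.inl 0), v (.inl 1), -v (.inl 2)] ![-v (.inr 0), v (.inr 1), -v (.inr 2)],
      Sum.elim ![v (.inl 0), -v (.inr 1), -v (.inr 2)] ![v (.inr 0), -v (.inl 1), -v (.inl 2)],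
      Sum.elim ![v (.inl 0), -v (.inl 1), -v (.inl 2)] ![v (.inr 0), -v (.inr 1), -v (.inr 2)],
      Sum.elim ![v (.inr 0), v (.inl 1), v (.inr 2)] ![v (.inl 0), v (.inr 1), v (.inl 2)]] k := by
  fin_cases k <;> ext (a | a) <;> fin_cases a <;>
    simp [wedge, gen, wI, wJ, mulVec, dotProduct, Fin.sum_univ_three, Fintype.sum_sum_type]

theorem gen_fr (i : F) (k : Fin 4) (j : Fin 3 ⊕ Fin 3) :
    wedge (gen F k) *ᵥ fr i j = fr i j ∨ wedge (gen F k) *ᵥ fr i j = -fr i j := by
  rw [wedge_gen]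
  fin_cases k <;> rcases j with j | j <;> fin_cases j <;>
    simp [fr, funext_iff, Sum.forall, Fin.forall_fin_succ]

theorem fix2 {M : Type*} [Ring M] {A B S : M} (hab : A * B = -(B * A)) (h1 : S * A = A * S ∨ S * A = -(A * S))
    (h2 : S * B = B * S ∨ S * B = -(B * S)) :
    ∃ U, (U = 1 ∨ U = A ∨ U = B ∨ U = A * B) ∧ Commute (S * U) A ∧ Commute (S * U) B := by
  have hba : B * A = -(A * B) := by rw [hab, neg_neg]
  have m : ∀ {P Q : M}, P * Q = Q * P → ∀ X, P * (Q * X) = Q * (P * X) := fun h X => by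
    rw [← mul_assoc, h, mul_assoc]
  have m' : ∀ {P Q : M}, P * Q = -(Q * P) → ∀ X, P * (Q * X) = -(Q * (P * X)) := fun h X => by
    rw [← mul_assoc, h, neg_mul, mul_assoc]
  rcases h1 with h1 | h1 <;> rcases h2 with h2 | h2
  · exact ⟨1, by simp, by rw [mul_one]; exact h1, by rw [mul_one]; exact h2⟩
  · exact ⟨A, by simp, by simp [Commute, SemiconjBy, mul_assoc, m h1],
      by rw [Commute, SemiconjBy, mul_assoc, hab, mul_neg, m' h2, neg_neg]⟩
  · exact ⟨B, by simp, by rw [Commute, SemiconjBy, mul_assoc, hba, mul_neg, m' h1, neg_neg],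
      by simp [Commute, SemiconjBy, mul_assoc, m h2]⟩
  · exact ⟨A * B, by simp, by rw [Commute, SemiconjBy, mul_assoc, mul_assoc, hba, mul_neg, mul_neg, m' h1, neg_neg],
      by rw [Commute, SemiconjBy, mul_assoc, ← mul_assoc B S, ← neg_neg (B * S), ← h2, neg_mul, mul_assoc S B,
        m' hba, mul_neg, neg_neg, mul_assoc]⟩

end Cfsg.Lib.Forms.K4
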