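import Cfsg.Agent.Lib.K4.Sl1

/-!
# The normaliser of `4 ∘ 2^{1+4}` in `SL₄(p)`
-/

set_option autoImplicit false

namespace Cfsg.Lib.Forms.K4

open Module Form Matrix Cfsg.Geo Cfsg.Lib.Elu

variable {F : Type*} [Field F]

local notation "V6" => Fin 3 ⊕ Fin 3 → F
local notation "M4" => Matrix (Fin 4) (Fin 4) F

theorem normal_form (h2 : (2 : F) ≠ 0) {A B C D : M4} (ha : A * A = 1) (hb : B * B = -1) (hc : C * C = 1)
    (hd : D * D = -1) (ab : A * B = -(B * A)) (cd : C * D = -(D * C)) (ac : A * C = C * A) (ad : A * D = D * A)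
    (bc : B * C = C * B) (bd : B * D = D * B) : ∃ P : GL (Fin 4) F, ∀ k, ![A, B, C, D] k * P.1 = P.1 * gen F k := by
  have z : ∀ {X : M4}, X = -X → X = 0 := fun h => eq_zero_of_neg h2 h
  obtain ⟨v, v0, va, vc⟩ : ∃ v : Fin 4 → F, v ≠ 0 ∧ A *ᵥ v = v ∧ C *ᵥ v = v := by
    by_contra! H
    have h1 : (1 + A) * (1 + C) = 0 := matrix_eq_iff.2 fun w => by
      by_contra h
      refine H _ (by simpa using h) ?_ ?_
      · rw [mulVec_mulVec, ← Matrix.mul_assoc, mul_add A, ha, mul_one, add_comm A]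
      · rw [mulVec_mulVec, ← Matrix.mul_assoc, ((Commute.one_right C).add_right ac.symm).eq, Matrix.mul_assoc,
          mul_add C, hc, mul_one, add_comm C]
    have h3 : B * (1 + C) = 0 := z (by
      have e1 := congrArg (B * ·) h1
      have e2 := congrArg (· * B) h1
      simp only [Matrix.mul_assoc, ((Commute.one_left B).add_left bc.symm).eq] at e2
      rw [← Matrix.mul_assoc, add_mul 1 A, ab] at e2
      rw [← Matrix.mul_assoc, mul_add B 1 A] at e1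
      linear_combination (norm := noncomm_ring) e1 + e2)
    have h4 : C = -1 := by
      have := congrArg (B * ·) h3
      simp only [← Matrix.mul_assoc, hb, neg_mul, one_mul, mul_zero, neg_eq_zero] at this
      exact eq_neg_of_add_eq_zero_right this
    have h5 : D = 0 := z (by simpa [h4, neg_eq_iff_eq_neg] using cd)
    simp [h5] at hd
  let P : M4 := Matrix.of fun i j => ![v, B *ᵥ v, D *ᵥ v, B *ᵥ D *ᵥ v] j i
  have hP : ∀ x, P *ᵥ x = x 0 • v + x 1 • B *ᵥ v + x 2 • D *ᵥ v + x 3 • B *ᵥ D *ᵥ v := fun x => by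
    ext i; simp [P, mulVec, dotProduct, Fin.sum_univ_four]; ring
  have m : ∀ {X Y : M4}, X * Y = Y * X → ∀ w, X *ᵥ Y *ᵥ w = Y *ᵥ X *ᵥ w := fun h w => by
    rw [mulVec_mulVec, h, mulVec_mulVec]
  have m' : ∀ {X Y : M4}, X * Y = -(Y * X) → ∀ w, X *ᵥ Y *ᵥ w = -(Y *ᵥ X *ᵥ w) := fun h w => by
    rw [mulVec_mulVec, h, mulVec_mulVec, neg_mulVec]
  have l : ∀ {X : M4}, X * X = -1 → ∀ w, X *ᵥ X *ᵥ w = -w := fun h w => by
    rw [mulVec_mulVec, h, neg_mulVec, one_mulVec]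
  have k : ∀ k x, ![A, B, C, D] k *ᵥ P *ᵥ x = P *ᵥ gen F k *ᵥ x := fun k x => by
    rw [hP, hP]
    fin_cases k <;> simp only [mulVec_add, mulVec_smul, Fin.zero_eta, Fin.mk_one, Fin.reduceFinMk, cons_val,
        m' ab, m' cd, m ad, m bc.symm, m bd.symm, l hb, l hd, va, vc, mulVec_neg] <;>
      simp [gen, mulVec, dotProduct, Fin.sum_univ_four] <;> module
  have k0 : ∀ x, P *ᵥ x = 0 → x 0 = 0 := fun x h => by
    have e1 := k 0 x
    have e2 := k 2 x
    have e3 := k 0 (gen F 2 *ᵥ x)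
    rw [← e2] at e3
    rw [h, mulVec_zero] at e1 e2 e3
    rw [mulVec_zero] at e3
    rw [hP] at h e1 e2 e3
    have : (2 * 2 * x 0) • v = 0 := by
      rw [mulVec_mulVec] at h
      simp [gen, mulVec, dotProduct, Fin.sum_univ_four, -smul_eq_zero] at e1 e2 e3
      linear_combination (norm := module) h - e1 - e2 - e3
    simpa [h2, v0] using this
  obtain ⟨Q, hQ⟩ : IsUnit P := mulVec_injective_iff_isUnit.1 ((injective_iff_map_eq_zero P.mulVecLin).2 fun x h => by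
    have h : P *ᵥ x = 0 := h
    have g : ∀ k x, P *ᵥ x = 0 → P *ᵥ gen F k *ᵥ x = 0 := fun j x h => by rw [← k, h, mulVec_zero]
    have e0 := k0 _ h
    have e1 := k0 _ (g 1 _ h)
    have e2 := k0 _ (g 3 _ h)
    have e3 := k0 _ (g 1 _ (g 3 _ h))
    simp [gen, mulVec, dotProduct, Fin.sum_univ_four] at e1 e2 e3
    ext i; fin_cases i <;> simp [e0, e1, e2, e3])
  exact ⟨Q, fun j => matrix_eq_iff.2 fun x => by rw [hQ, ← mulVec_mulVec, ← mulVec_mulVec, k]⟩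

theorem exists_gen (h2 : (2 : F) ≠ 0) {S : Set M4} {i : F} (hi : i * i = -1) (h1 : (1 : M4) ∈ S)
    (hm : ∀ x ∈ S, ∀ y ∈ S, x * y ∈ S) (hs : i • (1 : M4) ∈ S) (sq : ∀ x ∈ S, x * x = 1 ∨ x * x = -1)
    (pm : ∀ x ∈ S, ∀ y ∈ S, x * y = y * x ∨ x * y = -(y * x)) (irr : ActsAbsolutelyIrreducibly S) :
    ∃ P : GL (Fin 4) F, ∀ k, P.1 * gen F k * (P⁻¹).1 ∈ S := by
  classical
  have sg : ∀ a ∈ S, (∃ u : F, u • a ∈ S ∧ u • a * u • a = 1) ∧ ∃ u : F, u • a ∈ S ∧ u • a * u • a = -1 :=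
    fun a ha => by
      have e : i • a ∈ S := by simpa using hm _ hs _ ha
      rcases sq a ha with h | h
      · exact ⟨⟨1, by simpa, by simpa⟩, i, e, by simp [smul_smul, h, hi]⟩
      · exact ⟨⟨i, e, by simp [smul_smul, h, hi]⟩, 1, by simpa, by simpa⟩
  have an : ∀ a ∈ S, (∀ c : F, a ≠ c • 1) → ∃ b ∈ S, a * b = -(b * a) := fun a ha h => by
    by_contra! H
    obtain ⟨c, hc⟩ := irr.2 a fun b hb => (pm a ha b hb).resolve_right (H b hb)
    exact h c hc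
  have hU : ∀ {a b U : M4}, a ∈ S → b ∈ S → (U = 1 ∨ U = a ∨ U = b ∨ U = a * b) → U ∈ S := fun ha hb h => by
    rcases h with rfl | rfl | rfl | rfl
    exacts [h1, ha, hb, hm _ ha _ hb]
  obtain ⟨a, ha, a0⟩ : ∃ a ∈ S, ∀ c : F, a ≠ c • 1 := by
    by_contra! H
    obtain ⟨c, hc⟩ := irr.2 (Matrix.single 0 1 1) fun s hs => by obtain ⟨c, rfl⟩ := H s hs; simp
    simpa using congrFun (congrFun hc 0) 1
  obtain ⟨b, hb, ab⟩ := an a ha a0
  obtain ⟨u, ha, a1⟩ := (sg a ha).1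
  obtain ⟨w, hb, b1⟩ := (sg b hb).2
  replace ab : u • a * w • b = -(w • b * u • a) := by simp [ab, smul_smul, mul_comm]
  generalize u • a = a, w • b = b at *
  obtain ⟨c, hc, ca, cb, c0⟩ : ∃ c ∈ S, Commute c a ∧ Commute c b ∧ ∀ t : F, c ≠ t • 1 := by
    by_contra! H
    obtain ⟨v, v0, hv⟩ : ∃ v : Fin 4 → F, v ≠ 0 ∧ ∃ t : F, a *ᵥ v = t • v := by
      by_cases h : a *ᵥ (fun _ => (1 : F)) + (fun _ => 1) = 0
      · exact ⟨fun _ => 1, fun h => by simpa using congrFun h 0, -1, by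
          rw [neg_one_smul]; exact eq_neg_of_add_eq_zero_left h⟩
      · exact ⟨_, h, 1, by rw [mulVec_add, mulVec_mulVec, a1, one_mulVec, one_smul, add_comm]⟩
    obtain ⟨t, ht⟩ := hv
    let W : Submodule F (Fin 4 → F) := Submodule.span F {v, b *ᵥ v}
    have w1 : v ∈ W := Submodule.subset_span (by simp)
    have w2 : b *ᵥ v ∈ W := Submodule.subset_span (by simp)
    have hW : ∀ x : M4, x *ᵥ v ∈ W → x *ᵥ b *ᵥ v ∈ W → ∀ y ∈ W, x *ᵥ y ∈ W := fun x h h' y hy => by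
      obtain ⟨p, q, rfl⟩ := Submodule.mem_span_pair.1 hy
      rw [mulVec_add, mulVec_smul, mulVec_smul]
      exact add_mem (W.smul_mem _ h) (W.smul_mem _ h')
    have wa := hW a (ht ▸ W.smul_mem _ w1) (by
      rw [mulVec_mulVec, ab, neg_mulVec, ← mulVec_mulVec, ht, mulVec_smul]; exact neg_mem (W.smul_mem _ w2))
    have wb := hW b w2 (by rw [mulVec_mulVec, b1, neg_mulVec, one_mulVec]; exact neg_mem w1)
    refine (irr.1 W fun s hs => ?_).elim (fun h => v0 (by simpa [h] using w1)) fun h => ?_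
    swap
    · have := finrank_span_le_card (R := F) ({v, b *ᵥ v} : Set (Fin 4 → F))
      have h3 : ({v, b *ᵥ v} : Set (Fin 4 → F)).toFinset.card ≤ 2 := by
        rw [Set.toFinset_insert, Set.toFinset_singleton]; exact Finset.card_le_two
      have h4 : finrank F W = 4 := by rw [h]; simp
      exact absurd (h4 ▸ this.trans h3) (by decide)
    obtain ⟨U, h3, h4, h5⟩ := fix2 ab (pm s hs a ha) (pm s hs b hb)
    obtain ⟨c, hc⟩ := H _ (hm _ hs _ (hU ha hb h3)) h4 h5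
    have h6 : ∀ y ∈ W, U *ᵥ y ∈ W := fun y hy => by
      rcases h3 with rfl | rfl | rfl | rfl
      exacts [by simpa, wa y hy, wb y hy, by rw [← mulVec_mulVec]; exact wa _ (wb y hy)]
    rintro _ ⟨y, hy, rfl⟩
    have h7 : s *ᵥ U *ᵥ U *ᵥ y ∈ W := by
      rw [mulVec_mulVec, hc, smul_mulVec, one_mulVec]; exact W.smul_mem _ (h6 y hy)
    rw [mulVec_mulVec y] at h7
    rcases sq U (hU ha hb h3) with h | h <;> simpa [h, neg_mulVec, mulVec_neg] using h7
  obtain ⟨d, hd, cd⟩ := an c hc c0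
  obtain ⟨U, h3, da, db⟩ := fix2 ab (pm d hd a ha) (pm d hd b hb)
  replace cd : c * (d * U) = -(d * U * c) := by
    have : Commute c U := by
      rcases h3 with rfl | rfl | rfl | rfl
      exacts [Commute.one_right _, ca, cb, ca.mul_right cb]
    rw [← Matrix.mul_assoc, cd, neg_mul, Matrix.mul_assoc, this.eq, Matrix.mul_assoc]
  have hd' := hm _ hd _ (hU ha hb h3)
  generalize d * U = d at *
  obtain ⟨u, hc, c1⟩ := (sg c hc).1
  obtain ⟨w, hd, d1⟩ := (sg d hd').2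
  obtain ⟨P, hP⟩ := normal_form h2 a1 b1 c1 d1 ab (by simp [cd, smul_smul, mul_comm]) (ca.symm.smul_right u)
    (da.symm.smul_right w) (cb.symm.smul_right u) (db.symm.smul_right w)
  refine ⟨P, fun k => ?_⟩
  rw [← hP, Units.mul_inv_cancel_right]
  fin_cases k
  exacts [ha, hb, hc, hd]

theorem gen_cm : (∀ k ∈ ({0, 1} : Set (Fin 4)), ∀ l ∈ ({2, 3} : Set (Fin 4)), Commute (gen F k) (gen F l)) ∧
    gen F 0 * gen F 1 = -(gen F 1 * gen F 0) ∧ gen F 2 * gen F 3 = -(gen F 3 * gen F 2) := by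
  refine ⟨?_, ?_, ?_⟩
  · rintro _ (rfl | rfl) _ (rfl | rfl) <;> simp [Commute, SemiconjBy, gen]
  all_goals simp [gen]

theorem gen_red (h2 : (2 : F) ≠ 0) {H : M4 → Prop} (h1 : H 1) (hm : ∀ x y, H x → H y → H (x * y))
    (hg : ∀ k, H (gen F k)) {x : M4} (pm : ∀ k, x * gen F k = gen F k * x ∨ x * gen F k = -(gen F k * x)) :
    ∃ y, H y ∧ ∃ c : F, x * y = c • 1 := by
  obtain ⟨cm, ab, cd⟩ := gen_cm (F := F)
  have hU : ∀ {k l U}, (U = 1 ∨ U = gen F k ∨ U = gen F l ∨ U = gen F k * gen F l) → H U ∧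
      ∀ X, Commute X (gen F k) → Commute X (gen F l) → Commute X U := fun h => by
    rcases h with rfl | rfl | rfl | rfl
    exacts [⟨h1, fun _ _ _ => Commute.one_right _⟩, ⟨hg _, fun _ h _ => h⟩, ⟨hg _, fun _ _ h => h⟩,
      ⟨hm _ _ (hg _) (hg _), fun _ h h' => h.mul_right h'⟩]
  obtain ⟨U, h3, ua, ub⟩ := fix2 ab (pm 0) (pm 1)
  have k : ∀ l ∈ ({2, 3} : Set (Fin 4)), x * U * gen F l = gen F l * (x * U) ∨ x * U * gen F l = -(gen F l * (x * U)) :=
    fun l hl => by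
      rw [Matrix.mul_assoc, ← ((hU h3).2 _ (cm 0 (by simp) l hl).symm (cm 1 (by simp) l hl).symm).eq,
        ← Matrix.mul_assoc, ← Matrix.mul_assoc]
      exact (pm l).imp (fun h => by rw [h]) fun h => by rw [h, neg_mul]
  obtain ⟨U', h4, uc, ud⟩ := fix2 cd (k 2 (by simp)) (k 3 (by simp))
  refine ⟨U * U', hm _ _ (hU h3).1 (hU h4).1, gen_scal h2 fun l => ?_⟩
  rw [← Matrix.mul_assoc x]
  fin_cases l
  exacts [ua.mul_left ((hU h4).2 _ (cm 0 (by simp) 2 (by simp)) (cm 0 (by simp) 3 (by simp))).symm,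
    ub.mul_left ((hU h4).2 _ (cm 1 (by simp) 2 (by simp)) (cm 1 (by simp) 3 (by simp))).symm, uc, ud]

theorem sl4_extra_of [Fintype F] (h2 : (2 : F) ≠ 0)
    (hsix : ∀ (i : F), (fPlus F 3).IsFrame (fr i) 1 → ∀ X ≤ (fPlus F 3).E,
      (fPlus F 3).E ⊓ (fPlus F 3).dec (fun j => F ∙ fr i j) ≤ X → ¬ X ≤ (fPlus F 3).dec (fun j => F ∙ fr i j) →
      (fPlus F 3).E ≤ X)
    (R : Subgroup (GL (Fin 4) F)) (hR : IsLinearSymplecticTypeData 2 R) :
    IsMaximalIn (specialLinear (Fin 4) F) (subgroupNormalizer R ⊓ specialLinear (Fin 4) F) := by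
  have hs := hR.symplecticType
  have hZ : Nat.card (Subgroup.center R) = 4 := by
    obtain ⟨-, -, -, -, ⟨h, -⟩ | ⟨-, -, hZ, -⟩ | ⟨-, -, h, -⟩⟩ := hR.field
    exacts [absurd h (by decide), hZ, by simp at h]
  have P2 := Rp.p2 ⟨rep_injective R, rep_irr hR.absIrred⟩ h2 hs.pGroup hs.cyclic_of_characteristic hs.exponent_eq
  obtain ⟨s₀, i, hi, hs₀⟩ := P2.exists_i (hs.cyclic_of_characteristic _ inferInstance inferInstance) hZ
  replace hs₀ : s₀.1.1 = i • 1 := toLin'.injective (by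
    rw [← rep_apply, hs₀, map_smul, toLin'_one, Algebra.algebraMap_eq_smul_one]; rfl)
  have sq : ∀ x ∈ R, x.1 * x.1 = 1 ∨ x.1 * x.1 = -1 := fun x hx =>
    (P2.sq ⟨x, hx⟩).imp rep_iff.2.2.1.1 rep_iff.2.2.2.1
  have pm : ∀ x ∈ R, ∀ y ∈ R, x.1 * y.1 = y.1 * x.1 ∨ x.1 * y.1 = -(y.1 * x.1) := fun x hx y hy =>
    (P2.pm ⟨x, hx⟩ ⟨y, hy⟩).imp rep_iff.2.1.1 rep_iff.1.1
  obtain ⟨P, hP⟩ := exists_gen h2 (S := matrixSet R) hi ⟨1, R.one_mem, rfl⟩
    (by rintro _ ⟨x, hx, rfl⟩ _ ⟨y, hy, rfl⟩; exact ⟨x * y, R.mul_mem hx hy, rfl⟩) ⟨_, s₀.2, hs₀⟩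
    (by rintro _ ⟨x, hx, rfl⟩; exact sq x hx) (by rintro _ ⟨x, hx, rfl⟩ _ ⟨y, hy, rfl⟩; exact pm x hx y hy)
    hR.absIrred
  have ms : ∀ {g : GL (Fin 4) F}, g ∈ specialLinear (Fin 4) F ↔ g.1.det = 1 := by
    intro g; rw [specialLinear, MonoidHom.mem_ker, ← Units.val_eq_one, GeneralLinearGroup.val_det_apply]
  let M : GL (Fin 4) F →* M4 := (Units.coeHom _).comp (MulAut.conj P⁻¹).toMonoidHom
  have hM : ∀ g, M g = (P⁻¹).1 * g.1 * P.1 := fun g => by simp [M]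
  have dM : ∀ g, (M g).det = g.1.det := fun g => by rw [hM, det_units_conj']
  have sM : ∀ {g} {c : F}, M g = c • 1 ↔ g.1 = c • 1 := by
    intro g c
    rw [hM, Units.eq_mul_inv_iff_mul_eq _ |>.symm, Units.inv_mul_eq_iff_eq_mul]; simp
  let φ : specialLinear (Fin 4) F →* SpecialLinearGroup (Fin 4) F :=
    MonoidHom.mk' (fun g => ⟨M g.1, (dM _).trans (ms.1 g.2)⟩) fun a b => Subtype.ext (map_mul M _ _)
  let ρ := (wedgeHom F).comp φ
  have hρ : ∀ g x, (ρ g).1 x = wedge (M g.1) *ᵥ x := fun _ _ => rfl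
  have hE : ρ.range = (fPlus F 3).E := by
    rw [← range_wedge, MonoidHom.range_comp, MonoidHom.range_eq_top.2, ← MonoidHom.range_eq_map]
    intro g
    refine ⟨⟨P * SpecialLinearGroup.toGL g * P⁻¹, ms.2 (by rw [Units.val_mul, Units.val_mul, det_units_conj]; simp)⟩, Subtype.ext ?_⟩
    change M _ = _
    simp [hM, Matrix.mul_assoc]
  have h := fr_frame h2 hi
  let Dg : Subgroup (fPlus F 3).isom :=
    { carrier := {k | ∀ j, k.1 (fr i j) = fr i j ∨ k.1 (fr i j) = -fr i j}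
      one_mem' := fun _ => Or.inl rfl
      mul_mem' := fun {a b} ha hb j => by
        rcases ha j with h | h <;> rcases hb j with h' | h' <;> simp [isom_mul_apply, h, h']
      inv_mem' := fun {a} ha j => by
        rw [← a.1.injective.eq_iff, ← a.1.injective.eq_iff (b := -_), isom_apply_inv, map_neg]
        exact (ha j).imp Eq.symm fun h => by rw [h, neg_neg] }
  choose r hr hr' using hP
  replace hr' : ∀ k, M (r k) = gen F k := fun k => by
    rw [hM, show (r k).1 = _ from hr' k]; simp [Matrix.mul_assoc]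
  have rG : ∀ k, r k ∈ specialLinear (Fin 4) F := fun k => ms.2 (by rw [← dM, hr', gen_det])
  have rD : ∀ k, ρ ⟨r k, rG k⟩ ∈ Dg := fun k j => by rw [hρ, hr']; exact gen_fr i k j
  have key : ∀ g, (∀ k, M g * gen F k = gen F k * M g ∨ M g * gen F k = -(gen F k * M g)) →
      ∃ t : specialLinear (Fin 4) F, t.1 ∈ R ∧ ρ t ∈ Dg ∧ ∃ c : F, (g * t.1).1 = c • 1 := fun g hg => by
    obtain ⟨_, ⟨t, h1, h3, rfl⟩, c, hc⟩ := gen_red h2
      (H := fun y => ∃ t : specialLinear (Fin 4) F, t.1 ∈ R ∧ ρ t ∈ Dg ∧ M t.1 = y)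
      ⟨1, R.one_mem, map_one ρ ▸ Dg.one_mem, map_one M⟩ (by
        rintro _ _ ⟨a, a1, a2, rfl⟩ ⟨b, b1, b2, rfl⟩
        exact ⟨a * b, R.mul_mem a1 b1, map_mul ρ a b ▸ Dg.mul_mem a2 b2, map_mul M _ _⟩)
      (fun k => ⟨_, hr k, rD k, hr' k⟩) hg
    exact ⟨t, h1, h3, c, sM.1 (by rw [map_mul, hc])⟩
  have keyR : ∀ g ∈ R, ∀ k, M g * gen F k = gen F k * M g ∨ M g * gen F k = -(gen F k * M g) := fun g hg k => by
    rw [← hr', ← map_mul, ← map_mul, hM, hM, Units.val_mul, Units.val_mul]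
    exact (pm g hg _ (hr k)).imp (fun h => by rw [h]) fun h => by rw [h]; simp
  have hRG : R ≤ specialLinear (Fin 4) F := fun g hg => by
    obtain ⟨t, t1, -, c, hc⟩ := key g (keyR g hg)
    rw [← Subgroup.mul_mem_cancel_right _ t.2, ms, hc]
    have := sq _ (R.mul_mem hg t1)
    rw [hc] at this
    rcases this with h | h <;> have := congrFun (congrFun h 0) 0 <;> simp at this ⊢
    · linear_combination (c * c + 1) * this
    · linear_combination (c * c - 1) * this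
  have c4 : ∀ (g : specialLinear (Fin 4) F) (c : F), g.1.1 = c • 1 → c ^ 2 = 1 ∨ c ^ 2 = -1 := fun g c hc => by
    have := ms.1 g.2
    rw [hc] at this
    exact sq_eq_one_iff.1 (by simp at this; linear_combination this)
  refine h.max_frame (fPlus_nondeg 3) (by simp) hRG ρ hE (fun s => ⟨fun hs => ?_, fun hs => ?_⟩) (hsix i h)
  · obtain ⟨t, -, t2, c, hc⟩ := key _ (keyR _ hs)
    refine (Dg.mul_mem_cancel_right t2).1 fun j => ?_
    rw [← map_mul, hρ, Subgroup.coe_mul, sM.2 hc, wedge_smul_one_mulVec]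
    exact (c4 (s * t) c hc).imp (fun h => by simp [h]) fun h => by simp [h]
  obtain ⟨t, t1, -, c, hc⟩ := key s.1 fun k => by
    have e : ρ s * ρ ⟨r k, rG k⟩ = ρ ⟨r k, rG k⟩ * ρ s := h.isom_eq fun j => by
      rcases hs j with h | h <;> rcases rD k j with h' | h' <;> simp only [isom_mul_apply, h, h', map_neg]
    have e2 := ker_wedge (g := φ (s * ⟨r k, rG k⟩ * (⟨r k, rG k⟩ * s)⁻¹)) (by
      change ρ _ = 1
      rw [map_mul, map_inv, map_mul, map_mul, e, mul_inv_cancel])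
    have e3 : M (s.1 * r k) = (φ (s * ⟨r k, rG k⟩ * (⟨r k, rG k⟩ * s)⁻¹)).1 * M (r k * s.1) := by
      change _ = M _ * _
      rw [← map_mul]; congr 1; simp [mul_assoc]
    rw [← hr', ← map_mul, ← map_mul, e3]
    exact e2.imp (fun h => by rw [h, one_mul]) fun h => by rw [h, neg_mul, one_mul]
  rw [← R.mul_mem_cancel_right t1]
  have e : ∀ n : ℕ, c = i ^ n → s.1 * t.1 ∈ R := fun n hn => by
    convert R.pow_mem s₀.2 n using 1
    exact Units.ext (by rw [hc, Units.val_pow_eq_pow_val, hs₀, smul_pow, one_pow, hn])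
  rcases c4 (s * t) c hc with h | h
  · rcases sq_eq_one_iff.1 h with h | h
    exacts [e 0 (by simp [h]), e 2 (by rw [h, pow_two, hi])]
  · rcases sq_eq_sq_iff_eq_or_eq_neg.1 (show c ^ 2 = i ^ 2 by rw [h, pow_two, hi]) with h | h
    exacts [e 1 (by simp [h]), e 3 (by rw [h, pow_succ, pow_two, hi]; simp)]

end Cfsg.Lib.Forms.K4
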