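import Cfsg.Agent.Lib.K4.Tr
import Cfsg.Agent.Lib.Forms.Wedge

/-!
# The five-dimensional orthogonal module of `Sp₄`
-/

set_option autoImplicit false

namespace Cfsg.Lib.Forms.K4

open Module Form Matrix Cfsg.Geo

variable {F : Type*} [Field F]

local notation "ι4" => Fin 2 ⊕ Fin 2
local notation "V5" => Unit ⊕ (Fin 2 ⊕ Fin 2) → F
local notation "J4" => J (Fin 2) F

variable (F) in
/-- The self-adjoint matrices of trace zero. -/
def mu : (V5) →ₗ[F] Matrix ι4 ι4 F where
  toFun v := fromBlocks !![v (.inl ()), v (.inr (.inl 0)); v (.inr (.inr 0)), -v (.inl ())]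
    !![0, v (.inr (.inl 1)); -v (.inr (.inl 1)), 0] !![0, -v (.inr (.inr 1)); v (.inr (.inr 1)), 0]
    !![v (.inl ()), v (.inr (.inr 0)); v (.inr (.inl 0)), -v (.inl ())]
  map_add' x y := by ext (i | i) (j | j) <;> fin_cases i <;> fin_cases j <;> simp <;> ring
  map_smul' c x := by ext (i | i) (j | j) <;> fin_cases i <;> fin_cases j <;> simp

theorem mu_sq (v : V5) : mu F v * mu F v = (fOdd F 2).Q v • (1 : Matrix ι4 ι4 F) := by
  ext (i | i) (j | j) <;> fin_cases i <;> fin_cases j <;>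
    simp [mu, fOdd_Q, quadFormOdd, mul_apply, Fintype.sum_sum_type, one_apply] <;> ring

theorem mu_an (v w : V5) : mu F v * mu F w = (fOdd F 2).B v w • (1 : Matrix ι4 ι4 F) - mu F w * mu F v := by
  have := mu_sq (v + w)
  rw [map_add, add_mul, mul_add, mul_add, mu_sq, mu_sq, quad_Q_add, add_smul, add_smul] at this
  linear_combination (norm := module) this

theorem mu_inj : Function.Injective (mu F) := (injective_iff_map_eq_zero _).2 fun v h => by
  ext (i | i | i)
  · simpa [mu] using congrFun (congrFun h (.inl 0)) (.inl 0)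
  · fin_cases i
    exacts [by simpa [mu] using congrFun (congrFun h (.inl 0)) (.inl 1),
      by simpa [mu] using congrFun (congrFun h (.inl 0)) (.inr 1)]
  · fin_cases i
    exacts [by simpa [mu] using congrFun (congrFun h (.inl 1)) (.inl 0),
      by simpa [mu] using congrFun (congrFun h (.inr 1)) (.inl 0)]

theorem mu_adj (v : V5) : (mu F v)ᵀ * J4 = J4 * mu F v := by
  ext (i | i) (j | j) <;> fin_cases i <;> fin_cases j <;>
    simp [mu, J, mul_apply, Fintype.sum_sum_type, one_apply]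

theorem mu_trace (v : V5) : (mu F v).trace = 0 := by simp [mu, trace, Fintype.sum_sum_type]

theorem exists_mu (h2 : (2 : F) ≠ 0) {x : Matrix ι4 ι4 F} (h : xᵀ * J4 = J4 * x) (h' : x.trace = 0) :
    ∃ v, mu F v = x := by
  have k := fun i j => congrFun (congrFun h i) j
  have k1 := k (.inl 0) (.inl 0); have k2 := k (.inl 0) (.inl 1); have k3 := k (.inl 1) (.inl 1)
  have k4 := k (.inr 0) (.inr 0); have k5 := k (.inr 0) (.inr 1); have k6 := k (.inr 1) (.inr 1)
  have k7 := k (.inl 0) (.inr 0); have k8 := k (.inl 0) (.inr 1); have k9 := k (.inl 1) (.inr 0)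
  have k10 := k (.inl 1) (.inr 1)
  simp [J, mul_apply, Fintype.sum_sum_type, one_apply, trace] at k1 k2 k3 k4 k5 k6 k7 k8 k9 k10 h'
  refine ⟨Sum.elim (fun _ => x (.inl 0) (.inl 0)) (Sum.elim ![x (.inl 0) (.inl 1), x (.inl 0) (.inr 1)]
    ![x (.inl 1) (.inl 0), x (.inr 1) (.inl 0)]), ?_⟩
  ext (i | i) (j | j) <;> fin_cases i <;> fin_cases j <;> simp [mu] <;> grind

theorem scalar_of_comm {x : Matrix ι4 ι4 F} (h : ∀ v, x * mu F v = mu F v * x) : ∃ c : F, x = c • 1 := by
  have k := fun a i j => congrFun (congrFun (h (Pi.single (.inr a) 1)) i) j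
  refine ⟨x (.inl 0) (.inl 0), ?_⟩
  have k1 := k (.inl 0); have k2 := k (.inl 1); have k3 := k (.inr 0); have k4 := k (.inr 1)
  simp [mu, mul_apply, Fintype.sum_sum_type, Sum.forall, Fin.forall_fin_two] at k1 k2 k3 k4
  ext (i | i) (j | j) <;> fin_cases i <;> fin_cases j <;> simp [one_apply] <;> grind

theorem zero_of_an (h2 : (2 : F) ≠ 0) {x : Matrix ι4 ι4 F} (h : ∀ v, x * mu F v = -(mu F v * x)) : x = 0 := by
  have k := fun a i j => congrFun (congrFun (h (Pi.single a 1)) i) j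
  have k0 := k (.inl ())
  have k1 := k (.inr (.inl 0)); have k2 := k (.inr (.inl 1)); have k3 := k (.inr (.inr 0)); have k4 := k (.inr (.inr 1))
  simp [mu, mul_apply, Fintype.sum_sum_type, Sum.forall, Fin.forall_fin_two] at k0 k1 k2 k3 k4
  ext (i | i) (j | j) <;> fin_cases i <;> fin_cases j <;> simp <;> grind

theorem symp_eq {m : ℕ} {x y : Matrix (Fin m ⊕ Fin m) (Fin m ⊕ Fin m) F} :
    (∀ u v, sympForm m F (x *ᵥ u) v = sympForm m F u (y *ᵥ v)) ↔ xᵀ * J (Fin m) F = J (Fin m) F * y := by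
  have : ∀ u v, sympForm m F (x *ᵥ u) v = u ⬝ᵥ (xᵀ * J (Fin m) F) *ᵥ v := fun u v => by
    rw [sympForm, ← mulVec_mulVec, dotProduct_mulVec u, vecMul_transpose]
  simp only [this]
  simp only [sympForm, mulVec_mulVec]
  exact ⟨fun h => by ext i j; simpa using h (Pi.single i 1) (Pi.single j 1), fun h => by simp [h]⟩

theorem mem_sp {m : ℕ} {g : GL (Fin m ⊕ Fin m) F} :
    g ∈ spGL m F ↔ g.1ᵀ * J (Fin m) F = J (Fin m) F * (g⁻¹).1 := by
  rw [← symp_eq]
  refine ⟨fun h u v => ?_, fun h u v => ?_⟩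
  · simpa using h u ((g⁻¹).1 *ᵥ v)
  · simpa using h u (g.1 *ᵥ v)

theorem exists_rho [Finite F] (h2 : (2 : F) ≠ 0) : ∃ ρ : spGL 2 F →* (fOdd F 2).isom,
    ρ.range = (fOdd F 2).E ∧ ∀ g v, mu F ((ρ g).1 v) = g.1.1 * mu F v * (g.1⁻¹).1 := by
  have hD := fOdd_nondeg h2 2
  obtain ⟨ρ, hρ⟩ := exists_hom_of_embed (G := spGL 2 F) (fOdd F 2)
    (fun g => (LinearMap.mulLeft F g.1.1).comp (LinearMap.mulRight F (g.1⁻¹).1)) (by simp)
    (fun g k w => by simp [Matrix.mul_assoc]) (mu F) mu_inj (fun g x => exists_mu h2 (by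
      have h1 := mem_sp.1 g.2
      have h3 := mem_sp.1 (inv_mem g.2)
      simp only [LinearMap.comp_apply, LinearMap.mulLeft_apply, LinearMap.mulRight_apply, transpose_mul, inv_inv,
        Matrix.mul_assoc] at h3 ⊢
      rw [h1, ← Matrix.mul_assoc _ (J _ _), mu_adj, ← Matrix.mul_assoc, ← Matrix.mul_assoc, h3]
      simp only [Matrix.mul_assoc]) (by
      simp only [LinearMap.comp_apply, LinearMap.mulLeft_apply, LinearMap.mulRight_apply]
      rw [← Matrix.mul_assoc, trace_units_conj, mu_trace])) fun g x y H => by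
      have := mu_sq y
      rw [H] at this
      simp only [LinearMap.comp_apply, LinearMap.mulLeft_apply, LinearMap.mulRight_apply, Matrix.mul_assoc,
        Units.inv_mul_cancel_left] at this
      rw [← Matrix.mul_assoc (mu F x), mu_sq, smul_mul_assoc, mul_smul_comm, one_mul, Units.mul_inv] at this
      simpa using (congrFun (congrFun this (.inl 0)) (.inl 0)).symm
  simp only [LinearMap.comp_apply, LinearMap.mulLeft_apply, LinearMap.mulRight_apply, ← Matrix.mul_assoc] at hρ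
  refine ⟨ρ, le_antisymm ?_ (Form.E_le fun e z d hd => ?_), hρ⟩
  · rintro _ ⟨⟨g, hg⟩, rfl⟩
    obtain ⟨a, -, rfl⟩ := (spGL_eq 2).le hg
    have h3 : 3 ≤ Nat.card F := by
      have := two_le_card (F := F); obtain ⟨k, hk⟩ := odd_card_iff.2 h2; omega
    rw [← hD.commutator_eq_E (good_of_two_ne_zero h2) (by rw [finrank_odd]; omega)]
    exact map_mem_commutator (ρ.comp ((toGL _).codRestrict _ fun a => (spGL_eq 2).ge
      ⟨a, by simp [Symp.E_eq_top (fSymp_nondeg 2)], rfl⟩)) ((Symp.commutator_eq_top' (fSymp_nondeg 2)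
        (finrank_plus 2) (by omega)).ge trivial)
  have e1 : mu F e * mu F e = 0 := by rw [mu_sq, hd.Q_e, zero_smul]
  have e2 : mu F z * mu F e = -(mu F e * mu F z) := by rw [mu_an, hd.B_ze, zero_smul, zero_sub]
  have e3 : ∀ X, mu F e * (mu F e * X) = 0 := fun X => by rw [← Matrix.mul_assoc, e1, Matrix.zero_mul]
  have e4 : ∀ X, mu F z * (mu F e * X) = -(mu F e * (mu F z * X)) := fun X => by
    rw [← Matrix.mul_assoc, e2, Matrix.neg_mul, Matrix.mul_assoc]
  let u : GL ι4 F := ⟨1 + mu F e * mu F z, 1 - mu F e * mu F z,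
    by simp [mul_sub, add_mul, Matrix.mul_assoc, e3, e4], by simp [sub_mul, mul_add, Matrix.mul_assoc, e3, e4]⟩
  refine ⟨⟨u, mem_sp.2 ?_⟩, isom_ext fun x => mu_inj ?_⟩
  · change (1 + mu F e * mu F z)ᵀ * _ = _ * (1 - mu F e * mu F z)
    rw [transpose_add, transpose_one, transpose_mul, add_mul, Matrix.mul_assoc, mu_adj, ← Matrix.mul_assoc, mu_adj,
      Matrix.mul_assoc, e2]
    simp [mul_add, sub_eq_add_neg]
  rw [hρ]
  change (1 + mu F e * mu F z) * _ * (1 - mu F e * mu F z) = _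
  have e5 := mu_an z x
  have e6 := mu_an e x
  have e7 := mu_sq z
  simp only [eich_apply, map_add, map_sub, map_smul, hd.quad_eq, quadKind_ε, one_mul]
  generalize mu F e = E, mu F z = Z, mu F x = X, (fOdd F 2).B z x = a, (fOdd F 2).B e x = b,
    (fOdd F 2).Q z = q at *
  have e8 : E * Z * X = a • E - b • Z + X * (E * Z) := by
    rw [Matrix.mul_assoc, e5, mul_sub, ← Matrix.mul_assoc, e6]
    simp only [sub_mul, mul_smul_comm, smul_mul_assoc, one_mul, mul_one, Matrix.mul_assoc]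
    abel
  rw [add_mul, e8]
  simp only [sub_mul, add_mul, mul_sub, mul_smul_comm, smul_mul_assoc, one_mul, mul_one, Matrix.mul_assoc, e3, e4, e7,
    mul_neg, mul_zero, e1, smul_zero]
  module

end Cfsg.Lib.Forms.K4
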