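import Cfsg.Agent.Lib.K4.Sp
import Cfsg.Agent.Lib.K4.Fm5

/-!
# Maximal subgroups of `Sp₄(q)`, `q` odd
-/

set_option autoImplicit false

namespace Cfsg.Lib.Forms.K4

open Module Form Matrix Cfsg.Geo

variable {F : Type*} [Field F] [Fintype F]

local notation "ι4" => Fin 2 ⊕ Fin 2
local notation "V5" => Unit ⊕ (Fin 2 ⊕ Fin 2) → F
local notation "J4" => J (Fin 2) F

omit [Fintype F] in
theorem zn (h2 : (2 : F) ≠ 0) {M : Type*} [AddCommGroup M] [Module F M] {v : M} (h : v = -v) : v = 0 :=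
  (smul_eq_zero.1 (by rw [two_smul]; exact add_eq_zero_iff_eq_neg.2 h)).resolve_left h2

theorem sp4_max_skew (h2 : (2 : F) ≠ 0) (hq : 5 ≤ Fintype.card F) {τ : Matrix ι4 ι4 F} {d : F}
    (h1 : τᵀ * J4 = -(J4 * τ)) (h3 : τ * τ = d • 1) (d0 : d ≠ 0) {N : Subgroup (GL ι4 F)}
    (hN : ∀ g ∈ spGL 2 F, g ∈ N ↔ g.1 * τ = τ * g.1 ∨ g.1 * τ = -(τ * g.1)) :
    IsMaximalIn (spGL 2 F) (N ⊓ spGL 2 F) := by
  obtain ⟨ρ, hE, hρ⟩ := exists_rho h2
  have hD := fOdd_nondeg h2 2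
  have t0 : τ ≠ 0 := by rintro rfl; exact d0 (by simpa using (congrFun (congrFun h3 (.inl 0)) (.inl 0)).symm)
  have l : ∀ X, τ * (τ * X) = d • X := fun X => by rw [← Matrix.mul_assoc, h3, smul_mul_assoc, one_mul]
  let W : Submodule F (V5) := LinearMap.ker ((LinearMap.mulLeft F τ - LinearMap.mulRight F τ) ∘ₗ mu F)
  have hW : ∀ v, v ∈ W ↔ τ * mu F v = mu F v * τ := fun v => by simp [W, sub_eq_zero]
  have k1 : ∀ v, τ * mu F v = -(mu F v * τ) → v ∈ (fOdd F 2).perp W := fun v hv w hw => by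
    have h4 := mu_an w v
    rw [eq_sub_iff_add_eq] at h4
    have h5 : τ * (mu F w * mu F v + mu F v * mu F w) = -((mu F w * mu F v + mu F v * mu F w) * τ) := by
      rw [mul_add, add_mul, ← Matrix.mul_assoc, ← Matrix.mul_assoc, (hW w).1 hw, hv, Matrix.mul_assoc _ τ, hv,
        Matrix.neg_mul, Matrix.mul_assoc _ τ, (hW w).1 hw]
      simp only [Matrix.mul_assoc, mul_neg, neg_add]
    rw [h4, mul_smul_comm, smul_mul_assoc, mul_one, one_mul, eq_neg_iff_add_eq_zero, ← add_smul, smul_eq_zero] at h5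
    exact (mul_eq_zero.1 (by linear_combination h5.resolve_right t0)).resolve_left h2
  have k2 : ∀ v, ∃ w ∈ W, ∃ w', τ * mu F w' = -(mu F w' * τ) ∧ (2 : F) • v = w + w' := fun v => by
    obtain ⟨u, hu⟩ := exists_mu h2 (x := d⁻¹ • (τ * mu F v * τ)) (by
      rw [transpose_smul, transpose_mul, transpose_mul, smul_mul_assoc, mul_smul_comm, Matrix.mul_assoc,
        Matrix.mul_assoc, h1, mul_neg, ← Matrix.mul_assoc _ J4, mu_adj, mul_neg, ← Matrix.mul_assoc,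
        ← Matrix.mul_assoc, h1]
      simp [Matrix.mul_assoc]) (by
      rw [trace_smul, trace_mul_cycle, h3, smul_mul_assoc, trace_smul, one_mul, mu_trace]
      simp)
    refine ⟨v + u, (hW _).2 ?_, v - u, ?_, by module⟩
    · simp [hu, mul_add, add_mul, Matrix.mul_assoc, l, h3, smul_smul, d0, add_comm]
    · simp [hu, mul_sub, sub_mul, Matrix.mul_assoc, l, h3, smul_smul, d0]
  have k3 : Disjoint W ((fOdd F 2).perp W) := Submodule.disjoint_def.2 fun w hw hw' => hD w fun v => by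
    obtain ⟨a, ha, b, hb, h4⟩ := k2 v
    have := congrArg ((fOdd F 2).B w) h4
    rw [map_add, (fOdd F 2).mem_perp'.1 hw' a ha, (fOdd F 2).mem_perp.1 (k1 b hb) w hw] at this
    simpa [h2] using this
  have k4 : ∀ v ∈ (fOdd F 2).perp W, τ * mu F v = -(mu F v * τ) := fun v hv => by
    obtain ⟨a, ha, b, hb, h4⟩ := k2 v
    obtain rfl : a = 0 := Submodule.disjoint_def.1 k3 a ha (by
      rw [← sub_eq_iff_eq_add.2 h4]; exact sub_mem (Submodule.smul_mem _ _ hv) (k1 b hb))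
    rw [zero_add] at h4
    rw [← h4, map_smul, mul_smul_comm, smul_mul_assoc, ← smul_neg] at hb
    exact smul_right_injective _ h2 hb
  have w0 : W ≠ ⊥ := fun h => t0 (zero_of_an h2 fun v => k4 v (by simp [h]))
  have w1 : W ≠ ⊤ := fun h => by
    obtain ⟨c, rfl⟩ := scalar_of_comm fun v => (hW v).1 (h ▸ trivial)
    have := congrFun (congrFun h1 (.inr 0)) (.inl 0)
    simp [J] at this
    exact t0 (by rw [(mul_eq_zero.1 (by linear_combination this : 2 * c = 0)).resolve_left h2, zero_smul])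
  refine max_of_hom ρ hE (fun g => (hN g.1 g.2).trans ⟨fun hg => Form.mem_stab_of_mapsTo _ fun v hv => ?_,
    fun hg => ?_⟩) (Quad.not_E_le_stab hD (by rw [finrank_odd]; omega) w0 w1)
    (E_le_of_nondeg5 hD h2 k3 hq (finrank_odd 2) w0 w1)
  · have h4 := (hW v).1 hv
    rw [hW, hρ, ← (Units.mul_left_inj g.1), Matrix.mul_assoc τ, Units.inv_mul_cancel_right, ← Matrix.mul_assoc,
      Matrix.mul_assoc _ τ]
    rcases hg with hg | hg
    · rw [← hg, ← Matrix.mul_assoc, Units.inv_mul_cancel_right, Matrix.mul_assoc, h4, Matrix.mul_assoc]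
    · rw [neg_eq_iff_eq_neg.2 hg |>.symm]
      simp only [mul_neg, neg_mul, ← Matrix.mul_assoc, Units.inv_mul_cancel_right]
      rw [Matrix.mul_assoc, h4, Matrix.mul_assoc]
  obtain ⟨σ, hσ⟩ : ∃ σ, σ = (g.1⁻¹).1 * τ * g.1.1 := ⟨_, rfl⟩
  have k5 : ∀ (ε : F) v, τ * mu F ((ρ g).1 v) = ε • (mu F ((ρ g).1 v) * τ) → σ * mu F v = ε • (mu F v * σ) :=
    fun ε v hv => by
      have := congrArg (fun X => (g.1⁻¹).1 * X * g.1.1) hv
      simpa [hρ, hσ, Matrix.mul_assoc] using this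
  obtain ⟨c, hc⟩ := scalar_of_comm (x := τ * σ) fun v => smul_right_injective _ h2 (by
    obtain ⟨a, ha, b, hb, h4⟩ := k2 v
    have a1 := k5 1 a (by simpa using (hW _).1 (stab_mem hg ha))
    have b1 := k5 (-1) b (by simpa using k4 _ (stab_mem (hD.stab_perp W ▸ hg) (k1 b hb)))
    simp only
    rw [← mul_smul_comm, ← smul_mul_assoc, ← map_smul, h4, map_add, mul_add, add_mul, Matrix.mul_assoc,
      Matrix.mul_assoc, a1, b1, one_smul, neg_one_smul, mul_neg, ← Matrix.mul_assoc, ← Matrix.mul_assoc,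
      (hW a).1 ha, hb]
    simp [Matrix.mul_assoc])
  have h5 : σ = (c / d) • τ := by
    have := congrArg (τ * ·) hc
    simp only [l, mul_smul_comm, mul_one] at this
    rw [div_eq_inv_mul, mul_smul, ← this, smul_smul, inv_mul_cancel₀ d0, one_smul]
  have h6 : σ * σ = d • 1 := by simp [hσ, Matrix.mul_assoc, l]
  have h7 : τ * g.1.1 = (c / d) • (g.1.1 * τ) := by
    rw [← mul_smul_comm, ← h5, hσ]; simp [← Matrix.mul_assoc]
  rw [h5, smul_mul_assoc, mul_smul_comm, h3, smul_smul, smul_smul] at h6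
  have h8 : (c / d) ^ 2 = 1 := mul_right_cancel₀ d0 (by
    simpa [sq] using congrFun (congrFun h6 (.inl 0)) (.inl 0))
  rcases sq_eq_one_iff.1 h8 with h9 | h9 <;> simp [h7, h9]

theorem sp4_max_pair (hodd : Odd (Fintype.card F)) (hq : 5 ≤ Fintype.card F) (D : Fin 2 → Submodule F (ι4 → F))
    (hD : IsMDecomposition 2 D) (hts : ∀ i, IsTotallySingularFor (sympForm 2 F) (D i)) :
    IsMaximalIn (spGL 2 F) (decompositionStabilizer D ⊓ spGL 2 F) := by
  have h2 := two_ne_zero_of_odd_card rfl hodd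
  have hc : IsCompl (D 0) (D 1) := ⟨hD.indep.pairwiseDisjoint (by decide), codisjoint_iff.2 (by
    rw [← hD.iSup_eq_top]; exact le_antisymm (sup_le (le_iSup D 0) (le_iSup D 1))
      (iSup_le (Fin.forall_fin_two.2 ⟨le_sup_left, le_sup_right⟩)))⟩
  obtain ⟨τ, t0, t1⟩ : ∃ τ : Matrix ι4 ι4 F, (∀ v ∈ D 0, τ *ᵥ v = v) ∧ ∀ v ∈ D 1, τ *ᵥ v = -v :=
    ⟨LinearMap.toMatrix' (LinearMap.ofIsCompl hc (D 0).subtype (-(D 1).subtype)), fun v hv => by
      rw [LinearMap.toMatrix'_mulVec]; exact LinearMap.ofIsCompl_apply_left hc ⟨v, hv⟩, fun v hv => by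
      rw [LinearMap.toMatrix'_mulVec]; exact LinearMap.ofIsCompl_apply_right hc ⟨v, hv⟩⟩
  have k : ∀ v, ∃ a ∈ D 0, ∃ b ∈ D 1, a + b = v := fun v => Submodule.mem_sup.1 (hc.sup_eq_top.ge trivial)
  have k0 : ∀ v, τ *ᵥ v = v → v ∈ D 0 := fun v hv => by
    obtain ⟨a, ha, b, hb, rfl⟩ := k v
    rw [mulVec_add, t0 a ha, t1 b hb, add_right_inj] at hv
    simpa [zn h2 hv.symm]
  have k1 : ∀ v, τ *ᵥ v = -v → v ∈ D 1 := fun v hv => by
    obtain ⟨a, ha, b, hb, rfl⟩ := k v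
    rw [mulVec_add, t0 a ha, t1 b hb, neg_add, add_left_inj] at hv
    simpa [zn h2 hv]
  have k2 : ∀ (g : GL ι4 F) i j, (∀ v ∈ D i, g.1 *ᵥ v ∈ D j) → (D i).map (toLin' g.1) = D j := fun g i j h =>
    Submodule.eq_of_le_of_finrank_eq (by rintro _ ⟨v, hv, rfl⟩; exact h v hv) (by
      rw [← glEquiv_toLinearMap, LinearEquiv.finrank_map_eq, hD.finrank_eq, hD.finrank_eq])
  refine sp4_max_skew h2 hq (τ := τ) (d := 1) ?_ (matrix_eq_iff.2 fun v => ?_) one_ne_zero fun g _ => ⟨?_, ?_⟩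
  · rw [← mul_neg, ← symp_eq]
    intro u v
    obtain ⟨a, ha, b, hb, rfl⟩ := k u
    obtain ⟨a', ha', b', hb', rfl⟩ := k v
    simp only [← fSymp_B, neg_mulVec, mulVec_add, t0 a ha, t1 b hb, t0 a' ha', t1 b' hb', B_lin]
    simp [fSymp_B, hts 0 a ha a' ha', hts 1 b hb b' hb']
  · obtain ⟨a, ha, b, hb, rfl⟩ := k v
    simp [← mulVec_mulVec, mulVec_add, mulVec_neg, t0 a ha, t1 b hb]
  · rintro ⟨π, hπ⟩
    have h3 : ∀ i, ∀ v ∈ D i, g.1 *ᵥ v ∈ D (π i) := fun i v hv => (hπ i).le ⟨v, hv, rfl⟩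
    have h4 := (by decide : ∀ π : Equiv.Perm (Fin 2), π 0 = 0 ∧ π 1 = 1 ∨ π 0 = 1 ∧ π 1 = 0) π
    refine h4.imp (fun h => matrix_eq_iff.2 fun v => ?_) fun h => matrix_eq_iff.2 fun v => ?_ <;>
      obtain ⟨a, ha, b, hb, rfl⟩ := k v
    · simp [← mulVec_mulVec, mulVec_add, mulVec_neg, t0 a ha, t1 b hb, t0 _ (h.1 ▸ h3 0 a ha),
        t1 _ (h.2 ▸ h3 1 b hb)]
    · simp [← mulVec_mulVec, mulVec_add, mulVec_neg, neg_mulVec, t0 a ha, t1 b hb, t1 _ (h.1 ▸ h3 0 a ha),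
        t0 _ (h.2 ▸ h3 1 b hb)]
  rintro (h | h)
  · exact ⟨1, Fin.forall_fin_two.2 ⟨k2 g 0 0 fun v hv => k0 _ (by rw [mulVec_mulVec, ← h, ← mulVec_mulVec, t0 v hv]),
      k2 g 1 1 fun v hv => k1 _ (by rw [mulVec_mulVec, ← h, ← mulVec_mulVec, t1 v hv, mulVec_neg])⟩⟩
  · rw [← neg_eq_iff_eq_neg] at h
    exact ⟨Equiv.swap 0 1, Fin.forall_fin_two.2 ⟨k2 g 0 1 fun v hv => k1 _ (by
      rw [mulVec_mulVec, ← h, neg_mulVec, ← mulVec_mulVec, t0 v hv]), k2 g 1 0 fun v hv => k0 _ (by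
      rw [mulVec_mulVec, ← h, neg_mulVec, ← mulVec_mulVec, t1 v hv, mulVec_neg, neg_neg])⟩⟩

omit [Fintype F] in
theorem exists_comb {n : Type} [Fintype n] [DecidableEq n] [Nonempty n] {K : Subalgebra F (Matrix n n F)}
    (hK : finrank F K = 2) {τ : Matrix n n F} (h1 : τ ∈ K) (h2 : ∀ c : F, τ ≠ c • 1) {k : Matrix n n F} :
    k ∈ K ↔ ∃ a b : F, k = a • 1 + b • τ := by
  refine ⟨fun hk => ?_, by rintro ⟨a, b, rfl⟩; exact add_mem (K.smul_mem K.one_mem _) (K.smul_mem h1 _)⟩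
  have h3 : LinearIndependent F ![(1 : K), ⟨τ, h1⟩] := (LinearIndependent.pair_iff' one_ne_zero).2 fun a h =>
    h2 a (congrArg Subtype.val h).symm
  have := (h3.span_eq_top_of_card_eq_finrank' (by simp [hK])).ge (Submodule.mem_top (x := ⟨k, hk⟩))
  rw [Matrix.range_cons_cons_empty, Submodule.mem_span_pair] at this
  obtain ⟨a, b, h⟩ := this
  exact ⟨a, b, (congrArg Subtype.val h).symm⟩

theorem sp4_max_herm (hodd : Odd (Fintype.card F)) (hq : 5 ≤ Fintype.card F) (K : Subalgebra F (Matrix ι4 ι4 F))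
    (hK : IsFieldSubalgebra 2 K) (hac : IsAdjointClosedFor (sympForm 2 F) K)
    (hnsa : ¬ IsSelfAdjointFor (sympForm 2 F) K) :
    IsMaximalIn (spGL 2 F) (subalgebraNormalizer K ⊓ spGL 2 F) := by
  have h2 := two_ne_zero_of_odd_card rfl hodd
  obtain ⟨k, hk, h3⟩ : ∃ k ∈ K, kᵀ * J4 ≠ J4 * k := by
    by_contra! H; exact hnsa fun k hk => symp_eq.2 (H k hk)
  obtain ⟨k', hk', h4⟩ := hac k hk
  rw [symp_eq] at h4
  have h5 : k'ᵀ * J4 = J4 * k := by
    have := congrArg transpose h4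
    rw [transpose_mul, transpose_mul, transpose_transpose, J_transpose, mul_neg, neg_mul, neg_inj] at this
    exact this.symm
  obtain ⟨τ, hτ⟩ : ∃ τ, τ = k - k' := ⟨_, rfl⟩
  have t1 : τ ∈ K := hτ ▸ sub_mem hk hk'
  have t2 : τᵀ * J4 = -(J4 * τ) := by rw [hτ, transpose_sub, sub_mul, h4, h5, mul_sub, neg_sub]
  have t0 : τ ≠ 0 := fun h => h3 (by rw [h4, ← (sub_eq_zero.1 (hτ.symm.trans h) : k = k')])
  have J0 : ∀ X : Matrix ι4 ι4 F, J4 * X = 0 → X = 0 := fun X h => by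
    simpa [← Matrix.mul_assoc, J_squared] using congrArg (J4 * ·) h
  have t3 : ∀ (a : F) X, Xᵀ * J4 = -(J4 * X) → (a • 1 + X)ᵀ * J4 = -(J4 * (a • 1 + X)) → a = 0 := fun a X h h' => by
    rw [transpose_add, add_mul, h, mul_add, neg_add, add_left_inj] at h'
    have := congrFun (congrFun h' (.inr 0)) (.inl 0)
    simp [J] at this
    exact (mul_eq_zero.1 (by linear_combination this : 2 * a = 0)).resolve_left h2
  have t4 : ∀ c : F, τ ≠ c • 1 := fun c h => t0 (by rw [h, t3 c 0 (by simp) (by rwa [add_zero, ← h]), zero_smul])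
  have hm : ∀ {k}, k ∈ K ↔ _ := exists_comb hK.finrank_eq t1 t4
  obtain ⟨d, b, h6⟩ := hm.1 (mul_mem t1 t1)
  obtain rfl : b = 0 := by
    have h7 : (τ * τ)ᵀ * J4 = J4 * (τ * τ) := by
      rw [transpose_mul, Matrix.mul_assoc, t2, mul_neg, ← Matrix.mul_assoc, t2]; simp [Matrix.mul_assoc]
    rw [h6, transpose_add, add_mul, mul_add, transpose_smul, transpose_smul, smul_mul_assoc, smul_mul_assoc, t2,
      transpose_one, mul_smul_comm, mul_smul_comm, one_mul, mul_one, add_right_inj, smul_neg] at h7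
    exact (smul_eq_zero.1 (zn h2 h7.symm)).resolve_right fun h => t0 (J0 _ h)
  rw [zero_smul, add_zero] at h6
  have d0 : d ≠ 0 := by
    rintro rfl
    obtain ⟨y, -, hy⟩ := hK.inv τ t1 t0
    exact t0 (by simpa [← Matrix.mul_assoc, h6] using (congrArg (τ * ·) hy).symm)
  refine sp4_max_skew h2 hq t2 h6 d0 fun g hg => ⟨fun h => ?_, fun h k => ?_⟩
  · obtain ⟨a, b, h7⟩ := hm.1 ((h τ).1 t1)
    obtain rfl : a = 0 := t3 a (b • τ) (by simp [t2]) (by
      have h1 := mem_sp.1 hg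
      have h3 := mem_sp.1 (inv_mem hg)
      rw [inv_inv] at h3
      rw [← h7, transpose_mul, transpose_mul, Matrix.mul_assoc, Matrix.mul_assoc, h1, ← Matrix.mul_assoc _ J4, t2,
        neg_mul, mul_neg, ← Matrix.mul_assoc, ← Matrix.mul_assoc, h3]
      simp only [Matrix.mul_assoc])
    rw [zero_smul, zero_add] at h7
    have h8 : (b • τ) * (b • τ) = d • 1 := by
      rw [← h7, Matrix.mul_assoc, ← Matrix.mul_assoc (g⁻¹).1, Units.inv_mul_cancel_left, ← Matrix.mul_assoc,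
        Matrix.mul_assoc g.1, h6]; simp
    rw [smul_mul_assoc, mul_smul_comm, h6, smul_smul, smul_smul] at h8
    have h9 : b ^ 2 = 1 := mul_right_cancel₀ d0 (by simpa [sq] using congrFun (congrFun h8 (.inl 0)) (.inl 0))
    rw [Units.mul_inv_eq_iff_eq_mul] at h7
    rcases sq_eq_one_iff.1 h9 with h | h <;> simp [h7, h]
  obtain ⟨ε, e1, e2⟩ : ∃ ε : F, ε * ε = 1 ∧ g.1 * τ * (g⁻¹).1 = ε • τ := by
    rcases h with h | h
    exacts [⟨1, by simp, by simp [h]⟩, ⟨-1, by simp, by simp [h]⟩]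
  have e3 : ∀ a b : F, g.1 * (a • 1 + b • τ) * (g⁻¹).1 = a • 1 + (b * ε) • τ := fun a b => by
    rw [mul_add, add_mul, mul_smul_comm, mul_smul_comm, smul_mul_assoc, smul_mul_assoc, e2, smul_smul, mul_one,
      Units.mul_inv]
  refine ⟨fun hk => ?_, fun hk => ?_⟩
  · obtain ⟨a, b, rfl⟩ := hm.1 hk
    exact hm.2 ⟨_, _, e3 a b⟩
  · obtain ⟨a, b, h7⟩ := hm.1 hk
    refine hm.2 ⟨a, b * ε, ?_⟩
    rw [← Units.mul_right_inj g, ← Units.mul_left_inj g⁻¹, e3, h7, mul_assoc, e1, mul_one]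

end Cfsg.Lib.Forms.K4
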