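import Cfsg.Agent.Lib.K4.Sp2
import Cfsg.Agent.Lib.Elu.C6b

/-!
# The normaliser of `2^{1+4}` in `Sp₄(p)`
-/

set_option autoImplicit false

namespace Cfsg.Lib.Forms

open Module Form Matrix Cfsg.Geo Cfsg.Lib.Elu

variable {F : Type*} [Field F] [Fintype F]

theorem Form.IsFrame.max_frame {V ι Γ : Type*} [AddCommGroup V] [Module F V] [FiniteDimensional F V]
    {D : Form (quadKind F) V} [DecidableEq ι] [Fintype ι] {e : ι → V} {c : F} (h : D.IsFrame e c) (hD : D.Nondeg)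
    (hn : 5 ≤ finrank F V) [Group Γ] {G R : Subgroup Γ} (hR : R ≤ G) (ρ : G →* D.isom) (hE : ρ.range = D.E)
    (h1 : ∀ s : G, s.1 ∈ R ↔ ∀ j, (ρ s).1 (e j) = e j ∨ (ρ s).1 (e j) = -e j)
    (h2 : ∀ X ≤ D.E, D.E ⊓ D.dec (fun i => F ∙ e i) ≤ X → ¬ X ≤ D.dec (fun i => F ∙ e i) → D.E ≤ X) :
    IsMaximalIn G (Subgroup.normalizer (R : Set Γ) ⊓ G) := by
  have h3 := h.finrank_le_card
  refine max_of_hom ρ hE (fun g => Iff.trans ?_ (h.norm_iff_dec (R := R.subgroupOf G) h1 (fun i j ij => ?_) g))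
    (h.not_E_le (by omega)) h2
  · simp only [Subgroup.mem_normalizer_iff]
    refine ⟨fun H s => H s.1, fun H s => ⟨fun hs => (H ⟨s, hR hs⟩).1 hs, fun hs => (H ⟨s, ?_⟩).2 hs⟩⟩
    simpa [mul_assoc] using G.mul_mem (G.mul_mem (G.inv_mem g.2) (hR hs)) g.2
  obtain ⟨k, hk⟩ := IsFrame.exists_not_mem {i, j} (Finset.card_le_two.trans_lt (by omega))
  simp only [Finset.mem_insert, Finset.mem_singleton, not_or] at hk
  have q : ∀ i, D.Q (e i) ≠ 0 := fun i => h.Q i ▸ h.ne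
  obtain ⟨s, hs⟩ := hE.ge ((Quad.mem_E_iff hD hn (g := D.refl (e j) * D.refl (e k))).2 (by
    simp [dickson_refl hD (q _), spinor_refl hD (q _), h.Q]))
  exact ⟨s, (h1 s).2 (hs ▸ h.diag_two j k), by simp [hs, h.refl_e, hk.1, ij.symm], by simp [hs, h.refl_e, hk.2]⟩

namespace K4

omit [Fintype F] in
theorem g4_five {V : Type*} [AddCommGroup V] [Module F V] {A B C E : End F V} (H : G4 A B C E) (ha : A * A = -1)
    (hb : B * B = -1) (he : C * C = 1) (hd : E * E = -1) {r : Fin 5 → End F V}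
    (hr : r = ![C, C * E, A * E, B * E, A * B * E]) : (∀ i, r i * r i = 1) ∧ ∀ i j, i ≠ j → An (r i) (r j) := by
  have m : ∀ {S T : End F V}, Commute S T → ∀ X, T * (S * X) = S * (T * X) := fun e X =>
    e.symm.left_comm X
  have m' : ∀ {S T : End F V}, An S T → ∀ X, T * (S * X) = -(S * (T * X)) := fun e X => by
    rw [← mul_assoc, e.symm, neg_mul, mul_assoc]
  have l : ∀ {S : End F V}, S * S = -1 → ∀ X, S * (S * X) = -X := fun e X => by
    rw [← mul_assoc, e, neg_one_mul]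
  have l' : ∀ X, C * (C * X) = X := fun X => by rw [← mul_assoc, he, one_mul]
  subst hr
  refine ⟨fun i => ?_, fun i j ij => ?_⟩
  · fin_cases i <;> simp [mul_assoc, m H.ac, m H.ad, m H.bc, m H.bd, m' H.ab,
        m' H.cd, l ha, l hb, l hd, l', ha, hb, he, hd]
  · fin_cases i <;> fin_cases j <;> first | exact absurd rfl ij | simp [An, mul_assoc, m H.ac, m H.ad, m H.bc,
      m H.bd, m' H.ab, m' H.cd, l ha, l hb, l hd, l', ha, hb, he, hd, H.ac.symm.eq, H.ad.symm.eq, H.bc.symm.eq,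
        H.bd.symm.eq, show B * A = _ from H.ab.symm, show E * C = _ from H.cd.symm]

omit [Fintype F] in
theorem rep_iff {ι : Type} [Fintype ι] [DecidableEq ι] {R : Subgroup (GL ι F)} {s t : R} :
    (An (rep R s) (rep R t) ↔ s.1.1 * t.1.1 = -(t.1.1 * s.1.1)) ∧
    (Commute (rep R s) (rep R t) ↔ s.1.1 * t.1.1 = t.1.1 * s.1.1) ∧
    (rep R s * rep R t = 1 ↔ s.1.1 * t.1.1 = 1) ∧ (rep R s * rep R t = -1 ↔ s.1.1 * t.1.1 = -1) := by
  simp only [An, Commute, SemiconjBy, rep_apply, End.mul_eq_comp, ← toLin'_mul, ← map_neg, End.one_eq_id,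
    ← toLin'_one, toLin'.injective.eq_iff, and_self]

theorem sp4_max_extra (hodd : Odd (Fintype.card F)) (hp : (Fintype.card F).Prime)
    (R : Subgroup (GL (Fin 2 ⊕ Fin 2) F)) (hRs : IsSymplecticTypeGroup 2 R)
    (hRi : ActsAbsolutelyIrreducibly (matrixSet R)) (hRf : R ≤ spGL 2 F) (hc : Nat.card R = 32)
    (hZ : Nat.card (Subgroup.center R) = 2) (hm : IsOfMinusType 2 R) :
    IsMaximalIn (spGL 2 F) (subgroupNormalizer R ⊓ spGL 2 F) := by
  have h2 := two_ne_zero_of_odd_card rfl hodd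
  obtain ⟨ρ, hE, hρ⟩ := exists_rho h2
  have hD := fOdd_nondeg h2 2
  have hn := finrank_odd (F := F) 2
  have P := Rp.p2 ⟨rep_injective R, rep_irr hRi⟩ h2 hRs.pGroup hRs.cyclic_of_characteristic hRs.exponent_eq
  obtain ⟨a, b, e, d, H, ha, hb, he, hd⟩ := P.g4_minus (by omega) (minus_hM P.inj hc hZ hm)
  obtain ⟨r, hr⟩ : ∃ r : Fin 5 → R, r = ![e, e * d, a * d, b * d, a * b * d] := ⟨_, rfl⟩
  obtain ⟨r1, r2⟩ := g4_five H ha hb he hd (r := fun i => rep R (r i)) (by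
    ext i : 1; fin_cases i <;> simp [hr])
  simp only [rep_iff.1, rep_iff.2.2.1] at r1 r2
  have r3 : ∀ i, ((r i).1⁻¹).1 = (r i).1.1 := fun i => by
    rw [← Units.inv_mul_cancel_left (r i).1 (r i).1.1, r1, mul_one]
  choose f hf using fun i => exists_mu h2 (x := (r i).1.1) (r3 i ▸ mem_sp.1 (hRf (r i).2)) (by
    obtain ⟨j, hj⟩ := exists_ne i
    have := congrArg (fun X => trace (X * (r j).1.1)) (r2 j i hj)
    simp only [trace_mul_cycle (r j).1.1, neg_mul, Matrix.mul_assoc (r i).1.1, r1, one_mul, mul_one,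
      trace_neg] at this
    exact zn h2 this)
  have k0 : ∀ {t : F}, t • (1 : Matrix (Fin 2 ⊕ Fin 2) (Fin 2 ⊕ Fin 2) F) = 0 → t = 0 := fun h => by simpa using h
  have h : (fOdd F 2).IsFrame f 1 := IsFrame.of_card hD one_ne_zero h2 (fun i => sub_eq_zero.1 (k0 (by
    rw [sub_smul, ← mu_sq, hf, r1, one_smul, sub_self]))) (fun i j ij => k0 (by
      rw [← sub_add_cancel (_ • _) (mu F (f j) * mu F (f i)), ← mu_an, hf, hf, r2 i j ij, neg_add_cancel]))
    (by simp)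
  have m1 : ∀ g : spGL 2 F, g.1.1 = -1 → g.1 ∈ R := fun g hg => by
    convert (a * a).2 using 1
    exact Units.ext (hg.trans (rep_iff.2.2.2.1 ha).symm)
  refine h.max_frame hD (by omega) hRf ρ hE (fun s => ⟨fun hs j => ?_, fun hs => ?_⟩)
    (h.E_le_of_odd5 hp hD ⟨2, hn⟩ (by omega) (by simp))
  · rw [← mu_inj.eq_iff, ← mu_inj.eq_iff (b := -_), map_neg, hρ, hf, Units.mul_inv_eq_iff_eq_mul,
      Units.mul_inv_eq_iff_eq_mul, neg_mul]
    exact (P.pm ⟨s, hs⟩ (r j)).imp rep_iff.2.1.1 rep_iff.1.1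
  obtain ⟨m, hm, ε, h3, h4⟩ := h.diag_ind (P := fun k => ∃ m : spGL 2 F, m.1 ∈ R ∧ ∃ ε : F, (ε = 1 ∨ ε = -1) ∧
    ∀ v, (ρ m).1 v = ε • k.1 v) ⟨1, R.one_mem, 1, Or.inl rfl, by simp⟩ (by
      rintro k i ⟨m, hm, ε, h3, h4⟩
      refine ⟨⟨_, hRf (r i).2⟩ * m, R.mul_mem (r i).2 hm, -ε, by rcases h3 with rfl | rfl <;> simp,
        fun v => mu_inj ?_⟩
      rw [map_mul, isom_mul_apply, isom_mul_apply, h4, hρ, refl_apply, h.Q]
      simp only [r3, ← hf, map_smul, map_sub, mul_smul_comm, smul_mul_assoc]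
      rw [mu_an (f i), sub_mul, Matrix.mul_assoc, mu_sq, h.Q]
      simp only [smul_mul_assoc, one_mul, one_smul, mul_one, inv_one]
      module) hs
  have h5 : ∀ v, (m⁻¹ * s).1.1 * mu F v = ε • (mu F v * (m⁻¹ * s).1.1) := fun v => by
    rw [← smul_mul_assoc, ← Units.mul_inv_eq_iff_eq_mul, ← hρ, ← map_smul, map_mul, map_inv, isom_mul_apply]
    congr 1
    apply (ρ m).1.injective
    rw [isom_apply_inv, map_smul, h4, smul_smul]
    rcases h3 with rfl | rfl <;> simp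
  rw [← R.mul_mem_cancel_left (R.inv_mem hm)]
  change (m⁻¹ * s).1 ∈ R
  generalize m⁻¹ * s = g at h5
  rcases h3 with rfl | rfl
  swap
  · exact absurd (zero_of_an h2 (by simpa using h5)) g.1.ne_zero
  obtain ⟨c, hc⟩ := scalar_of_comm (by simpa using h5)
  have h6 := congrArg (· * g.1.1) (mem_sp.1 g.2)
  simp only [Matrix.mul_assoc, Units.inv_mul, mul_one] at h6
  rw [hc] at h6
  have h7 : c ^ 2 = 1 := by simpa [J, sq] using congrFun (congrFun h6 (.inr 0)) (.inl 0)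
  rcases sq_eq_one_iff.1 h7 with rfl | rfl
  · exact (Units.ext (by simpa using hc) : g.1 = 1) ▸ R.one_mem
  · exact m1 g (by simpa using hc)

end K4

end Cfsg.Lib.Forms
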