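import Cfsg.Agent.Lib.MaxU.Du3

/-! Maximal subgroups of `SU_4`: subspace stabilisers and two orthogonal planes. -/

set_option autoImplicit false
set_option linter.unusedSectionVars false

namespace Cfsg.Lib.Forms

open Module Form

variable {F : Type*} [Field F] {σ : F →+* F} {V : Type*} [AddCommGroup V] [Module F V]
  {q : ℕ} {h : IsConj σ q} {D : Form h.kind V} {X : Subgroup D.isom}

namespace Herm

theorem su_all_smul {u e : V} (hu : D.Q u = 0) {κ : F} (κ0 : κ ≠ 0) (h1 : κ • e ∈ zSet X u hu)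
    (H : ∀ s t : F, s ≠ 0 → t ≠ 0 → σ (s * t) = s * t → ∃ k ∈ X, k.1 u = s • u ∧ k.1 e = t • e)
    (a : F) : a • e ∈ zSet X u hu := by
  have k : ∀ s : F, s ≠ 0 → ∀ r, σ r = r → (r * (σ s / s * κ)) • e ∈ zSet X u hu :=
    fun s s0 r hr => by
      by_cases r0 : r = 0
      · simp [r0]
      obtain ⟨k, hk, h2, h3⟩ := H s (r / s) s0 (div_ne_zero r0 s0) (by rwa [mul_div_cancel₀ _ s0])
      have := map_mem_zSet h1 hk h2
      rw [map_smul, h3, smul_smul, smul_smul] at this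
      convert this using 2; field_simp
  obtain ⟨μ, h2, h3, h4⟩ := h.exists_mu3 1 (-1)
  obtain ⟨s, s0, hs⟩ : ∃ s : F, s ≠ 0 ∧ σ s / s = μ := by
    have m1 : 1 + σ μ ≠ 0 := fun H => h4 (by
      rw [← h.σσ μ, eq_neg_of_add_eq_zero_right H]; simp)
    refine ⟨1 + σ μ, m1, ?_⟩
    rw [map_add, map_one, h.σσ, div_eq_iff m1]; linear_combination -h2
  refine span2 h (β := κ) (β' := μ * κ) (fun H => ?_) (by simpa using k 1 one_ne_zero)
    (by simpa [hs] using k s s0) a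
  have k1 : σ κ ≠ 0 := (map_ne_zero σ).2 κ0
  rw [map_mul] at H
  have : μ = σ μ := mul_right_cancel₀ (mul_ne_zero κ0 k1) (by linear_combination H)
  rw [← this] at h2
  exact (mul_self_eq_one_iff.1 h2).elim h3 h4

variable [FiniteDimensional F V] {ι : Type*} {W : ι → Submodule F V}

theorem su_two_torus (hD : D.Nondeg) (hn : 3 ≤ finrank F V) (hW : D.IsOrth W) {i j : ι}
    (ji : j ≠ i) {u f e f' : V} (huf : D.IsHyp u f) (hu : u ∈ W i) (hf : f ∈ W i)
    (hef : D.IsHyp e f') (he : e ∈ W j) (hf' : f' ∈ W j) {s t : F} (s0 : s ≠ 0) (t0 : t ≠ 0)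
    (hst : σ (s * t) = s * t) : ∃ k ∈ D.E ⊓ D.dec W, k.1 u = s • u ∧ k.1 e = t • e := by
  obtain ⟨g, a1, a2, a3⟩ := huf.exists_torus hD s0
  obtain ⟨g', b1, b2, b3⟩ := hef.exists_torus hD t0
  have k : ∀ {l : ι} {x y : V} {g : D.isom}, x ∈ W l → y ∈ W l → (∀ w ∈ D.hp x y, g.1 w = w) →
      ∀ m, g ∈ D.stab (W m) := fun {l x y g} hx hy h3 => by
    have h5 : ∀ z, g.1 z - z ∈ W l := fun z => by
      have := hD.sub_mem_of_fix (Y := D.hp x y) h3 z
      rw [hp, hD.perp_perp] at this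
      exact (Submodule.span_le.2 (Set.pair_subset hx hy) : _ ≤ W l) this
    exact hW.mem_stab hD (i := l) (j := l) (by simpa using h5) (mem_stab_of_sub_mem h5)
  refine ⟨g * g', ⟨(mem_E hD hn).2 (Units.ext ?_), mem_dec_of_stab fun m =>
    mul_mem (k hu hf a3 m) (k he hf' b3 m)⟩, ?_, ?_⟩
  · rw [map_mul, Units.val_mul, huf.det_torus a1 a2 a3, hef.det_torus b1 b2 b3]
    have := (map_ne_zero σ).2 s0
    have := (map_ne_zero σ).2 t0
    rw [map_mul] at hst
    simp only [Units.val_one]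
    field_simp; exact hst.symm
  · rw [isom_mul_apply, b3 u (D.mem_hp.2 ⟨hW.orth i j ji.symm hu e he, hW.orth i j ji.symm hu f' hf'⟩),
      a1]
  · rw [isom_mul_apply, b1, map_smul,
      a3 e (D.mem_hp.2 ⟨hW.orth j i ji he u hu, hW.orth j i ji he f hf⟩)]

theorem su_mem_of_ns {U : Submodule F V} (hM : D.MaxFull X U) (hd : Disjoint U (D.perp U))
    (h3 : 3 ≤ finrank F U) {u y : V} (hu : u ∈ U) (hy : y ∈ D.perp U) (hQx : D.Q (u + y) = 0)
    (hQu : D.Q u ≠ 0) (hx : Rk X (u + y)) : u + y ∈ U := by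
  have o : ∀ w ∈ U, D.B w y = 0 := hy
  obtain ⟨c, c0, hc⟩ := h.exists_trace_zero
  obtain ⟨e, he, e0, hQe, h3⟩ := (sing D).exists U [D.B u] h3
  have hr : e ∉ D.perp U := fun h5 => e0 (Submodule.disjoint_def.1 hd e he h5)
  replace h3 : D.B u e = 0 := by simpa using h3
  have h4 : D.IsRk1 (u + y) c := isRk1_iff.2 (by simp [hQx, hc])
  refine hM.mem_of_zSet (w := u + y) (Or.inl exists_tr) he hQe hr fun a => ?_
  have := sub_mem_zSet ((hM.full e he hr).mem_zSet hQe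
    (U.smul_mem (a / (c * D.Q u)) hu) (by simp [D.eq_zero_symm h3])) (hx c h4)
    (D.rk1_apply_of_perp _ _ (by simp [h3, D.eq_zero_symm (o e he)]))
  rw [rk1_apply, add_sub_cancel_left] at this
  convert this using 2
  simp [D.eq_zero_symm (o u hu), ← Q_eq]; field_simp

theorem su_E_le_nd (hD : D.Nondeg) {W : Submodule F V} (hW : Disjoint W (D.perp W))
    (h0 : finrank F W = 1) (hn : 4 ≤ finrank F V) (h1 : D.E ⊓ D.stab W ≤ X) (h2 : ¬ X ≤ D.stab W) :
    D.E ≤ X := by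
  rw [← hD.stab_perp] at h1 h2
  have hf := hD.finrank_perp W
  have hd := hD.disjoint_perp hW
  obtain ⟨U', hU, hM⟩ := (full_of_stab h1 le_rfl).exists_maxFull
  rcases hU.eq_or_lt with rfl | hlt
  swap
  · have := Submodule.finrank_lt_finrank_of_lt hlt
    obtain rfl : U' = ⊤ := Submodule.eq_top_of_finrank_eq (le_antisymm U'.finrank_le (by omega))
    exact hM.full.E_le hD
  refine (h2 fun g hg => D.mem_stab_iff_map.2 (Submodule.eq_of_le_of_finrank_eq ?_
    (finrank_map_isom _ g))).elim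
  obtain ⟨e, he, f, hf, hef⟩ := exists_hyp_mem hd (by omega)
  refine le_of_singular (e := g.1 e) ⟨e, he, rfl⟩ (hef.isom g).Q_e
    ((hef.isom g).not_mem_perp ⟨f, hf, rfl⟩) fun x h4 h5 h6 => ?_
  have hx := (hM.full.map hg x h4 h6).rk h5
  obtain ⟨⟨u, hu⟩, ⟨y, hy⟩, rfl⟩ := (hD.isOrthCompl hd).exists_add x
  simp only at *
  by_cases y0 : y = 0
  · simpa [y0] using hu
  refine su_mem_of_ns hM hd (by omega) hu hy h5 (fun h7 => y0 ?_) hx
  rw [D.Q_add_of_B (hy u hu), h7, zero_add] at h5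
  rw [hD.perp_perp] at hy
  have h8 : W = F ∙ y := (Submodule.eq_of_le_of_finrank_eq
    ((Submodule.span_singleton_le_iff_mem _ _).2 hy) (by rw [finrank_span_singleton y0, h0])).symm
  exact Submodule.disjoint_def.1 hW y hy (h8 ▸ D.mem_perp_span_singleton.2 (D.B_self_of_Q h5))

theorem mem_or_perp2 (hD : D.Nondeg) (hn : 3 ≤ finrank F V) (hW : D.IsOrth W) {i : ι}
    (h2 : ∀ j, 2 ≤ finrank F (W j)) (hq : q ≠ 2) (hk : finrank F (W i) = 2)
    (h1 : D.E ⊓ D.dec W ≤ X) (hM : D.MaxFull X (W i)) {x : V} (hQ : D.Q x = 0) (hx : Rk X x) :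
    x ∈ W i ∨ x ∈ D.perp (W i) := by
  have hd := hW.disjoint hD
  have hr : ∀ j, ∀ e ∈ W j, e ≠ 0 → e ∉ D.perp (W j) := fun j e h3 h4 h5 =>
    h4 (Submodule.disjoint_def.1 (hd j) e h3 h5)
  have hF := full_of_dec hD hW h1
  have hR : D.RichOn (W i) := Or.inl exists_tr
  obtain ⟨⟨u, hu⟩, ⟨y, hy⟩, rfl⟩ := (hD.isOrthCompl (hd i)).exists_add x
  simp only at *
  by_contra H
  have u0 : u ≠ 0 := by rintro rfl; simp [hy] at H
  have y0 : y ∉ W i := fun h3 => H (Or.inl (add_mem hu h3))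
  have o : ∀ w ∈ W i, D.B w y = 0 := hy
  rw [D.Q_add_of_B (o u hu)] at hQ
  obtain ⟨c, c0, hc⟩ := h.exists_trace_zero
  by_cases hQu : D.Q u = 0
  · have hQy : D.Q y = 0 := by simpa [hQu] using hQ
    obtain ⟨f, hf, huf⟩ := exists_isHyp_mem hu hQu (hr i u hu u0)
    obtain ⟨s, s1, g, hg, h3, h4⟩ : ∃ s : F, s ≠ 1 ∧ ∃ g ∈ X, g.1 u = s • u ∧ g.1 y = y := by
      obtain ⟨s, hs, s0, s1⟩ := h.exists_fixed_ne hq
      obtain ⟨g, hg, h3, h4⟩ := torus2 huf ((hF i u hu (hr i u hu u0)).rk hQu)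
        ((hF i f hf (hr i f hf huf.f_ne_zero)).rk huf.Q_f) s0 hs
      exact ⟨s, s1, g, hg, h3, h4 y (o u hu) (o f hf)⟩
    have h5 := mem_zSet_diff hQu hQy (o u hu) hx (by simpa [h3, h4] using hx.conj hg) hc
    obtain ⟨j, hj⟩ : ∃ j, y ∉ D.perp (W j) := by
      by_contra! h6
      exact y0 (hW.eq_zero hD h6 ▸ zero_mem _)
    have ji : j ≠ i := by rintro rfl; exact hj hy
    have oj : ∀ w ∈ W j, D.B w u = 0 := fun w hw => hW.orth i j ji.symm hu w hw
    obtain ⟨e, he, hQe, e0, hB⟩ : ∃ e ∈ W j, D.Q e = 0 ∧ e ∉ D.perp (W j) ∧ D.B e y ≠ 0 := by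
      by_contra! h6
      obtain ⟨e, he, f, hf, hef⟩ := exists_hyp_mem (hd j) (h2 j)
      exact hj (D.le_perp_comm.1 (le_of_singular (A := D.perp (F ∙ y)) he hef.Q_e
        (hef.not_mem_perp hf) fun x h7 h8 h9 => D.mem_perp_span_singleton.2
          (D.eq_zero_symm (h6 x h7 h8 h9))) (Submodule.mem_span_singleton_self y))
    have h6 : D.IsRk1 e c := isRk1_iff.2 (by simp [hQe, hc])
    have h7 := sub_mem_zSet h5 ((hF j e he e0).rk hQe c h6) (D.rk1_apply_of_perp _ _ (oj e he))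
    rw [rk1_apply, add_sub_cancel_left] at h7
    obtain ⟨f', hf', hef⟩ := exists_isHyp_mem he hQe e0
    refine e0 (hW.orth i j ji.symm (hM.mem_of_zSet hR hu hQu (hr i u hu u0) fun a => ?_))
    set κ := c * D.B e (σ (c * (s - 1)) • y)
    have κ0 : κ ≠ 0 := by
      simp only [κ, D.B_smul_right]
      exact mul_ne_zero c0 (mul_ne_zero ((map_ne_zero σ).2 (mul_ne_zero c0 (sub_ne_zero.2 s1))) hB)
    refine su_all_smul hQu κ0 h7 (fun s t s0 t0 hst => ?_) a
    obtain ⟨k, hk, h8, h9⟩ := su_two_torus hD hn hW ji huf hu hf hef he hf' s0 t0 hst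
    exact ⟨k, h1 hk, h8, h9⟩
  have hQx : D.Q (u + y) = 0 := by rwa [D.Q_add_of_B (o u hu)]
  obtain ⟨e, he, f, hf, hef⟩ := exists_hyp_mem (hd i) (h2 i)
  have h3 : Submodule.span F {e, f} = W i := Submodule.eq_of_le_of_finrank_eq
    (Submodule.span_le.2 (Set.pair_subset he hf)) (hef.finrank_span.trans hk.symm)
  obtain ⟨a, b, rfl⟩ := Submodule.mem_span_pair.1 (h3.ge hu)
  have h4 : D.Q (a • e + b • f) = σ a * b + a * σ b := by
    simpa [h.σσ] using hef.Q_comb a b (zero_mem _)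
  have Re := (hF i e he (hef.not_mem_perp hf)).rk hef.Q_e
  have Rf := (hF i f hf (hef.not_mem_perp' he)).rk hef.Q_f
  have k : ∀ b : F, D.Q (a • e + b • f + y) = 0 → b ≠ 0 → Rk X (a • e + b • f + y) → ∀ r, σ r = r →
      (r * b⁻¹) • y ∈ zSet X e hef.Q_e := fun b h5 b0 h6 => by
    have hp : D.IsHyp e (b⁻¹ • (a • e + b • f + y)) :=
      ⟨hef.Q_e, D.Q_smul_of_Q h5 _, by simp [hef.B_ee, hef.B_ef, o e he, b0]⟩
    have k1 : ∀ r, σ r = r → r ≠ 1 → (r * b⁻¹) • y ∈ zSet X e hef.Q_e := fun r hr r1 => by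
      have r2 : σ (1 - r)⁻¹ = (1 - r)⁻¹ := by simp [hr]
      have r3 := inv_ne_zero (sub_ne_zero.2 r1.symm)
      obtain ⟨g, hg, h7, h8⟩ := torus2 hef Re Rf r3 r2
      obtain ⟨g', hg', h7', h8'⟩ := torus2 hp Re (h6.smul (inv_ne_zero b0)) r3 r2
      have := two_tori hD hef.Q_e hp.B_ef hef.B_ef hg' hg h7' h7 h8' h8
      convert sub_mem this (smul_mem_zSet hef.Q_e (r * b⁻¹ * a)) using 1
      rw [r2, inv_inv]
      match_scalars <;> field_simp <;> ring
    intro r hr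
    by_cases r1 : r = 1
    · obtain ⟨s, hs, s0, s1⟩ := h.exists_fixed_ne hq
      convert add_mem (k1 s hs s1) (k1 (1 - s) (by simp [hs]) (by simpa using s0)) using 1
      rw [r1]; module
    · exact k1 r hr r1
  have h5 : D.IsRk1 f c := isRk1_iff.2 (by simp [hef.Q_f, hc])
  have h6 : (D.rk1 f c h5).1 (a • e + b • f + y) = a • e + (b + c * a) • f + y := by
    simp only [rk1_apply, D.B_lin, hef.B_fe, hef.B_ff, o f hf, hermKind_ε]; module
  have hc' := eq_neg_of_add_eq_zero_right hc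
  have b0 : b ≠ 0 := fun h7 => hQu (by rw [h4, h7]; simp)
  have b1 : b + c * a ≠ 0 := fun h7 => hQu (by
    rw [h4, eq_neg_of_add_eq_zero_left h7]; simp [hc']; ring)
  have b2 : σ b ≠ 0 := by simpa using b0
  have b3 : σ (b + c * a) ≠ 0 := by simpa only [map_ne_zero] using b1
  refine y0 (hM.mem_of_zSet hR he hef.Q_e (hef.not_mem_perp hf) (span2 h ?_ (k b hQx b0 hx)
    (k _ (by rw [← h6, Q_isom, hQx]) b1 (h6 ▸ hx.conj (Rf c h5)))))
  intro h7
  rw [map_inv₀, map_inv₀] at h7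
  field_simp at h7
  simp only [map_add, map_mul, hc'] at h7
  exact mul_ne_zero c0 hQu (by rw [h4]; linear_combination -h7)

theorem E_le_of_orth2 [Finite ι] (hD : D.Nondeg) (hn : 3 ≤ finrank F V) (hW : D.IsOrth W) (i : ι)
    (hk : ∀ j, finrank F (W j) = 2) (hq : q ≠ 2) (X : Subgroup D.isom)
    (h1 : D.E ⊓ D.dec W ≤ X) (h3 : ¬ X ≤ D.dec W) : D.E ≤ X := by
  classical
  have h2 : ∀ j, 2 ≤ finrank F (W j) := fun j => by rw [hk]
  have hd := hW.disjoint hD
  have hn' := fun j => D.nondeg_restrict_iff.2 (hd j)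
  have hiso : ∀ i j, (D.restrict (W i)).Iso (D.restrict (W j)) := fun i j =>
    iso (hn' i) (hn' j) (by rw [hk, hk])
  have hU : D.Univ (W i) := univ ((wide_self (hd i)).mono le_rfl (by have := h2 i; omega))
  obtain ⟨U, hU', hM⟩ := (full_of_dec hD hW h1 i).exists_maxFull
  obtain ⟨e, he, f, hf, hef⟩ := exists_hyp_mem (hd i) (h2 i)
  rcases hW.eq_or_eq_top hD (trans hD hn) hU (fun j => irr (hn' j)) h2 hiso hU'
    (fun g hg => hM.mem_stab' hef (hU' he) (hU' hf) (h1 hg.1)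
      (hU' (stab_inv_mem hg.2 he)) (hU' (stab_inv_mem hg.2 hf))) with rfl | rfl
  swap
  · exact hM.full.E_le hD
  refine (h3 (hW.le_dec hD (i := i) (fun j hj => by have := h2 j; rw [hj] at this; simp at this)
    (fun j => ?_) fun g hg => ?_)).elim
  · obtain ⟨g, hg, h4, -⟩ := hW.exists_mem_swap hD (trans hD hn) hU (hiso i j)
    exact ⟨g, h1 ⟨hg, _, h4⟩, by rw [h4, Equiv.swap_apply_left]⟩
  refine (le_or_le_perp (U' := (W i).map (g.1 : V →ₗ[F] V)) (e := g.1 e) ⟨e, he, rfl⟩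
    (hef.isom g).Q_e ((hef.isom g).not_mem_perp ⟨f, hf, rfl⟩) fun x h4 h5 h6 =>
      mem_or_perp2 hD hn hW h2 hq (hk i) h1 hM h5 ((hM.full.map hg x h4 h6).rk h5)).imp_left
    fun H => D.mem_stab_iff_map.2 (Submodule.eq_of_le_of_finrank_eq H (finrank_map_isom _ g))

end Herm

open Cfsg.Geo Herm

theorem su4_ts {F : Type*} [Field F] [Fintype F] (q : ℕ) (hF : Fintype.card F = q ^ 2) :
    ∀ W : Submodule F (Fin 4 → F), W ≠ ⊥ → IsTotallySingularFor (hermForm 4 F q) W →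
      IsMaximalIn (GU 4 F q ⊓ specialLinear (Fin 4) F)
        (subspaceStabilizer W ⊓ (GU 4 F q ⊓ specialLinear (Fin 4) F)) := by
  intro W hW0 hW
  obtain ⟨σ, h⟩ := isConj_of_card hF
  have hD := stdHerm_nondeg h (Fin 4)
  have hW' := Herm.isTS ((rep_herm h 4).ts.1 hW)
  refine isMaximalIn_map (su_eq h (by omega)) (comap_subspaceStabilizer W)
    (Herm.not_E_le_stab hD (by simp) hW0 ?_) fun X => hW'.E_le hD (Or.inl Herm.exists_tr)
  rintro rfl
  have := hW'.two_mul_finrank_le hD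
  simp at this

theorem su4_nd {F : Type*} [Field F] [Fintype F] (q : ℕ) (hF : Fintype.card F = q ^ 2) :
    ∀ W : Submodule F (Fin 4 → F), W ≠ ⊥ → IsNondegenerateOn (hermForm 4 F q) W →
      2 * Module.finrank F W < 4 → IsMaximalIn (GU 4 F q ⊓ specialLinear (Fin 4) F)
        (subspaceStabilizer W ⊓ (GU 4 F q ⊓ specialLinear (Fin 4) F)) := by
  intro W hW0 hW hdim
  obtain ⟨σ, h⟩ := isConj_of_card hF
  have hD := stdHerm_nondeg h (Fin 4)
  have hW' := (rep_herm h 4).nondeg.1 hW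
  have hn' : finrank F (Fin 4 → F) = 4 := by simp
  have := Submodule.one_le_finrank_iff.2 hW0
  refine isMaximalIn_map (su_eq h (by omega)) (comap_subspaceStabilizer W)
    (Herm.not_E_le_stab hD (by omega) hW0 ?_) fun X => su_E_le_nd hD hW' (by omega) (by omega)
  rintro rfl
  rw [finrank_top] at hdim; omega

theorem su4_orth2 {F : Type*} [Field F] [Fintype F] (q : ℕ) (hF : Fintype.card F = q ^ 2) :
    3 ≤ q → ∀ D : Fin 2 → Submodule F (Fin 4 → F),
      IsNondegenerateMDecomposition (hermForm 4 F q) 2 D →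
      IsMaximalIn (GU 4 F q ⊓ specialLinear (Fin 4) F)
        (decompositionStabilizer D ⊓ (GU 4 F q ⊓ specialLinear (Fin 4) F)) := by
  intro hq W hW
  obtain ⟨σ, h⟩ := isConj_of_card hF
  have hD := stdHerm_nondeg h (Fin 4)
  have h1 := (rep_herm h 4).isOrth hW
  have h3 := hW.decomp.finrank_eq
  have hn : finrank F (Fin 4 → F) = 4 := by simp
  exact isMaximalIn_map (su_eq h (by omega)) (comap_decompositionStabilizer W)
    (Herm.not_E_le_dec hD h1 (i := 0) (j := 1) (by simp) (by rw [h3]) (by rw [h3]))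
    (E_le_of_orth2 hD (by omega) h1 0 h3 (by omega))

end Cfsg.Lib.Forms
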