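import Cfsg.Agent.Lib.MaxU.FrD

/-! Frame stabilisers in `SU_4`: point stabilisers. -/

set_option autoImplicit false
set_option linter.unusedSectionVars false

namespace Cfsg.Lib.Forms

open Module Form Herm

variable {F : Type*} [Field F] {σ : F →+* F} {V : Type*} [AddCommGroup V] [Module F V]
  {q : ℕ} {h : IsConj σ q} {D : Form h.kind V} {X L : Subgroup D.isom}
  {ι : Type*} [Fintype ι] [DecidableEq ι] {b : Basis ι F V}

open Classical in
theorem IsConj.su3_card (h : IsConj σ q) {p : F} (hp : p ≠ 0) (α : F) (s : Finset F)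
    (hs : ∀ x ∈ s, x * σ x = 1) :
    s.card ≤ 2 * (s.image fun η => η * p + σ (η * p) + α).card :=
  Finset.card_le_mul_card_image s 2 fun x _ => by
    by_contra H
    obtain ⟨p₁, p₂, p₃, h1, h2, h3, h4, h5, h6⟩ := Finset.two_lt_card_iff.1 (not_le.1 H)
    have k : ∀ η ∈ s.filter fun η => η * p + σ (η * p) + α = x,
        p * η ^ 2 + (α - x) * η + σ p = 0 := fun η hη => by
      rw [Finset.mem_filter, map_mul] at hη
      linear_combination η * hη.2 - σ p * hs η hη.1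
    exact hp (quad3 (k _ h1) (k _ h2) (k _ h3) h4 h5 h6)

theorem IsConj.tr_meet (h : IsConj σ q) {p p' α : F} (hp : p ≠ 0) (hp' : p' ≠ 0) (hα : σ α = α)
    (t₀ : F) : ∃ t t' : F, t * σ t = 1 ∧ t' * σ t' = 1 ∧ t ≠ t₀ ∧
      t * p + σ (t * p) + α = t' * p' + σ (t' * p') := by
  classical
  have := h.finite
  have := Fintype.ofFinite F
  obtain ⟨s, hs, hs'⟩ := h.exists_mu
  have h1 := h.su3_card hp α (s.erase t₀) fun x hx => (hs' x).1 (Finset.mem_of_mem_erase hx)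
  have h2 := h.su3_card hp' 0 s fun x hx => (hs' x).1 hx
  have h3 := Finset.pred_card_le_card_erase (s := s) (a := t₀)
  have h4 : (Finset.univ.filter fun x : F => σ x = x).card = q := by
    rw [← h.card_fixed, Nat.card_eq_fintype_card, Fintype.card_subtype]
  set A := (s.erase t₀).image fun η => η * p + σ (η * p) + α
  set B := s.image fun η => η * p' + σ (η * p') + 0
  have h5 : (A ∪ B).card ≤ q := h4 ▸ Finset.card_le_card fun x hx => by
    simp only [A, B, Finset.mem_union, Finset.mem_image] at hx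
    rcases hx with ⟨η, -, rfl⟩ | ⟨η, -, rfl⟩ <;> simp [h.σσ, hα, add_comm]
  have h6 := Finset.card_union_add_card_inter A B
  obtain ⟨x, hx⟩ := Finset.card_pos.1 (show 0 < (A ∩ B).card by omega)
  simp only [A, B, Finset.mem_inter, Finset.mem_image, Finset.mem_erase] at hx
  obtain ⟨⟨t, ⟨t1, t2⟩, e1⟩, t', t3, e2⟩ := hx
  exact ⟨t, t', (hs' _).1 t2, (hs' _).1 t3, t1, by rw [e1, ← e2, add_zero]⟩

theorem IsConj.circ3 (h : IsConj σ q) {a b c : F} (ha : a ≠ 0) (hb : b ≠ 0) (hc : c ≠ 0)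
    (a1 : σ a = a) (b1 : σ b = b) (c1 : σ c = c) : ∃ ε₁ ε₂ ε₃ : F, ε₁ * σ ε₁ = 1 ∧ ε₂ * σ ε₂ = 1 ∧
      ε₃ * σ ε₃ = 1 ∧ ε₁ * a + ε₂ * b + ε₃ * c = 1 ∧ ε₁ ≠ ε₂ := by
  obtain ⟨t, t', h1, h2, h3, h4⟩ := h.tr_meet (p := a * b) (p' := -c) (α := a ^ 2 + b ^ 2 - 1 - c ^ 2)
    (mul_ne_zero ha hb) (neg_ne_zero.2 hc) (by simp [a1, b1, c1]) 1
  simp only [map_mul, map_neg, a1, b1, c1] at h4
  have h5 : (t * a + b) * σ (t * a + b) = (1 - t' * c) * σ (1 - t' * c) := by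
    simp only [map_add, map_sub, map_mul, map_one, a1, b1, c1]
    linear_combination h4 + a ^ 2 * h1 - c ^ 2 * h2
  obtain ⟨ε, e1, e2⟩ : ∃ ε : F, ε * σ ε = 1 ∧ ε * (t * a + b) = 1 - t' * c := by
    by_cases h0 : t * a + b = 0
    · rw [h0, zero_mul, eq_comm, mul_eq_zero, map_eq_zero, or_self] at h5
      exact ⟨1, by simp, by rw [h0, h5, mul_zero]⟩
    · have := (map_ne_zero σ).2 h0
      exact ⟨(1 - t' * c) / (t * a + b), by rw [map_div₀]; field_simp; linear_combination -h5,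
        div_mul_cancel₀ _ h0⟩
  exact ⟨ε * t, ε, t', norm_mul_one e1 h1, e1, h2, by linear_combination e2, fun H =>
    h3 (mul_left_cancel₀ (left_ne_zero_of_mul_eq_one e1) (by rw [H, mul_one]))⟩

theorem su3_sum4 {M : Type*} [AddCommMonoid M] (hn : Fintype.card ι = 4) {i₁ i₂ i₃ i₄ : ι}
    (n1 : i₁ ≠ i₂) (n2 : i₁ ≠ i₃) (n3 : i₁ ≠ i₄) (n4 : i₂ ≠ i₃) (n5 : i₂ ≠ i₄) (n6 : i₃ ≠ i₄)
    (f : ι → M) : ∑ j, f j = f i₁ + f i₂ + f i₃ + f i₄ := by
  have : ({i₁, i₂, i₃, i₄} : Finset ι) = Finset.univ := Finset.eq_univ_of_card _ (by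
    rw [hn, Finset.card_insert_of_notMem (by simp [n1, n2, n3]),
      Finset.card_insert_of_notMem (by simp [n4, n5]), Finset.card_pair n6])
  rw [← this, Finset.sum_insert (by simp [n1, n2, n3]), Finset.sum_insert (by simp [n4, n5]),
    Finset.sum_pair n6, add_assoc, add_assoc]

namespace ONB

variable (hb : ONB D b) [FiniteDimensional F V]
include hb

section
variable {k : ι} (hL : ∀ g ∈ frm D b, ∀ c : F, g.1 (b k) = c • b k → g ∈ L)
include hL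

theorem win3 (hn : Fintype.card ι = 4) {u : V} (hu : D.Q u = 1) (uk : D.B (b k) u = 0) (hT : Rk L u)
    {i₁ i₂ i₃ : ι} (h1 : D.B (b i₁) u ≠ 0) (h2 : D.B (b i₂) u ≠ 0) (h3 : D.B (b i₃) u ≠ 0)
    (n1 : i₁ ≠ i₂) (n2 : i₁ ≠ i₃) (n4 : i₂ ≠ i₃) : D.Full L (D.perp (F ∙ b k)) := by
  have N : ∀ {a : F}, a ≠ 0 → a * σ a ≠ 0 := fun ha => mul_ne_zero ha ((map_ne_zero σ).2 ha)
  have N' : ∀ a : F, σ (a * σ a) = a * σ a := fun a => by rw [map_mul, h.σσ, mul_comm]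
  have nk : ∀ {i}, D.B (b i) u ≠ 0 → i ≠ k := fun hi => by rintro rfl; exact hi uk
  obtain ⟨ε₁, ε₂, ε₃, e1, e2, e3, e5, e6⟩ := h.circ3 (N h1) (N h2) (N h3) (N' _) (N' _) (N' _)
  have hs := hu
  rw [Q_eq, hb.B_sum, su3_sum4 hn n1 n2 (nk h1) n4 (nk h2) (nk h3), uk] at hs
  have R := fun i ε (hε : ε * σ ε = 1) => hb.rk_b hL i _ (isRk1_unit (hb.Q_b i) hε)
  have hg := mul_mem (mul_mem (R i₁ _ e1) (R i₂ _ e2)) (R i₃ _ e3)
  obtain ⟨z, hz⟩ : ∃ z, z = ((ε₁ - 1) * D.B (b i₁) u) • b i₁ + ((ε₂ - 1) * D.B (b i₂) u) • b i₂ +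
    ((ε₃ - 1) * D.B (b i₃) u) • b i₃ := ⟨_, rfl⟩
  have h5 := hT.conj hg
  have h6 := Q_isom (D.rk1 _ _ (isRk1_unit (hb.Q_b i₁) e1) * D.rk1 _ _ (isRk1_unit (hb.Q_b i₂) e2) *
    D.rk1 _ _ (isRk1_unit (hb.Q_b i₃) e3)) u
  rw [show (_ : D.isom).1 u = u + z by
    simp only [hz, isom_mul_apply, rk1_apply, D.B_lin, hb.ne n1, hb.ne n2, hb.ne n4]
    module] at h5 h6
  have h7 : D.B u z = 0 := by
    simp only [hz, D.B_lin, B_symm D (b _) u]; linear_combination e5 - hs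
  have h8 : D.Q z = 0 := by simpa [D.Q_add_of_B h7] using h6
  obtain ⟨h9, h10⟩ := rk_of_degenerate hu h8 h7 hT h5
  have z0 : z ≠ 0 := fun h0 => by
    have a1 := congrArg (D.B (b i₁)) (hz.symm.trans h0)
    have a2 := congrArg (D.B (b i₂)) (hz.symm.trans h0)
    simp [hb.self, hb.ne, n1, n2, n4, n1.symm, h1, h2, sub_eq_zero] at a1 a2
    simp [a1, a2] at e6
  have zk : D.B (b k) z = 0 := by
    have : ∀ i, D.B (b i) u ≠ 0 → D.B (b k) (b i) = 0 := fun i hi => hb.ne (nk hi).symm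
    simp [hz, this, h1, h2, h3]
  obtain ⟨i, hi⟩ := hb.exists_ne z0
  obtain ⟨j, ji, hj⟩ : ∃ j, j ≠ i ∧ D.B (b j) z ≠ 0 := by
    by_contra! H
    rw [Q_eq, hb.B_sum, Fintype.sum_eq_single i fun j hj => by simp [H j hj]] at h8
    simp [hi] at h8
  exact hb.win hL h8 zk h9 ji.symm hi hj
    (Or.inr ⟨u, by simp [hu], D.eq_zero_symm h7, uk, h10⟩)

theorem win2' (hn : Fintype.card ι = 4) {u : V} (hu : D.Q u = 1)
    (uk : D.B (b k) u = 0) (hT : Rk L u) (h2 : 2 ≤ (sp D b u).card) :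
    D.Full L (D.perp (F ∙ b k)) := by
  obtain ⟨i, hi, j, hj, hij⟩ := Finset.one_lt_card.1 h2
  rw [mem_sp] at hi hj
  obtain ⟨m, mi, mj, mk⟩ := Fr.exists_ne3 hn.ge i j k
  by_cases hm : D.B (b m) u = 0
  swap
  · exact hb.win3 hL hn hu uk hT hi hj hm hij mi.symm mj.symm
  have hq : q ≠ 2 := by
    rintro rfl
    have nk : ∀ {i}, D.B (b i) u ≠ 0 → i ≠ k := fun hi => by rintro rfl; exact hi uk
    have k1 : ∀ {a : F}, a ≠ 0 → σ a * a = 1 := fun {a} ha => by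
      have := h.apply (σ a * a)
      rw [map_mul, h.σσ] at this
      exact mul_left_cancel₀ (mul_ne_zero ((map_ne_zero σ).2 ha) ha) (by linear_combination -this)
    rw [Q_eq, hb.B_sum, su3_sum4 hn hij mi.symm (nk hi) mj.symm (nk hj) mk, uk, hm, k1 hi, k1 hj] at hu
    simp at hu
  obtain ⟨v, v1, v2, v3, v4, v5⟩ := hb.grow hL hq hu uk hT hij hi hj hm mk
  exact hb.win3 hL hn v1 v2 v3 (v5 i hi) (v5 j hj) v4 hij mi.symm mj.symm

end

variable (hn : Fintype.card ι = 4) (hE : X ≤ D.E) (hX : D.E ⊓ frm D b ≤ X) (hW : ¬ D.E ≤ X)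
include hn hE hX hW

theorem stab_mono4 {g : D.isom} (hg : g ∈ X) {k : ι} {c : F} (hk : g.1 (b k) = c • b k) :
    g ∈ frm D b := mem_frm.2 fun j => by
  by_cases jk : j = k
  · exact ⟨k, c, jk ▸ hk⟩
  have hL := fun g hg c => hb.mem_agr (by omega) hX (g := g) hg (k := k) (c := c)
  have h1 : g ∈ agr X (D.perp (F ∙ b k)) := ⟨hb.mem_stab hk, g, hg, fun _ _ => rfl⟩
  refine hb.eq_smul_of_card (not_lt.1 fun H => hW (hb.E_le_of_full (by omega) hE hX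
    (hb.win2' hL hn (by simp [hb.Q_b]) ?_ ((hb.rk_b hL j).conj h1) H))) j
  exact D.mem_perp_span_singleton.1 (stab_mem h1.1 (D.mem_perp_span_singleton.2 (hb.ne (Ne.symm jk))))

theorem mem_of_map4 {g : D.isom} (hg : g ∈ X) {l k : ι} {c : F} (hk : g.1 (b l) = c • b k) :
    g ∈ frm D b := by
  by_cases lk : k = l
  · exact hb.stab_mono4 hn hE hX hW hg (lk ▸ hk)
  have h6 : (1 : F) * σ 1 = 1 := by simp
  obtain ⟨a, ha, h3⟩ := hb.exists_fix (by omega) (hb.sw_mem lk h6) l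
  refine (Subgroup.mul_mem_cancel_left (frm D b) h3.2).1 (hb.stab_mono4 hn hE hX hW
    (mul_mem (hX h3) hg) (k := l) (c := c) ?_)
  rw [isom_mul_apply, hk, map_smul, isom_mul_apply, D.rk1_apply_of_perp _ _ (hb.ne (Ne.symm lk)),
    hb.sw_left, one_smul]

theorem frame_map4 {g y : D.isom} (hg : g ∈ X) (hy : y ∈ X) {l : ι}
    (H : y.1 (g.1 (b l)) = g.1 (b l)) (m : ι) : ∃ m', ∃ c : F, y.1 (g.1 (b m)) = c • g.1 (b m') := by
  obtain ⟨m', c, hc⟩ := mem_frm.1 (hb.stab_mono4 hn hE hX hW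
    (mul_mem (mul_mem (inv_mem hg) hy) hg) (k := l) (c := 1) (by simp [isom_mul_apply, H])) m
  exact ⟨m', c, by rw [← map_smul, ← hc]; simp [isom_mul_apply]⟩

end ONB

end Cfsg.Lib.Forms
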