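import Cfsg.Agent.Lib.K4.Su3a

/-! Frame stabilisers in `SU_4`: vectors of full support. -/

set_option autoImplicit false
set_option linter.unusedSectionVars false

namespace Cfsg.Lib.Forms

open Module Form Herm

variable {F : Type*} [Field F] {σ : F →+* F} {V : Type*} [AddCommGroup V] [Module F V]
  {q : ℕ} {h : IsConj σ q} {D : Form h.kind V} {X L : Subgroup D.isom}
  {ι : Type*} [Fintype ι] [DecidableEq ι] {b : Basis ι F V}

theorem IsConj.exists_mu_four (h : IsConj σ q) (hq : q ≠ 3) : ∃ s : F, s * σ s = 1 ∧ s ^ 4 ≠ 1 := by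
  classical
  by_cases h2 : q = 2
  · obtain ⟨s, hs, s1, -⟩ := h.exists_mu3 1 1
    refine ⟨s, hs, fun H => s1 ?_⟩
    rw [h.norm_eq, h2] at hs
    linear_combination H - s * hs
  by_contra! H
  obtain ⟨s, hs, hs'⟩ := h.exists_mu
  have h3 : s.card ≤ 4 := by
    refine (Finset.card_le_card (t := (Polynomial.nthRoots 4 (1 : F)).toFinset)
      fun x hx => ?_).trans ((Multiset.toFinset_card_le _).trans (Polynomial.card_nthRoots _ _))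
    rw [Multiset.mem_toFinset, Polynomial.mem_nthRoots (by omega)]
    exact H x ((hs' x).1 hx)
  have := h.two_le
  omega

theorem IsConj.su3_arith (h : IsConj σ q) (hq : q ≠ 3) {v₁ v₂ v₃ v₄ : F} (h1 : v₁ ≠ 0) (h2 : v₂ ≠ 0)
    (h3 : v₃ ≠ 0) (h4 : v₄ ≠ 0) (hs : σ v₁ * v₁ + σ v₂ * v₂ + σ v₃ * v₃ + σ v₄ * v₄ = 1)
    (H : ∀ t₁ t₂ t₃ t₄ r₁ r₂ r₃ r₄ : F, t₁ * σ t₁ = 1 → t₂ * σ t₂ = 1 → t₃ * σ t₃ = 1 →
      t₄ * σ t₄ = 1 → r₁ * σ r₁ = 1 → r₂ * σ r₂ = 1 → r₃ * σ r₃ = 1 → r₄ * σ r₄ = 1 →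
      t₁ * t₂ * t₃ * t₄ = 1 → r₁ * r₂ * r₃ * r₄ = 1 →
      σ v₁ * (t₁ * v₂) + σ v₂ * (t₂ * v₁) + σ v₃ * (t₃ * v₄) + σ v₄ * (t₄ * v₃) = 0 →
      σ v₁ * (r₁ * v₂) + σ v₂ * (r₂ * v₁) + σ v₃ * (r₃ * v₄) + σ v₄ * (r₄ * v₃) = 0 →
      (∃ a, r₁ = a * t₁ ∧ r₃ = a * t₃) ∨ σ (t₁ * v₂) * (r₁ * v₂) + σ (t₂ * v₁) * (r₂ * v₁) +
        σ (t₃ * v₄) * (r₃ * v₄) + σ (t₄ * v₃) * (r₄ * v₃) = 0) : False := by
  have S : ∀ t₁ t₂ t₃ t₄ : F, t₁ * σ t₁ = 1 → t₂ * σ t₂ = 1 → t₃ * σ t₃ = 1 → t₄ * σ t₄ = 1 →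
      t₁ * t₂ * t₃ * t₄ = 1 → σ v₁ * (t₁ * v₂) + σ v₂ * (t₂ * v₁) = 0 →
      σ v₃ * (t₃ * v₄) + σ v₄ * (t₄ * v₃) = 0 → False := fun t₁ t₂ t₃ t₄ e1 e2 e3 e4 e5 e6 e7 => by
    have k : ∀ s : F, s * σ s = 1 → s ^ 4 ≠ 1 →
        s * (σ v₁ * v₁ + σ v₂ * v₂) + σ s * (σ v₃ * v₃ + σ v₄ * v₄) = 0 := fun s s1 s2 => by
      rcases H t₁ t₂ t₃ t₄ (s * t₁) (s * t₂) (σ s * t₃) (σ s * t₄) e1 e2 e3 e4 (norm_mul_one s1 e1)
        (norm_mul_one s1 e2) (norm_mul_one (h.norm_σ s1) e3) (norm_mul_one (h.norm_σ s1) e4) e5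
        (by linear_combination (s * σ s) ^ 2 * e5 + (s * σ s + 1) * s1)
        (by linear_combination e6 + e7) (by linear_combination s * e6 + σ s * e7) with ⟨a, a1, a2⟩ | H
      · have a3 := mul_right_cancel₀ (left_ne_zero_of_mul_eq_one e1) a1
        have a4 := mul_right_cancel₀ (left_ne_zero_of_mul_eq_one e3) a2
        rw [a4, ← a3] at s1
        exact (s2 (by linear_combination (s * s + 1) * s1)).elim
      · simp only [map_mul] at H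
        linear_combination H - s * σ v₂ * v₂ * e1 - s * σ v₁ * v₁ * e2 - σ s * σ v₄ * v₄ * e3 -
          σ s * σ v₃ * v₃ * e4
    obtain ⟨s, s1, s2⟩ := h.exists_mu_four hq
    have k1 := k s s1 s2
    have k2 := k (σ s) (h.norm_σ s1) fun H => s2 (by rw [← h.σσ s, ← map_pow, H, map_one])
    rw [h.σσ] at k2
    have k3 : s + σ s = 0 := by linear_combination k1 + k2 - (s + σ s) * hs
    exact s2 (by linear_combination (s ^ 2 - 1) * s * k3 - (s ^ 2 - 1) * s1)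
  have p0 := mul_ne_zero ((map_ne_zero σ).2 h1) h2
  have p1 := mul_ne_zero ((map_ne_zero σ).2 h3) h4
  obtain ⟨η, η', e1, e2, -, e3⟩ := h.tr_meet p0 (neg_ne_zero.2 p1) (map_zero σ) 0
  simp only [map_mul, map_neg, h.σσ] at e3
  by_cases e4 : σ v₁ * (η * v₂) + σ v₂ * (σ η * v₁) = 0
  · exact S η (σ η) η' (σ η') e1 (h.norm_σ e1) e2 (h.norm_σ e2)
      (by linear_combination (η' * σ η') * e1 + e2) e4 (by linear_combination e3 - e4)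
  have e5 : σ v₁ * (η * v₂) + σ v₂ * (σ η * v₁) + σ v₃ * (η' * v₄) + σ v₄ * (σ η' * v₃) = 0 := by
    linear_combination e3
  have T : ∀ {x y η : F}, x ≠ 0 → y ≠ 0 → η * σ η = 1 → σ x * (η * y) + σ y * (σ η * x) ≠ 0 →
      (∀ ρ : F, ρ * σ ρ = 1 → ρ ≠ η →
        σ x * (ρ * y) + σ y * (σ ρ * x) = σ x * (η * y) + σ y * (σ η * x) →
        (σ η * ρ - η * σ ρ) * (σ y * y - σ x * x) = 0) →
      ∃ κ : F, κ * σ κ = 1 ∧ σ x * (-κ * y) + σ y * (σ κ * x) = 0 := fun {x y η} x0 y0 e1 e2 H => by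
    have x1 := (map_ne_zero σ).2 x0
    have y1 := (map_ne_zero σ).2 y0
    obtain ⟨ρ, hρ⟩ : ∃ ρ, ρ = σ η * (σ y * x) / (σ x * y) := ⟨_, rfl⟩
    have r1 : σ ρ = η * (y * σ x) / (x * σ y) := by simp [hρ, h.σσ]
    have r2 : ρ * (σ x * y) = σ η * (σ y * x) := by rw [hρ]; field_simp
    have r3 : σ ρ * (x * σ y) = η * (y * σ x) := by rw [r1]; field_simp
    by_cases r4 : ρ = η
    · exact ⟨η, e1, by rw [r4] at r2; linear_combination -r2⟩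
    rcases mul_eq_zero.1 (H ρ (by rw [r1, hρ]; field_simp; linear_combination e1) r4
      (by linear_combination r2 + r3)) with r5 | r5
    · have r6 : (ρ - η) * (ρ + η) = 0 := by
        have r7 : ρ * σ ρ = 1 := by rw [r1, hρ]; field_simp; linear_combination e1
        linear_combination η * ρ * r5 + η ^ 2 * r7 - ρ ^ 2 * e1
      have r7 := (mul_eq_zero.1 r6).resolve_left (sub_ne_zero.2 r4)
      exact (e2 (by linear_combination (σ x * y) * r7 - r2)).elim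
    · refine ⟨x / y, by rw [map_div₀]; field_simp; linear_combination -r5, ?_⟩
      rw [map_div₀]; field_simp; ring
  obtain ⟨κ, k1, k2⟩ := T h1 h2 e1 e4 fun ρ r1 r2 r3 => by
    have A := fun {η ρ : F} (e1 : η * σ η = 1) (r1 : ρ * σ ρ = 1) (r2 : ρ ≠ η) a1 a2 =>
      (H η (σ η) η' (σ η') ρ (σ ρ) η' (σ η') e1 (h.norm_σ e1) e2 (h.norm_σ e2) r1 (h.norm_σ r1) e2
        (h.norm_σ e2) (by linear_combination (η' * σ η') * e1 + e2)
        (by linear_combination (η' * σ η') * r1 + e2) a1 a2).resolve_left fun ⟨a, a3, a4⟩ => r2 (by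
          rw [a3, ← mul_right_cancel₀ (left_ne_zero_of_mul_eq_one e2) ((one_mul _).trans a4), one_mul])
    have A1 := A e1 r1 r2 e5 (by linear_combination e5 + r3)
    have A2 := A r1 e1 r2.symm (by linear_combination e5 + r3) e5
    simp only [map_mul, h.σσ] at A1 A2
    linear_combination A1 - A2
  obtain ⟨κ', k3, k4⟩ := T h3 h4 e2 (fun H => e4 (by linear_combination e5 - H)) fun ρ r1 r2 r3 => by
    have A := fun {η' ρ : F} (e2 : η' * σ η' = 1) (r1 : ρ * σ ρ = 1) (r2 : ρ ≠ η') a1 a2 =>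
      (H η (σ η) η' (σ η') η (σ η) ρ (σ ρ) e1 (h.norm_σ e1) e2 (h.norm_σ e2) e1 (h.norm_σ e1) r1
        (h.norm_σ r1) (by linear_combination (η' * σ η') * e1 + e2)
        (by linear_combination (ρ * σ ρ) * e1 + r1) a1 a2).resolve_left fun ⟨a, a3, a4⟩ => r2 (by
          rw [a4, ← mul_right_cancel₀ (left_ne_zero_of_mul_eq_one e1) ((one_mul _).trans a3), one_mul])
    have A1 := A e2 r1 r2 e5 (by linear_combination e5 + r3)
    have A2 := A r1 e2 r2.symm (by linear_combination e5 + r3) e5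
    simp only [map_mul, h.σσ] at A1 A2
    linear_combination A1 - A2
  exact S (-κ) (σ κ) (-κ') (σ κ') (by simpa using k1) (h.norm_σ k1) (by simpa using k3) (h.norm_σ k3)
    (by linear_combination (κ' * σ κ') * k1 + k3) k2 k4

namespace ONB

variable (hb : ONB D b) [FiniteDimensional F V]
include hb

theorem le_frm4 (hq : q ≠ 3) (hn : Fintype.card ι = 4) (hX : D.E ⊓ frm D b ≤ X)
    (hz : ∀ g ∈ X, g ∉ frm D b → ∀ l a, D.B (b a) (g.1 (b l)) ≠ 0) : X ≤ frm D b := fun g hg => by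
  by_contra hg'
  obtain ⟨i₁, -, i₂, -, i₃, -, i₄, -, n1, n2, n3, n4, n5, n6⟩ :=
    Finset.three_lt_card.1 (show 3 < (Finset.univ : Finset ι).card by rw [Finset.card_univ]; omega)
  have hv := hz g hg hg' i₁
  have h6 : (1 : F) * σ 1 = 1 := by simp
  have sum := fun x y => (hb.B_sum x y).trans (su3_sum4 hn n1 n2 n3 n4 n5 n6 _)
  have k : ∀ t₁ t₂ t₃ t₄ : F, t₁ * σ t₁ = 1 → t₂ * σ t₂ = 1 → t₃ * σ t₃ = 1 → t₄ * σ t₄ = 1 →
      t₁ * t₂ * t₃ * t₄ = 1 → ∃ k ∈ D.E ⊓ frm D b, ∀ x, D.B (b i₁) (k.1 x) = t₁ * D.B (b i₂) x ∧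
        D.B (b i₂) (k.1 x) = t₂ * D.B (b i₁) x ∧ D.B (b i₃) (k.1 x) = t₃ * D.B (b i₄) x ∧
        D.B (b i₄) (k.1 x) = t₄ * D.B (b i₃) x := fun t₁ t₂ t₃ t₄ e1 e2 e3 e4 e5 => by
    refine ⟨hb.dg _ (tt_norm (t := fun _ => 1) (i₁ := i₁) (i₂ := i₂) (i₃ := i₃) (i₄ := i₄)
      (fun _ => h6) e1 e2 e3 e4) * (hb.sw n1 h6 * hb.sw n6 h6), ⟨hb.mem_E' (by omega) ?_,
      mul_mem (hb.dg_mem _ _) (mul_mem (hb.sw_mem _ _) (hb.sw_mem _ _))⟩, fun x => ?_⟩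
    · simp [hb.det_dg, hb.det_sw, prod_tt n1 n2 n3 n4 n5 n6, e5]
    · simp only [isom_mul_apply, hb.co_dg, hb.co_sw]
      simp [tt, n1, n2, n3, n4, n5, n6, n1.symm, n2.symm, n3.symm, n4.symm, n5.symm, n6.symm,
        Equiv.swap_apply_of_ne_of_ne]
  have fr : ∀ k ∈ D.E ⊓ frm D b, D.B (g.1 (b i₁)) (k.1 (g.1 (b i₁))) = 0 →
      ∃ m, ∃ c : F, k.1 (g.1 (b i₁)) = c • g.1 (b m) := fun k hk H => by
    have h2 : g⁻¹ * k * g ∈ frm D b := by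
      by_contra h2
      exact hz _ (mul_mem (mul_mem (inv_mem hg) (hX hk)) hg) h2 i₁ i₁
        (by rwa [isom_mul_apply, isom_mul_apply, ← B_isom_left])
    obtain ⟨m, c, hc⟩ := mem_frm.1 h2 i₁
    exact ⟨m, c, by rw [← map_smul, ← hc]; simp [isom_mul_apply]⟩
  refine h.su3_arith hq (hv i₁) (hv i₂) (hv i₃) (hv i₄) (by rw [← sum, B_isom, hb.self])
    fun t₁ t₂ t₃ t₄ r₁ r₂ r₃ r₄ e1 e2 e3 e4 f1 f2 f3 f4 e5 f5 e6 f6 => ?_
  obtain ⟨k₁, a1, a2⟩ := k _ _ _ _ e1 e2 e3 e4 e5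
  obtain ⟨k₂, b1, b2⟩ := k _ _ _ _ f1 f2 f3 f4 f5
  obtain ⟨a3, a4, a5, a6⟩ := a2 (g.1 (b i₁))
  obtain ⟨b3, b4, b5, b6⟩ := b2 (g.1 (b i₁))
  obtain ⟨m, c, hc⟩ := fr k₁ a1 (by rw [sum, a3, a4, a5, a6, e6])
  obtain ⟨m', c', hc'⟩ := fr k₂ b1 (by rw [sum, b3, b4, b5, b6, f6])
  refine (hb.eq_or_B hc hc' (by simpa using b.ne_zero i₁)).imp (fun ⟨a, ha⟩ => ⟨a, ?_, ?_⟩)
    fun H => by rwa [sum, a3, a4, a5, a6, b3, b4, b5, b6] at H
  · rw [ha, D.B_smul_right, a3] at b3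
    exact mul_right_cancel₀ (hv i₂) (by linear_combination -b3)
  · rw [ha, D.B_smul_right, a5] at b5
    exact mul_right_cancel₀ (hv i₄) (by linear_combination -b5)

end ONB

end Cfsg.Lib.Forms
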