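import Cfsg.Agent.Lib.K4.Su1

/-! Maximal subgroups of `SU_4`: two complementary totally isotropic planes. -/

set_option autoImplicit false
set_option linter.unusedSectionVars false

namespace Cfsg.Lib.Forms

open Module Form Herm

variable {F V : Type*} [Field F] [AddCommGroup V] [Module F V] [FiniteDimensional F V]
  {σ : F →+* F} {q : ℕ} {hc : IsConj σ q} {D : Form hc.kind V} {X : Subgroup D.isom}

theorem IsConj.su5_fixed (hc : IsConj σ q) (hq : 4 ≤ q) (a b : F) :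
    ∃ r : F, σ r = r ∧ r ≠ 0 ∧ r ≠ a ∧ r ≠ b := by
  classical
  have := hc.finite
  by_contra! H
  have h1 := hc.card_fixed_ne_zero
  have h2 : Nat.card {x : F // x ≠ 0 ∧ σ x = x} ≤ Nat.card ({a, b} : Finset F) :=
    Nat.card_le_card_of_injective (fun x => ⟨x.1, by
      by_cases h : x.1 = a
      · simp [h]
      · simp [H _ x.2.2 x.2.1 h]⟩) fun x y h => Subtype.ext (by simpa using h)
  have h3 : ({a, b} : Finset F).card ≤ 2 := Finset.card_le_two
  rw [Nat.card_eq_fintype_card (α := ({a, b} : Finset F)), Fintype.card_coe] at h2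
  omega

namespace Su5

/-- `X` contains the Eichler map of `e, z`. -/
def PE (X : Subgroup D.isom) (e z : V) : Prop :=
  ∃ k ∈ X, ∀ w, k.1 w = w + D.B z w • e - D.B e w • z

/-- `X` contains a product of two commuting transvections. -/
def TT (X : Subgroup D.isom) (u b : V) (α β γ δ : F) : Prop :=
  ∃ k ∈ X, ∀ w, k.1 w = w + (α * D.B u w + γ * D.B b w) • u + (δ * D.B u w + β * D.B b w) • b

theorem PE.conj {e z : V} (H : PE X e z) {g : D.isom} (hg : g ∈ X) : PE X (g.1 e) (g.1 z) := by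
  obtain ⟨k, hk, H⟩ := H
  refine ⟨g * k * g⁻¹, mul_mem (mul_mem hg hk) (inv_mem hg), fun w => ?_⟩
  simp [isom_mul_apply, H, B_isom_left]

theorem TT.sub {u b : V} (huu : D.B u u = 0) (hub : D.B u b = 0) (hbb : D.B b b = 0)
    {α β γ δ α' β' γ' δ' : F} (H : TT X u b α β γ δ) (H' : TT X u b α' β' γ' δ') :
    TT X u b (α - α') (β - β') (γ - γ') (δ - δ') := by
  obtain ⟨k, hk, H⟩ := H
  obtain ⟨k', hk', H'⟩ := H'
  refine ⟨k * k'⁻¹, mul_mem hk (inv_mem hk'), fun w => ?_⟩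
  obtain ⟨w, rfl⟩ := k'.1.surjective w
  have hbu := D.eq_zero_symm hub
  rw [isom_mul_apply, isom_inv_apply, H, H']
  simp only [D.B_lin, huu, hub, hbb, hbu]
  module

theorem TT.conj {u b : V} {α β : F} (H : TT X u b α β 0 0) {g : D.isom} (hg : g ∈ X) {r : F}
    (h1 : g.1 u = u) (h2 : g.1 b = r • b) : TT X u b α (r * σ r * β) 0 0 := by
  obtain ⟨k, hk, H⟩ := H
  refine ⟨g * k * g⁻¹, mul_mem (mul_mem hg hk) (inv_mem hg), fun w => ?_⟩
  simp only [isom_mul_apply, H, ← B_isom_left, map_add, map_smul, isom_apply_inv, h1, h2, D.B_lin]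
  module

variable {W W' : Submodule F V} (h : D.IsDual W W') (ht : W ⊔ W' = ⊤) (hD : D.Nondeg)
  (h2 : finrank F W = 2) (h1 : D.E ⊓ (D.stab W ⊓ D.stab W') ≤ X)
include h

theorem torus (hD : D.Nondeg) {e f : V} (he : e ∈ W) (hf : f ∈ W') (hef : D.B e f = 1) {c : F}
    (c0 : c ≠ 0) : ∃ g ∈ D.stab W ⊓ D.stab W', g.1 e = c • e ∧ g.1 f = (σ c)⁻¹ • f ∧
      (∀ w, D.B e w = 0 → D.B f w = 0 → g.1 w = w) ∧ (D.det g : F) = c * (σ c)⁻¹ := by
  have H : D.IsHyp e f := ⟨h.left.Q_eq e he, h.right.Q_eq f hf, hef⟩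
  obtain ⟨g, a1, a2, a3⟩ := H.exists_torus hD c0
  have a4 : ∀ w, D.B e w = 0 → D.B f w = 0 → g.1 w = w := fun w h1 h2 => a3 w (D.mem_hp.2 ⟨h1, h2⟩)
  have hfe : D.B f e = 1 := by rw [B_symm, hef, map_one]
  refine ⟨g, ⟨D.mem_stab_of_mapsTo fun w hw => ?_, D.mem_stab_of_mapsTo fun w hw => ?_⟩, a1, a2, a4,
    H.det_torus a1 a2 a3⟩
  · have := a4 (w - D.B f w • e) (by simp [h.left.B_eq _ he _ hw, h.left.B_eq _ he _ he])
      (by simp [hfe])
    rw [map_sub, map_smul, a1, sub_eq_iff_eq_add] at this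
    rw [this]
    exact add_mem (sub_mem hw (W.smul_mem _ he)) (W.smul_mem _ (W.smul_mem _ he))
  · have := a4 (w - D.B e w • f) (by simp [hef])
      (by simp [h.right.B_eq _ hf _ hw, h.right.B_eq _ hf _ hf])
    rw [map_sub, map_smul, a2, sub_eq_iff_eq_add] at this
    rw [this]
    exact add_mem (sub_mem hw (W'.smul_mem _ hf)) (W'.smul_mem _ (W'.smul_mem _ hf))

include ht hD h2

theorem three : 3 ≤ finrank F V := by
  have f1 := h.finrank_sup hD
  rw [ht, finrank_top] at f1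
  omega

omit ht hD in
theorem mem_span {u a b : V} (hu : u ∈ W) (u0 : u ≠ 0) (ha : a ∈ W) (hb : b ∈ W') (b0 : b ≠ 0)
    (hub : D.B u b = 0) (hab : D.B a b = 0) : a ∈ F ∙ u := by
  by_contra H
  have e : (F ∙ u) ⊔ (F ∙ a) = W := Submodule.eq_of_le_of_finrank_eq
    (sup_le ((Submodule.span_singleton_le_iff_mem _ _).2 hu)
      ((Submodule.span_singleton_le_iff_mem _ _).2 ha)) (by rw [finrank_two u0 H, h2])
  refine b0 (Submodule.disjoint_def.1 h.disj' b hb ?_)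
  rw [← e, mem_perp_sup_span, mem_perp_span_singleton]
  exact ⟨hub, hab⟩

include h1

theorem all_of_one {u w : V} (hu : u ∈ W) (u0 : u ≠ 0) (hw : w ∈ W) (huw : w ∉ F ∙ u) {κ : F}
    (κ0 : κ ≠ 0) (hz : κ • w ∈ zSet X u (h.left.Q_eq u hu)) (c : F) :
    c • w ∈ zSet X u (h.left.Q_eq u hu) := by
  have hwu : u ∉ F ∙ w := by simpa using exchange_span (W := ⊥) (by simpa using u0) (by simpa)
  obtain ⟨f, f1, f2, f3⟩ := h.exists_B_eq ht hD ((Submodule.span_singleton_le_iff_mem _ _).2 hw) hu hwu 1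
  obtain ⟨f', g1, g2, g3⟩ := h.exists_B_eq ht hD ((Submodule.span_singleton_le_iff_mem _ _).2 hu) hw huw 1
  rw [mem_perp_span_singleton] at f2 g2
  refine su_all_smul _ κ0 hz (fun s t s0 t0 hst => ?_) c
  obtain ⟨k, k1, k2, -, k3, k4⟩ := torus h hD hu f1 (by rw [B_symm, f3, map_one]) s0
  obtain ⟨k', l1, l2, -, l3, l4⟩ := torus h hD hw g1 (by rw [B_symm, g3, map_one]) t0
  refine ⟨k * k', h1 ⟨(mem_E hD (three h ht hD h2)).2 (Units.ext ?_), mul_mem k1 l1⟩, ?_, ?_⟩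
  · rw [map_mul, Units.val_mul, k4, l4]
    have := (map_ne_zero σ).2 s0
    have := (map_ne_zero σ).2 t0
    rw [map_mul] at hst
    simp only [Units.val_one]
    field_simp; exact hst.symm
  · rw [isom_mul_apply, l3 u (h.left.B_eq _ hw _ hu) (D.eq_zero_symm g2), k2]
  · rw [isom_mul_apply, l2, map_smul, k3 w (h.left.B_eq _ hu _ hw) (D.eq_zero_symm f2)]

omit h2 ht hD in
theorem pe {u b : V} (hu : u ∈ W) (hb : b ∈ W') (hub : D.B u b = 0) : PE X u b :=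
  ⟨_, h1 ⟨eich_mem_E _ _ _ (h.isEich hu hb hub), h.eich_mem_stab hu hb _⟩, fun w => by
    simp [eich_apply]⟩

variable (hZ' : ∀ u (hu : u ∈ W'), u ≠ 0 → ∀ w ∈ W',
  (∀ c : F, c • w ∈ zSet X u (h.right.Q_eq u hu)) → w ∈ F ∙ u)
include hZ'

theorem tt_right (hq : 4 ≤ q) {u b : V} (hu : u ∈ W) (hb : b ∈ W') (b0 : b ≠ 0)
    (hub : D.B u b = 0) {α β : F} (H : TT X u b α β 0 0) : β = 0 := by
  have ht' : W' ⊔ W = ⊤ := by rwa [sup_comm]
  have h1' : D.E ⊓ (D.stab W' ⊓ D.stab W) ≤ X := by rwa [inf_comm (D.stab W')]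
  have h2' : finrank F W' = 2 := by rw [← h.finrank_eq hD, h2]
  obtain ⟨b', b1, b2⟩ := exists_not_mem_of_finrank_lt (U := W') (W := F ∙ b) (by
    have := finrank_span_singleton_le (F := F) b; omega)
  have b3 : b ∉ F ∙ b' := by simpa using exchange_span (W := ⊥) (by simpa using b0) (by simpa)
  have b4 : b' ≠ 0 := by rintro rfl; simp at b2
  obtain ⟨a, a1, a2, a3⟩ := h.symm.exists_B_eq ht' hD
    ((Submodule.span_singleton_le_iff_mem _ _).2 b1) hb b3 1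
  rw [mem_perp_span_singleton] at a2
  have a4 : D.B b a = 1 := by rw [B_symm, a3, map_one]
  obtain ⟨r, r1, r0, r2, r3⟩ := hc.su5_fixed hq 1 (-1)
  obtain ⟨g, g1, g2, -, g3, g4⟩ := torus h.symm hD hb a1 a4 r0
  have gX : g ∈ X := h1' ⟨(mem_E hD (three h ht hD h2)).2 (Units.ext (by
    rw [g4, r1, mul_inv_cancel₀ r0, Units.val_one])), g1⟩
  obtain ⟨k, hk, H⟩ := (H.conj gX (g3 u (D.eq_zero_symm hub) (h.left.B_eq _ a1 _ hu)) g2).sub
    (h.left.B_eq _ hu _ hu) hub (h.right.B_eq _ hb _ hb) H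
  simp only [sub_self, zero_mul, add_zero, zero_smul, zero_add, r1] at H
  by_contra β0
  have κ0 : r * r * β - β ≠ 0 := fun H0 => by
    have : (r * r - 1) * β = 0 := by linear_combination H0
    exact (mul_self_eq_one_iff.1 (sub_eq_zero.1 ((mul_eq_zero.1 this).resolve_right β0))).elim r2 r3
  have := sub_mem_zSet (X := X) (he := h.right.Q_eq b' b1) (z := a) ⟨0, h.symm.isEich b1 a1 a2,
    h1' ⟨eich_mem_E _ _ _ _, h.symm.eich_mem_stab b1 a1 _⟩⟩ hk
    (by rw [H, h.right.B_eq _ hb _ b1]; simp)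
  rw [H, a4, mul_one, add_sub_cancel_left] at this
  exact b3 (hZ' b' b1 b4 b hb (all_of_one h.symm ht' hD h2' h1' b1 b4 hb b3 κ0 this))

/-- Lemma M, one half. -/
theorem m_right (hq : 4 ≤ q) {u b : V} (hu : u ∈ W) (hb : b ∈ W') (b0 : b ≠ 0)
    (hub : D.B u b = 0) {p p' l m : F} (H : ∀ t : F, PE X (p • u + p' • b) (t • (l • u + m • b))) :
    p' * m = 0 := by
  have k : ∀ t : F, σ t * σ m * p' - t * σ p' * m = 0 := fun t => by
    obtain ⟨k, hk, H⟩ := H t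
    obtain ⟨k', hk', H'⟩ := pe h h1 hu (W'.smul_mem (t * σ p * m - σ t * σ l * p') hb) (by simp [hub])
    have A : TT X u b (σ t * σ l * p - t * σ p * l) (σ t * σ m * p' - t * σ p' * m)
        (σ t * σ m * p - t * σ p' * l) (σ t * σ l * p' - t * σ p * m) := ⟨k, hk, fun w => by
      rw [H]; simp only [D.B_lin]; module⟩
    have B : TT X u b 0 0 (σ t * σ m * p - t * σ p' * l) (σ t * σ l * p' - t * σ p * m) :=
      ⟨k', hk', fun w => by
        rw [H']; simp only [D.B_lin, map_sub, map_mul, hc.σσ]; module⟩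
    have := A.sub (h.left.B_eq _ hu _ hu) hub (h.right.B_eq _ hb _ hb) B
    simp only [sub_self, sub_zero] at this
    exact tt_right h ht hD h2 h1 hZ' hq hu hb b0 hub this
  obtain ⟨t, ht'⟩ := hc.exists_not_fixed
  have k1 := k 1
  rw [map_one] at k1
  have : (σ t - t) * (σ p' * m) = 0 := by linear_combination k t - σ t * k1
  rcases mul_eq_zero.1 ((mul_eq_zero.1 this).resolve_left (sub_ne_zero.2 ht')) with h3 | h3
  · rw [(map_eq_zero σ).1 h3, zero_mul]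
  · rw [h3, mul_zero]

variable (hZ : ∀ u (hu : u ∈ W), u ≠ 0 → ∀ w ∈ W,
  (∀ c : F, c • w ∈ zSet X u (h.left.Q_eq u hu)) → w ∈ F ∙ u)
include hZ

theorem m_both (hq : 4 ≤ q) {u b : V} (hu : u ∈ W) (u0 : u ≠ 0) (hb : b ∈ W') (b0 : b ≠ 0)
    (hub : D.B u b = 0) {p p' l m : F} (H : ∀ t : F, PE X (p • u + p' • b) (t • (l • u + m • b))) :
    p * l = 0 ∧ p' * m = 0 :=
  ⟨m_right h.symm (by rwa [sup_comm]) hD (by rw [← h.finrank_eq hD, h2])
    (by rwa [inf_comm (D.stab W')]) hZ hq hb hu u0 (D.eq_zero_symm hub) (p := p') (l := m) fun t => by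
      rw [add_comm (p' • b), add_comm (m • b)]; exact H t,
    m_right h ht hD h2 h1 hZ' hq hu hb b0 hub H⟩

theorem core (hq : 4 ≤ q) {u b y : V} (hu : u ∈ W) (u0 : u ≠ 0) (hb : b ∈ W') (b0 : b ≠ 0)
    (hub : D.B u b = 0) {c c' : F} (c0 : c • u + c' • b ≠ 0) (hy : D.B y (c • u + c' • b) = 0)
    (H : ∀ r : F, σ r = r → PE X (c • u + c' • b) (r • y)) : D.B y u = 0 ∧ D.B y b = 0 := by
  have huu := h.left.B_eq _ hu _ hu
  have hbb := h.right.B_eq _ hb _ hb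
  have hbu := D.eq_zero_symm hub
  generalize hβ : D.B y u = β
  generalize hβ' : D.B y b = β'
  simp only [D.B_lin, hβ, hβ'] at hy
  have k : ∀ r : F, σ r = r → r ≠ 0 → (1 + r * β * c) * (β' * c) = 0 ∧ β * c' * (1 + r * β' * c') = 0 :=
    fun r hr r0 => by
      obtain ⟨k, hk, H⟩ := H r hr
      obtain ⟨e1, e2⟩ := m_both h ht hD h2 h1 hZ' hZ hq hu u0 hb b0 hub (p := 1 + r * β * c)
        (p' := r * β * c') (l := r * β' * c) (m := 1 + r * β' * c') fun t => by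
          have := (pe h h1 hu (W'.smul_mem t hb) (by simp [hub])).conj hk
          convert this using 1
          · rw [H]; simp only [D.B_lin, hβ, huu, hbu, hr]; module
          · rw [map_smul, H]; simp only [D.B_lin, hβ', hub, hbb, hr]; module
      exact ⟨mul_left_cancel₀ r0 (by linear_combination e1), mul_left_cancel₀ r0
        (by linear_combination e2)⟩
  obtain ⟨r, r1, r0, r2, -⟩ := hc.su5_fixed hq 1 1
  have k1 := k 1 (map_one σ) one_ne_zero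
  have k2 := k r r1 r0
  have r3 : r - 1 ≠ 0 := sub_ne_zero.2 r2
  have e1 : β' * c = 0 := mul_left_cancel₀ r3 (by linear_combination r * k1.1 - k2.1)
  have e2 : β * c' = 0 := mul_left_cancel₀ r3 (by linear_combination r * k1.2 - k2.2)
  constructor <;> by_contra H0 <;> apply c0
  · have c1 : c' = 0 := (mul_eq_zero.1 e2).resolve_left H0
    have c2 : c = 0 := (mul_eq_zero.1 (show β * c = 0 by
      rw [c1] at hy; linear_combination hy)).resolve_left H0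
    simp [c1, c2]
  · have c1 : c = 0 := (mul_eq_zero.1 e1).resolve_left H0
    have c2 : c' = 0 := (mul_eq_zero.1 (show β' * c' = 0 by
      rw [c1] at hy; linear_combination hy)).resolve_left H0
    simp [c1, c2]

omit h1 hZ hZ' in
theorem exists_ub {v₁ v₂ : V} (m₁ : v₁ ∈ W) (m₂ : v₂ ∈ W') (hv : D.B v₁ v₂ = 0) :
    ∃ u ∈ W, ∃ b ∈ W', u ≠ 0 ∧ b ≠ 0 ∧ D.B u b = 0 ∧ ∃ c c' : F, v₁ + v₂ = c • u + c' • b := by
  have h2' : finrank F W' = 2 := by rw [← h.finrank_eq hD, h2]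
  have e1 : ∀ z, ∃ u ∈ W, u ≠ 0 ∧ D.B z u = 0 := fun z => by
    simpa using exists_not_mem_kers W ⊥ [D.B z] (by simp; omega)
  have e2 : ∀ z, ∃ u ∈ W', u ≠ 0 ∧ D.B z u = 0 := fun z => by
    simpa using exists_not_mem_kers W' ⊥ [D.B z] (by simp; omega)
  by_cases h3 : v₁ = 0
  · by_cases h4 : v₂ = 0
    · obtain ⟨u, u1, u2, -⟩ := e1 0
      obtain ⟨b, b1, b2, b3⟩ := e2 u
      exact ⟨u, u1, b, b1, u2, b2, b3, 0, 0, by simp [h3, h4]⟩
    · obtain ⟨u, u1, u2, u3⟩ := e1 v₂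
      exact ⟨u, u1, v₂, m₂, u2, h4, D.eq_zero_symm u3, 0, 1, by simp [h3]⟩
  · by_cases h4 : v₂ = 0
    · obtain ⟨b, b1, b2, b3⟩ := e2 v₁
      exact ⟨v₁, m₁, b, b1, h3, b2, b3, 1, 0, by simp [h4]⟩
    · exact ⟨v₁, m₁, v₂, m₂, h3, h4, hv, 1, 1, by simp⟩

theorem core2 (hq : 4 ≤ q) {v₁ v₂ y : V} (m₁ : v₁ ∈ W) (m₂ : v₂ ∈ W') (hv : D.B v₁ v₂ = 0)
    (v0 : v₁ + v₂ ≠ 0) (hy : D.B y (v₁ + v₂) = 0) (H : ∀ r : F, σ r = r → PE X (v₁ + v₂) (r • y)) :
    ∃ u ∈ W, ∃ b ∈ W', u ≠ 0 ∧ b ≠ 0 ∧ D.B u b = 0 ∧ (∃ c c' : F, v₁ + v₂ = c • u + c' • b) ∧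
      ∃ c c' : F, y = c • u + c' • b := by
  obtain ⟨u, hu, b, hb, u0, b0, hub, c, c', e⟩ := exists_ub h ht hD h2 m₁ m₂ hv
  refine ⟨u, hu, b, hb, u0, b0, hub, ⟨c, c', e⟩, ?_⟩
  rw [e] at v0 hy H
  obtain ⟨e1, e2⟩ := core h ht hD h2 h1 hZ' hZ hq hu u0 hb b0 hub v0 hy H
  obtain ⟨y₁, n₁, y₂, n₂, rfl⟩ := exists_add_of_sup ht y
  rw [D.B_add_left, h.left.B_eq _ n₁ _ hu, zero_add] at e1
  rw [D.B_add_left, h.right.B_eq _ n₂ _ hb, add_zero] at e2
  obtain ⟨d, rfl⟩ := Submodule.mem_span_singleton.1 (mem_span h h2 hu u0 n₁ hb b0 hub e2)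
  obtain ⟨d', rfl⟩ := Submodule.mem_span_singleton.1 (mem_span h.symm
    (by rw [← h.finrank_eq hD, h2]) hb b0 n₂ hu u0 (D.eq_zero_symm hub) e1)
  exact ⟨d, d', rfl⟩

theorem false_of (hq : 4 ≤ q) {x y : V} (hx : x ∉ W) (hx' : x ∉ W') (hxx : D.B x x = 0)
    (hyy : D.B y y = 0) (hxy : D.B x y = 0) (hi : x ∉ F ∙ y) (y0 : y ≠ 0)
    (H : ∀ t : F, PE X x (t • y)) : False := by
  have hyx := D.eq_zero_symm hxy
  suffices S : ∃ u ∈ W, ∃ b ∈ W', u ≠ 0 ∧ b ≠ 0 ∧ D.B u b = 0 ∧ (∃ c c' : F, x = c • u + c' • b) ∧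
      ∃ c c' : F, y = c • u + c' • b by
    obtain ⟨u, hu, b, hb, u0, b0, hub, ⟨p, p', rfl⟩, l, m, rfl⟩ := S
    obtain ⟨e1, e2⟩ := m_both h ht hD h2 h1 hZ' hZ hq hu u0 hb b0 hub H
    have p0 : p ≠ 0 := by rintro rfl; exact hx' (by simpa using W'.smul_mem _ hb)
    have p1 : p' ≠ 0 := by rintro rfl; exact hx (by simpa using W.smul_mem _ hu)
    simp [(mul_eq_zero.1 e1).resolve_left p0, (mul_eq_zero.1 e2).resolve_left p1] at y0
  obtain ⟨x₁, m₁, x₂, m₂, rfl⟩ := exists_add_of_sup ht x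
  obtain ⟨y₁, n₁, y₂, n₂, rfl⟩ := exists_add_of_sup ht y
  by_cases hE : D.B y₁ y₂ = 0
  · obtain ⟨u, hu, b, hb, u0, b0, hub, e1, e2⟩ := core2 h ht hD h2 h1 hZ' hZ hq n₁ n₂ hE y0 hxy
      fun r hr => by
        obtain ⟨k, hk, H⟩ := H (-r)
        exact ⟨k, hk, fun w => by
          rw [H]; simp only [D.B_smul_left, map_neg, hr]; module⟩
    exact ⟨u, hu, b, hb, u0, b0, hub, e2, e1⟩
  by_cases hA : D.B x₁ x₂ = 0
  · exact core2 h ht hD h2 h1 hZ' hZ hq m₁ m₂ hA (fun H0 => hx (H0 ▸ zero_mem _)) hyx fun r _ => H r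
  obtain ⟨l, hl⟩ : ∃ l : F, D.B (x₁ + l • y₁) (x₂ + l • y₂) = 0 := by
    simp only [D.B_lin, h.left.B_eq _ m₁ _ m₁, h.right.B_eq _ m₂ _ m₂, h.left.B_eq _ n₁ _ n₁,
      h.right.B_eq _ n₂ _ n₂, h.left.B_eq _ m₁ _ n₁, h.right.B_eq _ m₂ _ n₂, B_symm D x₁ x₂,
      B_symm D y₁ y₂, B_symm D y₁ x₂] at hxx hyy hxy ⊢
    generalize D.B x₁ x₂ = A at *
    generalize D.B y₁ y₂ = E at *
    generalize D.B y₁ x₂ = C at *
    generalize D.B x₁ y₂ = B at *
    have a1 : σ A = -A := by linear_combination hxx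
    have a2 : σ E = -E := by linear_combination hyy
    have a3 : σ C = -B := by linear_combination hxy
    obtain ⟨z, hz⟩ := hc.exists_norm_eq (a := C / E * σ (C / E) - A / E) (by
      rw [map_sub, map_mul, hc.σσ, map_div₀ σ A, a1, a2, neg_div_neg_eq, mul_comm])
    refine ⟨z - C / E, ?_⟩
    simp only [map_sub, map_div₀, a2, a3] at hz ⊢
    field_simp
    field_simp at hz
    linear_combination hz
  have l0 : l ≠ 0 := by rintro rfl; exact hA (by simpa using hl)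
  have e : x₁ + l • y₁ + (x₂ + l • y₂) = x₁ + x₂ + l • (y₁ + y₂) := by module
  generalize x₁ + x₂ = x at *
  generalize y₁ + y₂ = y at *
  obtain ⟨u, hu, b, hb, u0, b0, hub, ⟨c, c', e1⟩, d, d', e2⟩ := core2 h ht hD h2 h1 hZ' hZ hq
    (add_mem m₁ (W.smul_mem l n₁)) (add_mem m₂ (W'.smul_mem l n₂)) hl (y := l • y) (by
      rw [e]; intro H0
      exact hi (by rw [eq_neg_of_add_eq_zero_left H0]; exact neg_mem (Submodule.smul_mem _ _ (self_mem_span _))))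
    (by rw [e]; simp [hyx, hyy]) fun r hr => by
      obtain ⟨k, hk, H⟩ := H (r * l)
      exact ⟨k, hk, fun w => by
        rw [H, e]; simp only [D.B_lin, map_mul, hr]; module⟩
  refine ⟨u, hu, b, hb, u0, b0, hub, ⟨c - d, c' - d', ?_⟩, l⁻¹ * d, l⁻¹ * d', ?_⟩
  · rw [e, e2] at e1; linear_combination (norm := module) e1
  · rw [mul_smul, mul_smul, ← smul_add, ← e2, inv_smul_smul₀ l0]

end Su5

theorem Herm.dual_E_le2 {W W' : Submodule F V} (hq : 4 ≤ q) (h : D.IsDual W W') (ht : W ⊔ W' = ⊤)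
    (hD : D.Nondeg) (h3 : finrank F W = 2) (h1 : D.E ⊓ D.dec ![W, W'] ≤ X)
    (h2 : ¬ X ≤ D.dec ![W, W']) : D.E ≤ X := by
  have ht' : W' ⊔ W = ⊤ := by rwa [sup_comm]
  have hf := h.finrank_eq hD
  have f1 := h.finrank_sup hD
  rw [ht, finrank_top] at f1
  have h4 : D.E ⊓ (D.stab W ⊓ D.stab W') ≤ X := fun g hg =>
    h1 ⟨hg.1, mem_dec_of_stab (by simpa [Fin.forall_fin_two] using hg.2)⟩
  have h4' : D.E ⊓ (D.stab W' ⊓ D.stab W) ≤ X := by rwa [inf_comm (D.stab W')]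
  obtain ⟨s, hs, hs1, hs2⟩ := Herm.exists_swap hD (by omega) h (by rintro rfl; simp at h3)
  have hsX : s ∈ X := h1 ⟨hs, Equiv.swap 0 1, by simp [Fin.forall_fin_two, hs1, hs2]⟩
  have hs0 : ∀ {e}, e ≠ 0 → s.1 e ≠ 0 := fun h => by simpa using h
  by_contra hno
  have hZ : ∀ u (hu : u ∈ W), u ≠ 0 → ∀ w ∈ W, (∀ c : F, c • w ∈ zSet X u (h.left.Q_eq u hu)) →
      w ∈ F ∙ u := fun u hu u0 w hw H => by
    by_contra H'
    have hA := h.at_of_zSet ht hD Herm.comm (by omega) h4 hu u0 hw H' H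
    exact hno (h.E_le_of_at ht hD h4 hu u0 (hs1 ▸ Submodule.mem_map_of_mem hu) (hs0 u0) hA
      (hA.conj hsX fun _ _ => trivial))
  have hZ' : ∀ u (hu : u ∈ W'), u ≠ 0 → ∀ w ∈ W', (∀ c : F, c • w ∈ zSet X u (h.right.Q_eq u hu)) →
      w ∈ F ∙ u := fun u hu u0 w hw H => by
    by_contra H'
    have hA := h.symm.at_of_zSet ht' hD Herm.comm (by omega) h4' hu u0 hw H' H
    exact hno (h.E_le_of_at ht hD h4 (hs2 ▸ Submodule.mem_map_of_mem hu) (hs0 u0) hu u0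
      (hA.conj hsX fun _ _ => trivial) hA)
  have key : ∀ g ∈ X, ∀ a ∈ W, g.1 a ∉ W → g.1 a ∉ W' → False := fun g hg a ha h5 h6 => by
    obtain ⟨b, b1, b2, b3⟩ : ∃ b ∈ W', b ≠ 0 ∧ D.B a b = 0 := by
      simpa using exists_not_mem_kers W' ⊥ [D.B a] (by simp; omega)
    refine Su5.false_of h ht hD h3 h4 hZ' hZ hq h5 h6 (y := g.1 b) (by simp [h.left.B_eq _ ha _ ha])
      (by simp [h.right.B_eq _ b1 _ b1]) (by simp [b3]) (fun H => ?_) (by simpa using b2) fun t => ?_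
    · obtain ⟨c, hc'⟩ := Submodule.mem_span_singleton.1 H
      rw [← map_smul] at hc'
      have : a = 0 := Submodule.disjoint_def.1 h.disjoint a ha (g.1.injective hc' ▸ W'.smul_mem _ b1)
      exact h5 (by simp [this])
    · simpa using (Su5.pe h h4 ha (W'.smul_mem t b1) (by simp [b3])).conj hg
  refine h2 fun g hg => ?_
  have k : ∀ {U : Submodule F V}, finrank F U = finrank F W →
      (∀ a ∈ U, g.1 a ∉ W → g.1 a ∉ W' → False) → ∃ j, U.map (g.1 : V →ₗ[F] V) = ![W, W'] j := by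
    intro U hU H
    by_contra H'
    simp only [Fin.exists_fin_two, not_or] at H'
    obtain ⟨_, ⟨a, ha, rfl⟩, h4, h5⟩ := exists_not_mem_not_mem (U := U.map (g.1 : V →ₗ[F] V))
      (A := W) (B := W')
      (fun h => H'.1 (Submodule.eq_of_le_of_finrank_eq h (by rw [finrank_map_isom, hU]; rfl)))
      (fun h => H'.2 (Submodule.eq_of_le_of_finrank_eq h (by rw [finrank_map_isom, hU, hf]; rfl)))
    exact H a ha h4 h5
  refine mem_dec_of_forall ?_ (Fin.forall_fin_two.2 ⟨k rfl (key g hg), k hf.symm fun a ha => ?_⟩)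
  · have : W ≠ W' := fun hW => by
      have := h.disjoint.eq_bot_of_le hW.le
      rw [this] at h3; simp at h3
    intro i j; fin_cases i <;> fin_cases j <;> simp [this, this.symm]
  · obtain ⟨c, c1, rfl⟩ := hs1.ge ha
    exact key (g * s) (mul_mem hg hsX) c c1

open Cfsg.Geo in
theorem su4_pair {F : Type*} [Field F] [Fintype F] (q : ℕ) (hF : Fintype.card F = q ^ 2) :
    4 ≤ q → ∀ D : Fin 2 → Submodule F (Fin 4 → F), IsMDecomposition 2 D →
      (∀ i, IsTotallySingularFor (hermForm 4 F q) (D i)) →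
      IsMaximalIn (GU 4 F q ⊓ specialLinear (Fin 4) F)
        (decompositionStabilizer D ⊓ (GU 4 F q ⊓ specialLinear (Fin 4) F)) := by
  intro hq D hD hts
  obtain ⟨σ, h⟩ := isConj_of_card hF
  have hN := stdHerm_nondeg h (Fin 4)
  obtain ⟨h1, h2, h3⟩ := isDual_of_dec hN hD fun i => Herm.isTS ((rep_herm h 4).ts.1 (hts i))
  have h0 := hD.finrank_eq 0
  have h4 : D 0 ≠ ⊥ := fun h => by rw [h] at h0; simp at h0
  refine isMaximalIn_map (su_eq h (by omega)) (comap_decompositionStabilizer D) ?_ fun X => ?_ <;>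
    rw [← h3]
  exacts [Herm.not_E_le_dual h1 h4, Herm.dual_E_le2 hq h1 h2 hN h0]

end Cfsg.Lib.Forms
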