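import Cfsg.Agent.Lib.K4.Sv1

/-! Subfield subgroups of unitary groups containing transvections (dimension at least four). -/

set_option autoImplicit false

namespace Cfsg.Lib.Forms

open Module Form Herm

variable {F V ι : Type*} [Field F] [AddCommGroup V] [Module F V] [Fintype ι] [Finite F]
  [FiniteDimensional F V] {k : Subfield F} {b : Basis ι F V} {ζ θ : F} {σ : F →+* F} {q : ℕ}
  {hc : IsConj σ q} {D : Form hc.kind V} {X : Subgroup D.isom}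

variable (D) in
/-- A rational structure with rational transvections. -/
structure RatW (k : Subfield F) (b : Basis ι F V) (ζ θ : F) : Prop extends D.RatV k b ζ where
  θ_mem : θ / ζ ∈ k
  θ_ne : θ ≠ 0
  tr : θ + σ θ = 0

namespace RatW

variable (h : RatW D k b ζ θ)
include h

omit [Finite F] [FiniteDimensional F V] in
theorem θB {x y : V} (hx : x ∈ rat k b) (hy : y ∈ rat k b) : θ * D.B x y ∈ k := by
  have := mul_mem h.θ_mem (h.B_mem x hx y hy)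
  rwa [← mul_assoc, div_mul_cancel₀ _ h.ne] at this

omit [Finite F] [FiniteDimensional F V] in
theorem r1 {u : V} (hu : D.Q u = 0) : D.IsRk1 u θ := (isRk1_iff_of_Q_eq_zero hu).2 h.tr

variable (hX : D.E ⊓ D.ratS k b ≤ X)
include hX

theorem tv_mem {u : V} (h1 : u ∈ rat k b) (hu : D.Q u = 0) : D.rk1 u θ (h.r1 hu) ∈ X :=
  RatF.mem hX (rk1_mem_E _ hu) fun x hx => add_mem hx (rat_smul (h.θB h1 hx) h1)

theorem tv_conj {u : V} (h1 : u ∈ rat k b) (hu : D.Q u = 0) {g : D.isom} (hg : g ∈ X)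
    (h2 : D.Q (g.1 u) = 0) : D.rk1 (g.1 u) θ (h.r1 h2) ∈ X := by
  rw [← D.conj_rk1 g u θ (h.r1 hu)]
  exact mul_mem (mul_mem hg (h.tv_mem hX h1 hu)) (inv_mem hg)

omit hX [Finite F] [FiniteDimensional F V] in
theorem tv_sub {e w z : V} {hQ : D.Q e = 0} (hw : D.Q w = 0) (hm : D.rk1 w θ (h.r1 hw) ∈ X)
    (h1 : D.B w e = 0) (hz : z ∈ zSet X e hQ) : (θ * D.B w z) • w ∈ zSet X e hQ := by
  simpa [rk1_apply] using sub_mem_zSet hz hm (by simp [rk1_apply, h1])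

omit h hX [Finite F] [FiniteDimensional F V] [Fintype ι] in
theorem r2 {u : V} (hu : D.Q u = 0) {d : F} (hd : d + σ d = 0) : D.IsRk1 u d :=
  (isRk1_iff_of_Q_eq_zero hu).2 hd

theorem tv_mem' {u : V} (h1 : u ∈ rat k b) (hu : D.Q u = 0) {d : F} (hd : d + σ d = 0) (h2 : d / ζ ∈ k) :
    D.rk1 u d (r2 hu hd) ∈ X :=
  RatF.mem hX (rk1_mem_E _ hu) fun x hx => add_mem hx (rat_smul (by
    have := mul_mem h2 (h.B_mem u h1 x hx)
    rwa [← mul_assoc, div_mul_cancel₀ _ h.ne] at this) h1)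

omit h hX [Finite F] [FiniteDimensional F V] [Fintype ι] in
theorem tv_sub' {e w z : V} {hQ : D.Q e = 0} (hw : D.Q w = 0) {d : F} (hd : d + σ d = 0)
    (hm : D.rk1 w d (r2 hw hd) ∈ X) (h1 : D.B w e = 0) (hz : z ∈ zSet X e hQ) :
    (d * D.B w z) • w ∈ zSet X e hQ := by
  simpa [rk1_apply] using sub_mem_zSet hz hm (by simp [rk1_apply, h1])

theorem split {u v x : V} {α β d : F} (hu : u ∈ rat k b) (hv : v ∈ rat k b) (u1 : D.Q u = 0) (v1 : D.Q v = 0)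
    (H : D.B u v = 0) (hx : x = α • u + β • v) (x1 : D.Q x = 0) (hd : d + σ d = 0)
    (hm : D.rk1 x d (r2 x1 hd) ∈ X) (h1 : d * (α * σ α) / ζ ∈ k) (h2 : d * (β * σ β) / ζ ∈ k) :
    (-(d * σ α * β)) • v ∈ zSet X u u1 := by
  have d1 : σ d = -d := eq_neg_of_add_eq_zero_right hd
  have k1 : ∀ α : F, -(d * (α * σ α)) + σ (-(d * (α * σ α))) = 0 := fun α => by
    simp only [map_neg, map_mul, d1, hc.σσ]; ring
  refine ⟨0, ⟨u1, by simp [H], by simp [D.Q_smul_of_Q v1]⟩, ?_⟩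
  convert X.mul_mem hm (X.mul_mem (h.tv_mem' hX hu u1 (k1 α) (by rw [neg_div]; exact neg_mem h1))
    (h.tv_mem' hX hv v1 (k1 β) (by rw [neg_div]; exact neg_mem h2))) using 1
  refine isom_ext fun w => ?_
  simp only [isom_mul_apply, rk1_apply, eich_apply, hx, D.B_lin, H, D.eq_zero_symm H, D.B_self_of_Q u1,
    D.B_self_of_Q v1, map_neg, map_mul, d1, hc.σσ, hermKind_ε]
  module

variable (hS : ∀ {e z y : V}, e ∈ rat k b → ∀ {hQ : D.Q e = 0}, z ∈ zSet X e hQ → y ∈ rat k b → D.Q y = 0 →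
  D.B e y = 0 → e ≠ 0 → y ∉ F ∙ e → ∀ κ ∈ k, (κ * D.B y z * ζ) • y ∈ zSet X e hQ)

include hS in
theorem step {e z y t : V} (he : e ∈ rat k b) (e0 : e ≠ 0) {hQ : D.Q e = 0} (hz : z ∈ zSet X e hQ)
    (hy : y ∈ rat k b) (ht : t ∈ rat k b) (h1 : D.Q y = 0) (h2 : D.Q t = 0) (h3 : D.B e y = 0)
    (h4 : D.B e t = 0) : (D.B y z * ζ) • t ∈ zSet X e hQ := by
  have hn := h.four
  have hζ := h.ne
  have hσ := h.σ_ne
  have t0 := h.θ_ne
  by_cases h5 : D.B y z = 0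
  · simp [h5]
  have T : ∀ {w z : V}, w ∈ rat k b → D.Q w = 0 → D.B e w = 0 → z ∈ zSet X e hQ →
      (θ * D.B w z) • w ∈ zSet X e hQ := fun hw w1 w2 hz =>
    h.tv_sub w1 (h.tv_mem hX hw w1) (D.eq_zero_symm w2) hz
  have R : ∀ {w s : V}, w ∈ rat k b → D.Q w = 0 → D.B e w = 0 → s ∈ rat k b → D.B w s ≠ 0 →
      (∀ κ ∈ k, (κ * D.B y z * ζ) • s ∈ zSet X e hQ) → ∀ κ ∈ k, (κ * D.B y z * ζ) • w ∈ zSet X e hQ :=
    fun {w s} hw w1 w2 hs h0 H κ hκ => by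
      convert T hw w1 w2 (H _ (div_mem hκ (h.θB hw hs))) using 2
      rw [D.B_smul_right]; field_simp
  have y0 : y ∉ F ∙ e := fun H => by
    obtain ⟨c, rfl⟩ := Submodule.mem_span_singleton.1 H
    simp [perp_of_mem_zSet hz] at h5
  have S := hS he hz hy h1 h3 e0 y0
  have a1 := And.intro h3 trivial
  have a2 := hy
  have a4 := h1
  by_cases h6 : t ∈ F ∙ e
  · obtain ⟨c, rfl⟩ := Submodule.mem_span_singleton.1 h6
    rw [smul_smul]; exact smul_mem_zSet hQ _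
  suffices ∀ κ ∈ k, (κ * D.B y z * ζ) • t ∈ zSet X e hQ by simpa using this 1 (one_mem k)
  by_cases h7 : D.B t y = 0
  swap
  · exact R ht h2 h4 a2 h7 S
  obtain ⟨w, b1, b2, b3, b4⟩ : ∃ w ∈ D.perp (F ∙ e), w ∈ rat k b ∧ D.B w y ≠ 0 ∧ D.B w t ≠ 0 := by
    obtain ⟨y₁, a1, a2, a3⟩ := h.exists_B (ratSub_span he) y0
    obtain ⟨y', b1, b2, b3⟩ := h.exists_B (ratSub_span he) h6
    by_cases c1 : D.B y₁ t = 0
    · by_cases c2 : D.B y' y = 0
      · exact ⟨y₁ + y', add_mem a1 b1, add_mem a2 b2, by simpa [c2] using a3, by simpa [c1] using b3⟩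
      · exact ⟨y', b1, b2, c2, b3⟩
    · exact ⟨y₁, a1, a2, a3, c1⟩
  rw [mem_perp_span_singleton] at b1
  obtain ⟨c, c1, c2⟩ := h.exists_smul_sing a2 a4 b2 b3
  have c3 := add_mem b2 (rat_smul c1 a2)
  exact R ht h2 h4 c3 (D.ne_zero_symm (by simpa [D.eq_zero_symm h7] using b4))
    (R c3 c2 (by simp [b1, a1.1]) a2 (by simpa [D.B_self_of_Q a4] using b3) S)

theorem E_le_symp (hk : ∀ a, a ∈ k ↔ σ a = a) (hζ : ζ + σ ζ = 0) (hQ : ∀ x ∈ rat k b, D.Q x = 0)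
    (hX' : ¬ X ≤ D.ratS k b) : D.E ≤ X := by
  have ζ0 := h.ne
  have ζ1 : σ ζ = -ζ := eq_neg_of_add_eq_zero_right hζ
  have k1 : ∀ κ ∈ k, κ * ζ + σ (κ * ζ) = 0 := fun κ hκ => by rw [map_mul, (hk κ).1 hκ, ζ1]; ring
  have k2 : ∀ κ ∈ k, κ * ζ / ζ ∈ k := fun κ hκ => by rwa [mul_div_cancel_right₀ _ ζ0]
  obtain ⟨g, hg, h1⟩ := SetLike.not_le_iff_exists.1 hX'
  replace h1 := mt h.mem_of_points h1
  push Not at h1
  obtain ⟨y, y1, y2, y0, h1⟩ := h1
  obtain ⟨ω, hω⟩ := hc.exists_not_fixed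
  have ω1 : ω - σ ω ≠ 0 := sub_ne_zero.2 (Ne.symm hω)
  have ω2 : σ ω - ω ≠ 0 := sub_ne_zero.2 hω
  have k3 : ∀ s : F, (s - σ s) / (ω - σ ω) ∈ k ∧ s - ω * ((s - σ s) / (ω - σ ω)) ∈ k := fun s =>
    ⟨(hk _).2 (by simp only [map_div₀, map_sub, hc.σσ]; field_simp; ring),
      (hk _).2 (by simp only [map_div₀, map_sub, map_mul, hc.σσ]; field_simp; ring)⟩
  let T₁ : F →+ F := AddMonoidHom.mk' (fun s => (s - σ s) / (ω - σ ω)) fun x y => by simp; ring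
  let T₀ : F →+ F := AddMonoidHom.mk' (fun s => s - ω * ((s - σ s) / (ω - σ ω))) fun x y => by simp; ring
  obtain ⟨u, hu, v, hv, hx⟩ : ∃ u ∈ rat k b, ∃ v ∈ rat k b, g.1 y = (1 : F) • u + ω • v :=
    ⟨_, pr_mem (T := T₀) (fun a => (k3 a).2) (g.1 y), _, pr_mem (T := T₁) (fun a => (k3 a).1) (g.1 y),
      b.repr.injective (by ext i; simp [T₀, T₁])⟩
  have x1 : D.Q (g.1 y) = 0 := by simpa using y2
  have x0 : g.1 y ≠ 0 := g.1.map_ne_zero_iff.2 y0
  have u0 : u ≠ 0 := by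
    rintro rfl
    exact h1 ω (by rintro rfl; simp at hω) v hv (by simpa using hx)
  have v0 : v ∉ F ∙ u := fun H => by
    obtain ⟨c, rfl⟩ := Submodule.mem_span_singleton.1 H
    rw [smul_smul, ← add_smul] at hx
    exact h1 _ (left_ne_zero_of_smul (hx ▸ x0)) u hu hx
  have H : D.B u v = 0 := by
    have h2 := (hk _).1 (h.B_mem u hu v hv)
    have h3 := x1
    rw [hx, one_smul, D.Q_add, hQ u hu, D.Q_smul_of_Q (hQ v hv), hermKind_tr, D.B_smul_right, map_mul] at h3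
    rw [map_mul, ζ1] at h2
    exact mul_left_cancel₀ (mul_ne_zero ζ0 ω1) (by linear_combination ζ * h3 + σ ω * h2)
  have k4 : ∀ s : F, s • v ∈ zSet X u (hQ u hu) := fun s => by
    have h2 := h.split hX hu hv (hQ u hu) (hQ v hv) H hx x1 (k1 _ (k3 (s / ζ)).1) (by
      rw [← D.conj_rk1 g y _ (r2 y2 (k1 _ (k3 (s / ζ)).1))]
      exact mul_mem (mul_mem hg (h.tv_mem' hX y1 y2 (k1 _ (k3 _).1) (k2 _ (k3 _).1))) (inv_mem hg))
      (by rw [map_one, mul_one, mul_one]; exact k2 _ (k3 _).1) (by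
        rw [mul_right_comm]; exact k2 _ (mul_mem (k3 _).1 ((hk _).2 (by simp [hc.σσ, mul_comm]))))
    convert sub_mem (h.mem_zSet hX hu (hQ u hu) (rat_smul (k3 (s / ζ)).2 hv) (by simp [H])) h2 using 1
    rw [smul_smul, ← sub_smul, map_one]
    congr 1; field_simp; ring
  obtain ⟨w, w1, w2, w3⟩ := h.exists_B (ratSub_span hu) v0
  refine h.E_le_of_par Herm.comm fun a => ?_
  simpa [w3] using h.B_mem_par hX (fun he e0 _ => h.step hX (fun he _ hz hy y1 h3 _ _ κ hκ => by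
    rw [mul_right_comm]
    exact tv_sub' y1 (k1 κ hκ) (h.tv_mem' hX hy y1 (k1 κ hκ) (k2 κ hκ)) (D.eq_zero_symm h3) hz) he e0) hu u0
    (k4 (a / D.B w v)) w2 (D.mem_perp_span_singleton.1 w1)

end RatW

namespace RatW

variable (h : RatW D k b 1 θ) (hX : D.E ⊓ D.ratS k b ≤ X) {c₀ : F} (c1 : c₀ ∈ k) (c2 : σ c₀ ≠ c₀)
include h hX

theorem exists_weyl {e y : V} (he : e ∈ rat k b) (hy : y ∈ rat k b) (e1 : D.Q e = 0) (y1 : D.Q y = 0)
    (H : D.B e y = 0) (e0 : e ≠ 0) (h1 : y ∉ F ∙ e) {c : F} (hc : c ∈ k) (c0 : c ≠ 0) :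
    ∃ g ∈ X, g.1 e = (-c⁻¹) • y ∧ g.1 y = c • e := by
  obtain ⟨g, a1, a2, a3, a4⟩ := h.exists_shift hy he e1 H h1 hc
  obtain ⟨g', b1, b2, b3, b4⟩ := h.exists_shift he hy y1 (D.eq_zero_symm H) (not_mem_symm e0 h1)
    (neg_mem (inv_mem hc))
  have := RatF.mem hX a1 a2
  refine ⟨g * g' * g, mul_mem (mul_mem this (RatF.mem hX b1 b2)) this, ?_, ?_⟩ <;>
    simp only [isom_mul_apply, a3, a4, b3, b4, map_add, map_smul] <;> match_scalars <;> field_simp <;> ring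

include c1 c2 in
theorem scale {e z y : V} (he : e ∈ rat k b) {hQ : D.Q e = 0} (hz : z ∈ zSet X e hQ) (hy : y ∈ rat k b)
    (y1 : D.Q y = 0) (H : D.B e y = 0) (e0 : e ≠ 0) (h1 : y ∉ F ∙ e) (κ : F) (hκ : κ ∈ k) :
    (κ * D.B y z * 1) • y ∈ zSet X e hQ := by
  obtain ⟨c, d1, d2⟩ : ∃ c ∈ k, σ c ^ 2 ≠ c ^ 2 := by
    by_cases h2 : σ c₀ ^ 2 = c₀ ^ 2
    swap
    · exact ⟨c₀, c1, h2⟩
    have h3 := (sq_eq_sq_iff_eq_or_eq_neg.1 h2).resolve_left c2
    refine ⟨1 + c₀, add_mem (one_mem k) c1, fun h4 => c2 ?_⟩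
    rw [map_add, map_one, h3] at h4
    have h5 : (c₀ + c₀) ^ 2 = 0 := by linear_combination -c₀ * h4
    rw [h3]; linear_combination -(pow_eq_zero_iff two_ne_zero).1 h5
  have c0 : c ≠ 0 := by rintro rfl; simp at d2
  have c0' : σ c ≠ 0 := (map_ne_zero σ).2 c0
  have d3 : σ c ^ 2 - c ^ 2 ≠ 0 := sub_ne_zero.2 d2
  have d4 : c ^ 2 - σ c ^ 2 ≠ 0 := sub_ne_zero.2 d2.symm
  have T : ∀ d ∈ k, d + σ d = 0 → (d * D.B y z) • y ∈ zSet X e hQ := fun d h2 h3 =>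
    tv_sub' y1 h3 (h.tv_mem' hX hy y1 h3 (by simpa)) (D.eq_zero_symm H) hz
  obtain ⟨g, a1, a2, a3⟩ := h.exists_weyl hX he hy hQ y1 H e0 h1 d1 c0
  obtain ⟨g', b1, b2, b3⟩ := h.exists_weyl hX he hy hQ y1 H e0 h1 (one_mem k) one_ne_zero
  have c3 := h.σ_mem c d1
  obtain ⟨d, hd⟩ : ∃ d, d = (κ + σ κ) * (c * σ c) / (σ c ^ 2 - c ^ 2) := ⟨_, rfl⟩
  have e1 : d ∈ k := hd ▸ div_mem (mul_mem (add_mem hκ (h.σ_mem κ hκ)) (mul_mem d1 c3))
    (sub_mem (pow_mem c3 2) (pow_mem d1 2))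
  have e2 : d + σ d = 0 := by
    simp only [hd, map_div₀, map_mul, map_add, map_sub, map_pow, hc.σσ]; field_simp; ring
  have e3 := map_mem_zSet (T d e1 e2) (mul_mem a1 b1) (c := -c) (by simp [isom_mul_apply, b2, a3])
  convert add_mem (T (κ - d * (σ c / c)) (sub_mem hκ (mul_mem e1 (div_mem c3 d1))) (by
    simp only [map_sub, map_mul, map_div₀, hc.σσ, eq_neg_of_add_eq_zero_right e2]
    rw [hd]; field_simp; ring)) e3 using 1
  simp only [isom_mul_apply, map_smul, b3, a2, map_neg]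
  match_scalars; field_simp; ring

include c1 c2 in
theorem dichotomy : (∀ e ∈ rat k b, e ≠ 0 → ∀ hQ : D.Q e = 0, ∀ z ∈ zSet X e hQ,
      ∃ x ∈ rat k b, ∃ c : F, z = (1 : F) • x + c • e) ∨ D.E ≤ X := by
  have hn := h.four
  have hS := fun {e z y t : V} (he : e ∈ rat k b) e0 {hQ : D.Q e = 0} =>
    h.step hX (z := z) (y := y) (t := t) (fun he _ => h.scale hX c1 c2 he) he e0 (hQ := hQ)
  let A : Subring F :=
    { carrier := {r | ∀ a ∈ RatF.par X k b 1, r * a ∈ RatF.par X k b 1}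
      mul_mem' := fun ha hb a h1 => by rw [mul_assoc]; exact ha _ (hb a h1)
      one_mem' := fun a h1 => by simpa using h1
      add_mem' := fun ha hb a h1 => by rw [add_mul]; exact add_mem (ha a h1) (hb a h1)
      zero_mem' := fun a _ => by simp
      neg_mem' := fun ha a h1 => by rw [neg_mul]; exact neg_mem (ha a h1) }
  rcases subring_prime h.prime A fun r hr a h1 e he e0 hQ t ht H => by
    simpa [smul_smul, mul_comm] using h1 e he e0 hQ _ (rat_smul hr ht) (by simp [H]) with hA | hA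
  swap
  · exact Or.inr (h.E_le_of_par Herm.comm fun a => by simpa using hA a 1 (h.mem_par hX (one_mem k)))
  refine Or.inl (h.rat_of_par hX hS fun a ha => ?_)
  obtain ⟨e, he, w, hw, e1, w1, h3, h4, h5⟩ := h.exists_pair
  have e0 : e ≠ 0 := by rintro rfl; simp at h4
  have w0 : w ≠ 0 := by rintro rfl; simp at h5
  have k1 : ∀ κ ∈ k, a * κ - σ a * σ κ ∈ k := fun κ hκ => hA _ fun a' ha' => by
    obtain ⟨y, y1, y2, y3⟩ := h.exists_B_eq (ratSub_span hw) h4 he hκ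
    obtain ⟨t, t1, t2, t3⟩ := h.exists_B_eq (ratSub_span he) h5 hw (one_mem k)
    rw [mem_perp_span_singleton] at y1 t1
    rw [one_mul] at y3 t3
    have h6 := eich_zero_mem_of_zSet (h.mem_zSet hX hw w1 y2 y1) (ha w hw w0 w1 e he (D.eq_zero_symm h3))
      ⟨w1, by simp, by simp [B_symm D y e, hc.σσ]⟩
    have h7 := sub_mem_zSet (ha' e he e0 e1 t t2 t1) h6 (by simp [eich_apply, D.eq_zero_symm h3])
    convert neg_mem (h.B_mem_par hX hS he e0 h7 t2 t1) using 1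
    simp [eich_apply, B_symm D y e, B_symm D t w, y3, t3]
    ring
  have k2 := sub_mem (k1 c₀ c1) (mul_mem (h.σ_mem c₀ c1) (k1 1 (one_mem k)))
  have k3 : c₀ - σ c₀ ≠ 0 := sub_ne_zero.2 c2.symm
  convert div_mem k2 (sub_mem c1 (h.σ_mem c₀ c1)) using 1
  rw [map_one]; field_simp; ring

variable (hZ : ∀ e ∈ rat k b, e ≠ 0 → ∀ hQ : D.Q e = 0, ∀ z ∈ zSet X e hQ,
  ∃ x ∈ rat k b, ∃ c : F, z = (1 : F) • x + c • e)
include hZ

theorem point {x y : V} (hx : D.Q x = 0) (x0 : x ≠ 0) (hm : D.rk1 x θ (h.r1 hx) ∈ X)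
    (hy : y ∈ rat k b) (y1 : D.Q y = 0) (y0 : y ≠ 0) (H : D.B y x = 0) :
    ∃ c : F, c ≠ 0 ∧ ∃ x' ∈ rat k b, x = c • x' := by
  have hn := h.four
  have A : ∀ y ∈ rat k b, D.Q y = 0 → y ≠ 0 → D.B y x = 0 → x ∉ F ∙ y →
      ∃ x' ∈ rat k b, x ∈ (F ∙ x') ⊔ F ∙ y := fun y hy y1 y0 H h1 => by
    obtain ⟨z, a1, a2, a3⟩ := h.exists_B (ratSub_span hy) h1
    obtain ⟨x', b1, c, b2⟩ := hZ y hy y0 y1 _ (h.tv_sub hx hm (D.eq_zero_symm H)
      (h.mem_zSet hX hy y1 a2 (D.mem_perp_span_singleton.1 a1)))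
    refine ⟨x', b1, (Submodule.smul_mem_iff _ (?_ : θ * D.B x ((1 : F) • z) ≠ 0)).1 (b2 ▸
      Submodule.add_mem_sup (Submodule.smul_mem _ _ (self_mem_span _))
        (Submodule.smul_mem _ _ (self_mem_span _)))⟩
    simp [h.θ_ne, D.ne_zero_symm a3]
  by_cases h1 : x ∈ F ∙ y
  · obtain ⟨c, rfl⟩ := Submodule.mem_span_singleton.1 h1
    exact ⟨c, left_ne_zero_of_smul x0, y, hy, rfl⟩
  obtain ⟨v, a1, a2⟩ := A y hy y1 y0 H h1
  obtain ⟨_, b1, _, b2, hx'⟩ := Submodule.mem_sup.1 a2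
  obtain ⟨β, rfl⟩ := Submodule.mem_span_singleton.1 b1
  obtain ⟨α, rfl⟩ := Submodule.mem_span_singleton.1 b2
  have v0 : v ∉ F ∙ y := fun h2 => h1 (hx' ▸ add_mem (Submodule.smul_mem _ _ h2) b2)
  have β0 : β ≠ 0 := by rintro rfl; exact h1 (by simpa [← hx'] using b2)
  by_cases α0 : α = 0
  · exact ⟨β, β0, v, a1, by simp [← hx', α0]⟩
  have H' : D.B y v = 0 := by simpa [← hx', D.B_self_of_Q y1, β0] using H
  have v1 : D.Q v = 0 := by
    have h2 := hx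
    rw [← hx', D.Q_add_smul y1, D.Q_smul] at h2
    simpa [D.eq_zero_symm H', β0] using h2
  have θk : θ ∈ k := by simpa using h.θ_mem
  have Z : ∀ {y v : V}, y ∈ rat k b → v ∈ rat k b → ∀ y1 : D.Q y = 0, y ≠ 0 → v ∉ F ∙ y → ∀ s : F,
      s • v ∈ zSet X y y1 → s ∈ k := fun {y v} hy hv y1 y0 v0 s hs => by
    obtain ⟨z, c1, c2, c3⟩ := h.exists_B_eq (ratSub_span hy) v0 hv (one_mem k)
    obtain ⟨x', d1, c, d2⟩ := hZ y hy y0 y1 _ hs
    have := congrArg (D.B z) d2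
    rw [mem_perp_span_singleton] at c1
    rw [one_mul] at c3
    simp only [D.B_lin, c3, D.eq_zero_symm c1, mul_one, mul_zero, add_zero] at this
    exact this ▸ h.B_mem z c2 x' d1
  have N : ∀ {y v : V} {α β : F}, y ∈ rat k b → v ∈ rat k b → D.Q y = 0 → y ≠ 0 → v ∉ F ∙ y → D.B y x = 0 →
      β • v + α • y = x → β * σ β ∈ k := fun {y v α β} hy hv y1 y0 v0 H hx' => by
    obtain ⟨z, c1, c2, c3⟩ := h.exists_B_eq (ratSub_span hy) v0 hv (one_mem k)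
    rw [mem_perp_span_singleton] at c1
    rw [one_mul] at c3
    have h2 := h.tv_sub hx hm (D.eq_zero_symm H) (h.mem_zSet hX hy y1 c2 c1)
    have h3 := Z hy hv y1 y0 v0 (θ * (β * σ β)) (by
      convert sub_mem h2 (smul_mem_zSet y1 (θ * σ β * α)) using 1
      simp only [← hx', D.B_lin, c1, B_symm D z v, c3, map_one]
      module)
    simpa [h.θ_ne] using mul_mem (inv_mem θk) h3
  have n1 := N hy a1 y1 y0 v0 H hx'
  have n2 := N a1 hy v1 (by rintro rfl; simp at v0) (not_mem_symm y0 v0)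
    (by simp [← hx', D.B_self_of_Q v1, D.eq_zero_symm H']) ((add_comm _ _).trans hx')
  have n3 := Z hy a1 y1 y0 v0 _ (h.split hX hy a1 y1 v1 H' (hx'.symm.trans (add_comm _ _)) hx h.tr hm
    (by simpa using mul_mem θk n2) (by simpa using mul_mem θk n1))
  have θ0 := h.θ_ne
  have α1 : σ α ≠ 0 := (map_ne_zero σ).2 α0
  refine ⟨α, α0, y + (β / α) • v, add_mem hy (rat_smul ?_ a1), ?_⟩
  · convert div_mem (neg_mem n3) (mul_mem θk n2) using 1
    field_simp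
  · rw [← hx']; match_scalars <;> field_simp

theorem mem_of_perp {g : D.isom} (hg : g ∈ X) {u y : V} (hu : u ∈ rat k b) (u1 : D.Q u = 0) (u0 : u ≠ 0)
    (hy : y ∈ rat k b) (y1 : D.Q y = 0) (y0 : y ≠ 0) (H : D.B y (g.1 u) = 0) : g ∈ D.ratS k b := by
  have A : ∀ {u y : V}, u ∈ rat k b → D.Q u = 0 → u ≠ 0 → y ∈ rat k b → D.Q y = 0 → y ≠ 0 →
      D.B y (g.1 u) = 0 → ∃ c : F, c ≠ 0 ∧ ∃ x' ∈ rat k b, g.1 u = c • x' :=
    fun {u y} hu u1 u0 hy y1 y0 H => h.point hX hZ (by simpa using u1) (g.1.map_ne_zero_iff.2 u0)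
      (h.tv_conj hX hu u1 hg (by simpa using u1)) hy y1 y0 H
  have B : ∀ {u t : V}, D.Q u = 0 → u ≠ 0 → t ∈ rat k b → D.Q t = 0 → t ≠ 0 → D.B u t = 0 →
      (∃ c : F, c ≠ 0 ∧ ∃ x' ∈ rat k b, g.1 u = c • x') →
      ∃ c : F, c ≠ 0 ∧ ∃ x' ∈ rat k b, g.1 t = c • x' := by
    rintro u t u1 u0 ht t1 t0 H ⟨c, c0, x, hx, h1⟩
    have h2 : x = c⁻¹ • g.1 u := by rw [h1, inv_smul_smul₀ c0]
    exact A ht t1 t0 hx (h2 ▸ D.Q_smul_of_Q (by simpa using u1) _) (by simp [h2, c0, u0])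
      (by simp [h2, H])
  refine h.mem_of_points fun w hw w1 w0 => ?_
  obtain ⟨t, a1, a2, a3, a4, a5, -⟩ := h.exists_link hu hw u1 w1 u0 w0
  have t0 : t ≠ 0 := by rintro rfl; simp at a5
  exact B a2 t0 hw w1 w0 (D.eq_zero_symm a4) (B u1 u0 a1 a2 t0 a3 (A hu u1 u0 hy y1 y0 H))

theorem mem_of_mem {g : D.isom} (hg : g ∈ X) {u : V} (hu : u ∈ rat k b) (u1 : D.Q u = 0) (u0 : u ≠ 0)
    {U : Submodule F V} (hU : RatSub k b U) (h2 : finrank F U ≤ 2) (H : g.1 u ∈ U) :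
    g ∈ D.ratS k b := by
  have := h.four
  obtain ⟨y, a1, a2, a3, a4⟩ := h.exists_sing hU ⊥ (by simp; omega)
  exact h.mem_of_perp hX hZ hg hu u1 u0 a2 a4 (by simpa using a3) (D.eq_zero_symm (a1 _ H))

omit hZ in
include c1 c2 in
theorem E_le_odd (hr : finrank k F ≠ 2) (hX' : ¬ X ≤ D.ratS k b) : D.E ≤ X := by
  have hn := h.four
  have : Finite V := Module.finite_of_finite F
  have : Nontrivial V := Module.nontrivial_of_finrank_pos (R := F) (by omega)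
  refine (h.dichotomy hX c1 c2).resolve_left
    fun hZ => hX' fun g hg => ?_
  have θk : θ ∈ k := by simpa using h.θ_mem
  have θ0 := h.θ_ne
  have θ1 := eq_neg_of_add_eq_zero_right h.tr
  have hB : ∀ x ∈ rat k b, ∀ y ∈ rat k b, D.B x y ∈ k := by simpa using h.B_mem
  have r1 : ∀ {u : V}, D.Q u = 0 → D.IsRk1 u θ := h.r1
  have r2 : ∀ u ∈ rat k b, ∀ hu : D.Q u = 0, D.rk1 u θ (r1 hu) ∈ X := fun u => h.tv_mem hX
  obtain ⟨v, v1, u, u1, v4, u2, v2, v3, u3⟩ := h.exists_pair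
  have u0 : u ≠ 0 := by rintro rfl; simp at u3
  have fin : ∀ U, RatSub k b U → finrank F U ≤ 2 → g.1 u ∈ U → g ∈ D.ratS k b := fun U =>
    h.mem_of_mem hX hZ hg u1 u2 u0
  by_cases h2 : (2 : F) = 0
  · have s1 : ∀ u (hu : D.Q u = 0), u ≠ 0 → supp (D.rk1 u θ (r1 hu)).1 = F ∙ u := fun u hu u0 => by
      obtain ⟨y, hy⟩ := h.nd.exists_ne_zero u0
      exact le_antisymm (supp_le.2 fun x => by
        simp [rk1_apply, Submodule.smul_mem _ _ (self_mem_span _)])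
        ((Submodule.span_singleton_le_iff_mem _ _).2 (mem_supp.2 ⟨(θ * D.B u y)⁻¹ • y, by
          simp only [rk1_apply, D.B_lin]; match_scalars <;> field_simp <;> ring⟩))
    have s2 : ∀ u (hu : D.Q u = 0), D.rk1 u θ (r1 hu) * D.rk1 u θ (r1 hu) = 1 := fun u hu =>
      isom_ext fun x => by
        simp only [isom_mul_apply, rk1_apply, D.B_lin, D.B_self_of_Q hu, isom_one_apply]
        linear_combination (norm := module) (h2 * θ * D.B u x) • u
    have v0 : v ≠ 0 := by rintro rfl; simp at v3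
    obtain ⟨s3, s4⟩ := h.nd.supp_mul (a := D.rk1 u θ (r1 u2)) (a' := D.rk1 v θ (r1 v4))
      (by rw [s1 u u2 u0, s1 v v4 v0, Submodule.span_singleton_le_iff_mem, mem_perp_span_singleton,
        D.eq_zero_symm v2])
      (by rw [s1 u u2 u0, s1 v v4 v0]; exact ((Submodule.disjoint_span_singleton' v0).2 v3).symm)
    obtain ⟨a, ha⟩ : ∃ a, a = D.rk1 u θ (r1 u2) := ⟨_, rfl⟩
    obtain ⟨c, hc⟩ : ∃ c, c = g * (a * D.rk1 v θ (r1 v4)) * g⁻¹ := ⟨_, rfl⟩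
    have a1 : a ∈ X := ha ▸ r2 u u1 u2
    have c1 : c ∈ X := hc ▸ mul_mem (mul_mem hg (mul_mem a1 (r2 v v1 v4))) (inv_mem hg)
    have c2 : c * c = 1 := by
      rw [hc, conj_mul, ha, mul_assoc (D.rk1 u _ _), ← mul_assoc (D.rk1 v _ _), ← s3,
        mul_assoc (D.rk1 u _ _) (D.rk1 v _ _), s2 v v4, mul_one, s2 u u2]; simp
    have c3 : supp c.1 = ((F ∙ u) ⊔ F ∙ v).map (g.1 : V →ₗ[F] V) := by
      rw [← s1 u u2 u0, ← s1 v v4 v0, ← s4, hc, ha]; exact supp_conj g.1 _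
    have c4 : finrank F (supp c.1) = 2 := by rw [c3, finrank_map_isom, finrank_two u0 v3]
    have a2 : supp a.1 = F ∙ u := ha ▸ s1 u u2 u0
    have a3 := finrank_span_singleton (K := F) u0
    obtain ⟨j, d1, d2, d3, d4, d5⟩ := exists_central_invol (a := a.1) (b := c.1)
      (congrArg Subtype.val (ha ▸ s2 u u2)) (congrArg Subtype.val c2) (by rw [a2]; omega)
    rw [a2] at d3
    have d7 : ((a * c) ^ j).1 u ∈ F ∙ u := d3.le (Submodule.mem_map_of_mem (self_mem_span u))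
    have e1 := (ratMap_of_invol (w := ((a * c) ^ j).1) h.prime (h.mem_of_mem hX hZ
      (pow_mem (mul_mem a1 c1) j) u1 u2 u0 (ratSub_span u1)
      ((finrank_span_singleton_le u).trans (by omega)) d7) d2 (Or.inl h2)).supp
    obtain ⟨w, w1, w2, w3⟩ := exists_rat_supp d1 e1
    have w4 := h.nd.supp_le_perp h2 (w := (a * c) ^ j) (Subtype.ext d2)
    have w5 := (herm_Q D w).trans (w4 w1 w w1)
    have e2 := (ratMap_of_invol (w := c.1) h.prime (h.mem_of_perp hX hZ c1 w2 w5 w3 w2 w5 w3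
      (w4 (d4.le (Submodule.mem_map_of_mem w1)) w w1)) (congrArg Subtype.val c2) (Or.inl h2)).supp
    exact fin _ e2 c4.le (c3 ▸ Submodule.mem_map_of_mem (Submodule.mem_sup_left (self_mem_span u)))
  obtain ⟨x, hx⟩ : ∃ x, x = g.1 u := ⟨_, rfl⟩
  have x1 : D.Q x = 0 := by simp [hx, u2]
  have x2 : D.rk1 x θ (r1 x1) ∈ X := by
    subst hx
    rw [← D.conj_rk1 g u θ (r1 u2)]
    exact mul_mem (mul_mem hg (r2 u u1 u2)) (inv_mem hg)
  have a1 : ∀ y ∈ rat k b, D.Q y = 0 → D.B y x * σ (D.B y x) ∈ k := fun y hy y1 => by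
    by_contra h3
    have h4 : θ ^ 2 * (D.B y x * σ (D.B y x)) ∉ k := fun H =>
      h3 (by simpa [θ0] using mul_mem (inv_mem (pow_mem θk 2)) H)
    obtain ⟨_, ⟨m, h5, rfl⟩, h6⟩ := dickson_nil h2 (X := X.map D.isom.subtype)
      (N := (θ • D.B y).smulRight y) (M := (θ • D.B x).smulRight x)
      (l := θ ^ 2 * (D.B y x * σ (D.B y x))) (fun H => h4 (H ▸ zero_mem k))
      (fun H => h4 (mem_of_sq_mem h.prime hr (H ▸ neg_mem (one_mem k))))
      (by simp [D.B_self_of_Q y1]) (by simp [D.B_self_of_Q x1])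
      (fun v => by simp [B_symm D y x]; module) (fun v => by simp [B_symm D y x]; module)
      ⟨_, ⟨_, r2 y hy y1, rfl⟩, fun v => by simp [rk1_apply]⟩ ⟨_, ⟨_, x2, rfl⟩, fun v => by simp [rk1_apply]⟩
    have y0 : y ≠ 0 := by rintro rfl; simp at h3
    have := finrank_span_singleton_le (F := F) y
    obtain ⟨w, w2, w1, w3, w4⟩ := h.exists_sing (ratSub_span hy) (F ∙ y) (by omega)
    rw [mem_perp_span_singleton] at w2
    obtain ⟨z, z2, z1, z3⟩ := h.exists_B_eq (ratSub_span w1) (x := y) (by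
      simpa using exchange_span (W := ⊥) (by simpa using y0) (by simpa using w3)) hy (one_mem k)
    rw [mem_perp_span_singleton] at z2
    obtain ⟨x', a1, c, a2⟩ := hZ w w1 (by rintro rfl; simp at w3) w4 _
      (sub_mem_zSet (h.mem_zSet hX w1 w4 z1 z2) h5 ((h6 w).trans (by simp [w2])))
    have := congrArg (D.B z) a2
    rw [one_mul] at z3
    rw [show m.1 _ = _ from h6 _] at this
    simp [D.eq_zero_symm z2, B_symm D z y, z3] at this
    have h7 := mul_mem (hB z z1 x' a1) (inv_mem θk)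
    rw [← this, mul_inv_cancel_right₀ θ0] at h7
    exact h4 h7
  obtain ⟨e, e1, e2, β, β0, H⟩ : ∃ e ∈ rat k b, D.Q e = 0 ∧ ∃ β : F, β ≠ 0 ∧
      ∀ y ∈ rat k b, D.B e y = 0 → D.Q y = 0 → D.B y (β • x) ∈ k := by
    by_cases H : ∀ y ∈ rat k b, D.Q y = 0 → D.B y x = 0
    · exact ⟨u, u1, u2, 1, one_ne_zero, fun y h1 _ h3 => by simp [H y h1 h3]⟩
    push Not at H
    obtain ⟨e, e1, e2, e3⟩ := H
    refine ⟨e, e1, e2, σ (D.B e x), by simpa, fun y y1 y2 y3 => ?_⟩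
    have k1 := fun c h3 => sub_mem (sub_mem
      (a1 _ (add_mem e1 (rat_smul (a := c) h3 y1)) (by rw [D.Q_add_smul y3, e2, y2]; simp)) (a1 e e1 e2))
      (a1 _ (rat_smul h3 y1) (D.Q_smul_of_Q y3 c))
    convert div_mem (sub_mem (k1 1 (one_mem k)) (div_mem (k1 θ θk) θk)) (ofNat_mem k 2) using 1
    simp only [D.B_lin]
    simp only [map_add, map_mul, θ1, map_neg, map_one, hc.σσ]
    field_simp; ring
  obtain ⟨T, t1, t2, t3⟩ := exists_proj k
  have : D.perp (F ∙ e) ≤ D.perp (F ∙ (β • x - pr b T (β • x))) :=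
    (h.perp (ratSub_span e1)).le fun y hy hr => by
      have h4 := h.B_pr hr t1 (β • x)
      rw [one_mul, one_mul, t3 _ (h.induct e1 e2 (P := fun y => D.B y (β • x) ∈ k) H
        (fun _ _ h1 h2 => by rw [B_sub_left]; exact sub_mem h1 h2) hr
        (D.mem_perp_span_singleton.1 hy))] at h4
      exact D.mem_perp_span_singleton.2 (D.eq_zero_symm (by rw [B_sub_right, h4, sub_self]))
  exact fin _ ((ratSub_span (pr_mem t2 (β • x))).sup (ratSub_span e1)) (finrank_two_le _ _)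
    ((Submodule.smul_mem_iff _ β0).1 (by
      simpa [hx] using Submodule.add_mem_sup (self_mem_span (pr b T (β • x)))
        (h.nd.perp_le_perp.1 this (self_mem_span _))))

end RatW

end Cfsg.Lib.Forms

namespace Cfsg.Lib.Forms

open Module Form Herm Cfsg.Geo Matrix

theorem su4_rat {F : Type*} [Field F] [Fintype F] (q : ℕ) (hF : Fintype.card F = q ^ 2) :
    ∀ (F₀ : Subfield F) (r : ℕ) (P : GL (Fin 4) F), r.Prime → Odd r → Fintype.card F = Nat.card F₀ ^ r →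
      IsFormRationalStructure (hermForm 4 F q) F₀ 1 P → IsMaximalIn (GU 4 F q ⊓ specialLinear (Fin 4) F)
        (subfieldSubgroup F₀ P ⊓ (GU 4 F q ⊓ specialLinear (Fin 4) F)) := by
  intro F₀ r P hr hro hcard hP
  obtain ⟨σ, hc⟩ := isConj_of_card hF
  have hn' : finrank F (Fin 4 → F) = 4 := by simp
  have hr' : (finrank F₀ F).Prime := (finrank_of_card hcard).symm ▸ hr
  obtain ⟨a, h1, h2⟩ : ∃ a ∈ F₀, σ a ≠ a := by
    by_contra! H
    rcases subring_prime hr' (RingHom.eqLocus σ (RingHom.id F)) H with h | h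
    · have : Nat.card F₀ = q := hc.card_fixed ▸ Nat.card_congr
        (Equiv.subtypeEquivRight fun x => ⟨H x, h x⟩)
      rw [this, hF] at hcard
      have := Nat.pow_right_injective hc.two_le hcard
      exact absurd hro (by rw [← (this : 2 = r)]; decide)
    · exact hc.ne_id (RingHom.ext h)
  have hB : ∀ x ∈ rat F₀ (colBasis P), ∀ y ∈ rat F₀ (colBasis P), (stdHerm hc (Fin 4)).B x y ∈ F₀ :=
    fun x hx y hy => by
      obtain ⟨u, hu, rfl⟩ := (mem_rat_colBasis _ _).1 hx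
      obtain ⟨v, hv, rfl⟩ := (mem_rat_colBasis _ _).1 hy
      simpa [hermForm_eq hc] using hP v u hv hu
  have hσ : ∀ a ∈ F₀, σ a ∈ F₀ := fun a ha => hc.apply a ▸ pow_mem ha q
  have h : RatW (stdHerm hc (Fin 4)) F₀ (colBasis P) 1 (a - σ a) := ⟨⟨stdHerm_nondeg hc (Fin 4), one_ne_zero,
    by simpa using hB, hσ, by simp, fun x hx => ?_, Herm.rat_sing2 hB h1 h2, hr', by omega⟩,
    by simpa using sub_mem h1 (hσ a h1), sub_ne_zero.2 h2.symm, by simp [hc.σσ]⟩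
  · exact isMaximalIn_map (su_eq hc (by omega)) (comap_subfieldSubgroup' _ _ _) h.not_E_le
      fun X hX => h.E_le_odd hX h1 h2 (by
        rw [finrank_of_card hcard]; rintro rfl; exact absurd hro (by decide))
  generalize stdHerm hc (Fin 4) = D at *
  have h4 : D.Q x ∈ F₀ := by simpa [herm_Q] using hB x hx x hx
  have h3 := herm_σ_Q D x
  obtain ⟨c, h4', h5, h6⟩ : ∃ c ∈ F₀, c + σ c ≠ 0 ∧ c + σ c ∈ F₀ := by
    by_cases h0 : (2 : F) = 0
    · exact ⟨a, h1, fun H => h2 (by linear_combination H - a * h0), add_mem h1 (hσ a h1)⟩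
    · exact ⟨1, one_mem F₀, by simpa [one_add_one_eq_two] using h0, by simp [add_mem]⟩
  refine ⟨D.Q x * c / (c + σ c), by simpa using div_mem (mul_mem h4 h4') h6, ?_⟩
  simp only [hermKind_tr, map_div₀, map_mul, map_add, h3, hc.σσ, add_comm (σ c)]
  field_simp

theorem su4_symp {F : Type*} [Field F] [Fintype F] (q : ℕ) (hF : Fintype.card F = q ^ 2) :
    ∀ (F₀ : Subfield F) (P : GL (Fin 4) F) (ζ : F), Fintype.card F = Nat.card F₀ ^ 2 → ζ ≠ 0 → ζ + ζ ^ q = 0 →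
      IsFormRationalStructure (hermForm 4 F q) F₀ ζ P → (∀ u : Fin 4 → F, (∀ i, u i ∈ F₀) →
        hermForm 4 F q ((P : Matrix (Fin 4) (Fin 4) F) *ᵥ u) ((P : Matrix (Fin 4) (Fin 4) F) *ᵥ u) = 0) →
      IsMaximalIn (GU 4 F q ⊓ specialLinear (Fin 4) F)
        (subfieldSubgroup F₀ P ⊓ (GU 4 F q ⊓ specialLinear (Fin 4) F)) := by
  intro F₀ P ζ hcard hζ0 hζ hP halt
  obtain ⟨σ, hc⟩ := isConj_of_card hF
  have hn' : finrank F (Fin 4 → F) = 4 := by simp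
  have hQ : ∀ x ∈ rat F₀ (colBasis P), (stdHerm hc (Fin 4)).Q x = 0 := fun x hx => by
    obtain ⟨u, hu, rfl⟩ := (mem_rat_colBasis _ _).1 hx
    exact hermForm_self hc 4 _ ▸ halt u hu
  have h0 : ∀ U, RatSub F₀ (colBasis P) U → 2 ≤ finrank F U →
      ∃ e ∈ U, e ∈ rat F₀ (colBasis P) ∧ e ≠ 0 ∧ (stdHerm hc (Fin 4)).Q e = 0 := fun U hU h3 => by
    obtain ⟨e, h1, h2, h4⟩ := hU.exists_not_mem (W := ⊥) fun H => by
      rw [le_bot_iff.1 H] at h3; simp at h3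
    exact ⟨e, h1, h2, by simpa using h4, hQ e h2⟩
  have h : RatW (stdHerm hc (Fin 4)) F₀ (colBasis P) ζ ζ := ⟨⟨stdHerm_nondeg hc (Fin 4), hζ0,
    fun x hx y hy => by
      obtain ⟨u, hu, rfl⟩ := (mem_rat_colBasis _ _).1 hx
      obtain ⟨v, hv, rfl⟩ := (mem_rat_colBasis _ _).1 hy
      exact hermForm_eq hc 4 _ _ ▸ hP v u hv hu,
    fun a ha => hc.apply a ▸ pow_mem ha q,
    by rw [hc.apply, eq_neg_of_add_eq_zero_right hζ, neg_div, div_self hζ0]; simp,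
    fun x hx => ⟨0, by simp, by simp [hQ x hx]⟩, h0,
    (finrank_of_card hcard).symm ▸ Nat.prime_two, by omega⟩,
    by simp [hζ0], hζ0, by rwa [hc.apply]⟩
  exact isMaximalIn_map (su_eq hc (by omega)) (comap_subfieldSubgroup' _ _ _) h.not_E_le
    fun X hX => h.E_le_symp hX (hc.mem_iff_fixed (Nat.card_eq_fintype_card.trans hcard)) h.tr hQ

end Cfsg.Lib.Forms
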