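import Cfsg.Agent.Lib.MaxU.R6O

/-! Orthogonal subfield subgroups of the four-dimensional unitary group: point stabilisers. -/

set_option autoImplicit false

namespace Cfsg.Lib.Forms

open Module Form Herm

variable {F V ι : Type*} [Field F] [AddCommGroup V] [Module F V] {σ : F →+* F} {q : ℕ}
  {hc : IsConj σ q} {D : Form hc.kind V} {X : Subgroup D.isom}

namespace Uo

variable (D) in
/-- The unitary reflection of order two. -/
noncomputable def rf (v : V) : D.isom := D.rk1 v (-2 / D.Q v) (Herm.isRk1_iff.2 (by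
  by_cases h : D.Q v = 0
  · simp [h]
  · rw [map_div₀, map_neg, map_ofNat, herm_σ_Q]; field_simp; ring))

theorem rf_apply (v x : V) : (rf D v).1 x = x + (-2 / D.Q v * D.B v x) • v := rfl

theorem rf_perp {v x : V} (h : D.B v x = 0) : (rf D v).1 x = x := by simp [rf_apply, h]

theorem rf_self {v : V} (h : D.Q v ≠ 0) : (rf D v).1 v = -v := by
  rw [rf_apply, ← herm_Q]; match_scalars; field_simp; ring

theorem rf_rf (v x : V) : (rf D v).1 ((rf D v).1 x) = x := by
  by_cases h : D.Q v = 0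
  · simp [rf_apply, h]
  rw [rf_apply v x, map_add, map_smul, rf_self h, rf_apply]; module

theorem rf_conj (g : D.isom) (v : V) {c : F} (h : c ≠ 0) : g * rf D v * g⁻¹ = rf D (c • g.1 v) :=
  isom_ext fun x => by
    have : σ c ≠ 0 := (map_ne_zero σ).2 h
    simp only [isom_mul_apply, rf_apply, map_add, map_smul, isom_apply_inv, D.Q_smul, Q_isom, D.B_smul_left,
      B_isom_left]
    by_cases h1 : D.Q v = 0
    · simp [h1]
    match_scalars <;> field_simp

theorem rf_swap (h2 : (2 : F) ≠ 0) {u v : V} (hu : D.Q u = 0) (hv : D.Q v = 0) (h : D.B u v ≠ 0)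
    (h' : D.B v u = D.B u v) : (rf D (u - v)).1 u = v := by
  rw [rf_apply, herm_Q]
  simp only [D.B_lin, D.B_self_of_Q hu, D.B_self_of_Q hv, h']
  rw [show 0 - D.B u v - (D.B u v - 0) = -2 * D.B u v by ring]
  match_scalars <;> field_simp <;> ring

theorem rf_mem_E [FiniteDimensional F V] (hD : D.Nondeg) (hn : 3 ≤ finrank F V) {u v : V} (hu : D.Q u ≠ 0)
    (hv : D.Q v ≠ 0) : rf D u * rf D v ∈ D.E := by
  rw [Herm.E_eq hD hn, MonoidHom.mem_ker, map_mul, Units.ext_iff, Units.val_mul, rf, rf, det_rk1, det_rk1,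
    ← herm_Q, ← herm_Q, Units.val_one]
  field_simp; ring

end Uo

open Uo

variable [Fintype ι] [Finite F] [FiniteDimensional F V] {k : Subfield F} {b : Basis ι F V} {ω κ : F}

variable (D) in
structure RatQ (k : Subfield F) (b : Basis ι F V) (ω κ : F) : Prop where
  nd : D.Nondeg
  hB : ∀ {x y}, x ∈ rat k b → y ∈ rat k b → D.B x y ∈ k
  fix : ∀ a, a ∈ k ↔ σ a = a
  two : (2 : F) ≠ 0
  ω_ne : ω ≠ 0
  tr : σ ω = -ω
  four : finrank F V = 4
  κ_mem : κ ∈ k
  κ_ne : κ ≠ 0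
  κ_sq : κ ^ 2 ≠ 1

namespace RatQ

variable (h : RatQ D k b ω κ)
include h

omit [Finite F] [FiniteDimensional F V] [Fintype ι] in
theorem eq_zero {d : F} (h1 : d ∈ k) (h2 : d + σ d = 0) : d = 0 :=
  (mul_eq_zero.1 (by linear_combination h2 - (h.fix d).1 h1)).resolve_left h.two

omit [Finite F] [FiniteDimensional F V] [Fintype ι] in
theorem ω_mul {a : F} (h1 : a ∈ k) (h2 : ω * a ∈ k) : a = 0 :=
  (mul_eq_zero.1 (h.eq_zero h2 (by rw [map_mul, h.tr, (h.fix a).1 h1]; ring))).resolve_left h.ω_ne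

omit [Finite F] [FiniteDimensional F V] [Fintype ι] in
theorem norm_mem (a : F) : a * σ a ∈ k := (h.fix _).2 (by rw [map_mul, hc.σσ, mul_comm])

omit [Finite F] [FiniteDimensional F V] [Fintype ι] in
theorem symm {x y : V} (hx : x ∈ rat k b) (hy : y ∈ rat k b) : D.B y x = D.B x y := by
  rw [B_symm D x y, (h.fix _).1 (h.hB hx hy)]

omit [Finite F] [FiniteDimensional F V] [Fintype ι] in
theorem hQ {x : V} (hx : x ∈ rat k b) : D.Q x ∈ k := herm_Q D x ▸ h.hB hx hx

omit [Finite F] [FiniteDimensional F V] [Fintype ι] in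
theorem rf_rat {v : V} (hv : v ∈ rat k b) : RatMap k b (rf D v).1 := fun x hx =>
  add_mem hx (rat_smul (mul_mem (div_mem (neg_mem (ofNat_mem k 2)) (h.hQ hv)) (h.hB hv hx)) hv)

omit [Finite F] [FiniteDimensional F V] in
theorem decomp {U : Submodule F V} (hU : RatSub k b U) {v : V} (hv : v ∈ U) :
    ∃ v₀ ∈ U, ∃ v₁ ∈ U, v₀ ∈ rat k b ∧ v₁ ∈ rat k b ∧ v = v₀ + ω • v₁ := by
  have := h.two
  have := h.ω_ne
  let T₀ : F →+ F := AddMonoidHom.mk' (fun a => (a + σ a) / 2) fun x y => by simp; ring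
  let T₁ : F →+ F := AddMonoidHom.mk' (fun a => (a - σ a) / (2 * ω)) fun x y => by simp; ring
  refine ⟨_, hU T₀ (fun a ha x => by simp [T₀, (h.fix a).1 ha]; ring) v hv,
    _, hU T₁ (fun a ha x => by simp [T₁, (h.fix a).1 ha]; ring) v hv,
    pr_mem (fun a => (h.fix _).2 ?_) v, pr_mem (fun a => (h.fix _).2 ?_) v, b.repr.injective ?_⟩
  · simp [T₀, hc.σσ, add_comm, map_ofNat]
  · simp only [T₁, AddMonoidHom.mk'_apply, map_div₀, map_sub, map_mul, hc.σσ, h.tr, map_ofNat]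
    field_simp; ring
  · ext i
    simp [T₀, T₁]
    field_simp; ring

omit [FiniteDimensional F V] in
theorem perp {U : Submodule F V} (hU : RatSub k b U) : RatSub k b (D.perp U) := fun T hT v hv => by
  have : U ≤ D.perp (F ∙ pr b T v) := hU.le fun x hx hr => by
    have := RatFun.pr (φ := D.B x) (fun y hy => h.hB hr hy) hT v
    rw [hv x hx, map_zero] at this
    exact D.mem_perp_span_singleton.2 (D.eq_zero_symm this)
  exact D.le_perp_comm.1 this (self_mem_span _)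

theorem exists_B {H : Submodule F V} (hH : RatSub k b H) {x : V} (hx : x ∉ H) :
    ∃ y ∈ D.perp H, y ∈ rat k b ∧ D.B y x ≠ 0 := by
  obtain ⟨y, h1, h2, h3⟩ := (h.perp hH).exists_not_mem (W := D.perp (F ∙ x)) fun H =>
    hx (h.nd.perp_le_perp.1 H (self_mem_span x))
  exact ⟨y, h1, h2, fun H => h3 (D.mem_perp_span_singleton.2 (D.eq_zero_symm H))⟩

theorem exists_B_one {H : Submodule F V} (hH : RatSub k b H) {x : V} (hx : x ∉ H) (hr : x ∈ rat k b) :
    ∃ y ∈ D.perp H, y ∈ rat k b ∧ D.B y x = 1 := by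
  obtain ⟨y, h1, h2, h3⟩ := h.exists_B hH hx
  have h4 := inv_mem (h.hB h2 hr)
  exact ⟨_, Submodule.smul_mem _ _ h1, rat_smul h4 h2, by rw [D.B_smul_left, (h.fix _).1 h4, inv_mul_cancel₀ h3]⟩

omit [Finite F] [FiniteDimensional F V] [Fintype ι] in
theorem exists_sing {e w : V} (he : e ∈ rat k b) (hQ : D.Q e = 0) (hw : w ∈ rat k b) (H : D.B w e ≠ 0) :
    ∃ c ∈ k, D.Q (w + c • e) = 0 := by
  have := h.two
  have h1 := div_mem (neg_mem (h.hQ hw)) (mul_mem (ofNat_mem k 2) (h.hB hw he))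
  refine ⟨_, h1, ?_⟩
  rw [D.Q_add_smul hQ, hermKind_tr, (h.fix _).1 (mul_mem h1 (h.hB hw he))]
  field_simp; ring

theorem exists_hyp {U : Submodule F V} (hU : RatSub k b U) {e : V} (he : e ∈ rat k b) (hQ : D.Q e = 0)
    (h1 : e ∈ U) (h2 : e ∉ D.perp U) : ∃ f ∈ U, f ∈ rat k b ∧ D.Q f = 0 ∧ D.B e f = 1 ∧ D.B f e = 1 := by
  obtain ⟨w, a1, a2, a3⟩ := h.exists_B_one (h.perp hU) h2 he
  rw [h.nd.perp_perp] at a1
  obtain ⟨c, c1, c2⟩ := h.exists_sing he hQ a2 (by simp [a3])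
  exact ⟨_, add_mem a1 (U.smul_mem _ h1), add_mem a2 (rat_smul c1 he), c2,
    by simp [D.B_self_of_Q hQ, h.symm a2 he, a3], by simp [D.B_self_of_Q hQ, a3]⟩

omit [FiniteDimensional F V] in
theorem exists_ns {U : Submodule F V} (hU : RatSub k b U) (H : ¬ U ≤ D.perp U) :
    ∃ c ∈ U, c ∈ rat k b ∧ D.Q c ≠ 0 := by
  by_contra! h1
  refine H (hU.le fun x hx x1 => D.mem_perp.2 fun y hy => D.mem_perp_span_singleton.1 ?_ |> D.eq_zero_symm)
  refine hU.le (W := D.perp (F ∙ x)) (fun y hy y1 => D.mem_perp_span_singleton.2 ?_) hy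
  have := h1 _ (add_mem hx hy) (add_mem x1 y1)
  rw [D.Q_add, h1 x hx x1, h1 y hy y1, hermKind_tr] at this
  exact h.eq_zero (h.hB x1 y1) (by simpa using this)

theorem exists_ns_perp {e : V} (he : e ∈ rat k b) {f : V} (hf : f ∈ rat k b) (e1 : D.Q e = 0) (f1 : D.Q f = 0)
    (H : D.B e f ≠ 0) : ∃ c ∈ rat k b, D.B e c = 0 ∧ D.B f c = 0 ∧ D.Q c ≠ 0 := by
  have h4 := h.four
  obtain ⟨c, c1, c2, c3⟩ := h.exists_ns (h.perp ((ratSub_span he).sup (ratSub_span hf))) fun h1 => by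
    have h2 := h.nd.finrank_perp ((F ∙ e) ⊔ F ∙ f)
    have h3 := finrank_two_le (F := F) e f
    rw [h.nd.perp_perp] at h1
    have h5 := (Submodule.eq_of_le_of_finrank_le h1 (by omega)).ge (Submodule.mem_sup_right (self_mem_span f))
    exact H (h5 e (Submodule.mem_sup_left (self_mem_span e)))
  rw [mem_perp_sup_span, mem_perp_span_singleton] at c1
  exact ⟨c, c2, c1.1, c1.2, c3⟩

omit [Finite F] [FiniteDimensional F V] [Fintype ι] in
theorem isE {e z : V} (hQ : D.Q e = 0) (H : D.B e z = 0) : D.IsEich e z (D.Q z / 2) :=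
  ⟨hQ, H, by have := h.two; rw [hermKind_tr, map_div₀, herm_σ_Q, map_ofNat]; field_simp; ring⟩

omit [Finite F] [FiniteDimensional F V] [Fintype ι] in
theorem eich_rat {e z : V} (he : e ∈ rat k b) (hQ : D.Q e = 0) (hz : z ∈ rat k b) (H : D.B e z = 0) :
    RatMap k b (D.eich e z _ (h.isE hQ H)).1 := fun x hx => by
  rw [eich_apply, hermKind_ε, one_mul]
  exact sub_mem (add_mem hx (rat_smul (h.hB hz hx) he))
    (rat_smul (h.hB he hx) (add_mem hz (rat_smul (div_mem (h.hQ hz) (ofNat_mem k 2)) he)))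

theorem exists_pt : ∃ e ∈ rat k b, e ≠ 0 ∧ D.Q e = 0 := by
  obtain ⟨e, -, h1⟩ := sing_of_quad (D := D) (k := k) (b := b) (ζ := 1) (k' := k) (fun a ha => ⟨ha, (h.fix a).1 ha,
    fun c => by simp [(h.fix a).1 ha, mul_add]⟩) one_ne_zero (fun x hx => by simpa using h.hQ hx) ⊤ ratSub_top
    (by simp [h.four])
  exact ⟨e, h1⟩

omit h [Finite F] [FiniteDimensional F V] in
theorem ratMap_of_fix {g : D.isom} (hg : g ∈ D.ratS k b) {e : V} (he : e ∈ rat k b) (e0 : e ≠ 0) (H : g.1 e = e) :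
    RatMap k b g.1 := by
  obtain ⟨c, c0, h1⟩ := hg
  have h2 : c ∈ k := mem_of_smul_rat he e0 (by simpa [H] using h1 e he)
  exact fun x hx => by simpa [c0] using rat_smul (inv_mem h2) (h1 x hx)

theorem not_E_le : ¬ D.E ≤ D.ratS k b := fun H => by
  obtain ⟨e, he, e0, e1⟩ := h.exists_pt
  obtain ⟨f, -, hf, -, h1, -⟩ := h.exists_hyp ratSub_top he e1 trivial (by simpa [h.nd.perp_top] using e0)
  have hr : D.IsRk1 e ω := (isRk1_iff_of_Q_eq_zero e1).2 (by simp [h.tr])
  have := sub_mem (ratMap_of_fix (H (rk1_mem_E hr e1)) he e0 (by simp [rk1_apply, D.B_self_of_Q e1]) f hf) hf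
  exact one_ne_zero (h.ω_mul (one_mem k) (mem_of_smul_rat he e0 (by simpa [rk1_apply, h1] using this)))

variable (hX : D.E ⊓ D.ratS k b ≤ X)
include hX

theorem rf_mem {u v : V} (hu : u ∈ rat k b) (hv : v ∈ rat k b) (u1 : D.Q u ≠ 0) (v1 : D.Q v ≠ 0) :
    rf D u * rf D v ∈ X :=
  RatF.mem hX (rf_mem_E h.nd (by simp [h.four]) u1 v1) fun x hx => h.rf_rat hu _ (h.rf_rat hv x hx)

theorem eich_mem {e z : V} (he : e ∈ rat k b) (hQ : D.Q e = 0) (hz : z ∈ rat k b) (H : D.B e z = 0) :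
    D.eich e z _ (h.isE hQ H) ∈ X := RatF.mem hX (eich_mem_E _ _ _ _) (h.eich_rat he hQ hz H)

omit [Finite F] [FiniteDimensional F V] hX [Fintype ι] in
theorem Q_sub {u v : V} (hu : u ∈ rat k b) (hv : v ∈ rat k b) (u1 : D.Q u = 0) (v1 : D.Q v = 0)
    (H : D.B u v ≠ 0) : D.Q (u - v) ≠ 0 := by
  rw [herm_Q]
  simp only [D.B_lin, D.B_self_of_Q u1, D.B_self_of_Q v1, h.symm hu hv]
  exact fun h1 => mul_ne_zero h.two H (by linear_combination -h1)

theorem exists_map {e e' : V} (he : e ∈ rat k b) (he' : e' ∈ rat k b) (e1 : D.Q e = 0) (e1' : D.Q e' = 0)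
    (e0 : e ≠ 0) (e0' : e' ≠ 0) : ∃ g ∈ X, RatMap k b g.1 ∧ g.1 e = e' := by
  by_cases H : D.B e e' = 0
  swap
  · obtain ⟨c, c1, -, c2, c3⟩ := h.exists_ns_perp he he' e1 e1' H
    exact ⟨_, h.rf_mem hX c1 (sub_mem he he') c3 (h.Q_sub he he' e1 e1' H),
      fun x hx => h.rf_rat c1 _ (h.rf_rat (sub_mem he he') x hx), by
        rw [isom_mul_apply, rf_swap h.two e1 e1' H (h.symm he he'), rf_perp (D.eq_zero_symm c2)]⟩
  obtain ⟨w, b2, b3, b4⟩ : ∃ w ∈ rat k b, D.B w e ≠ 0 ∧ D.B w e' ≠ 0 := by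
    obtain ⟨y, -, a2, a3⟩ := h.exists_B ratSub_bot (x := e) (by simpa)
    obtain ⟨y', -, b2, b3⟩ := h.exists_B ratSub_bot (x := e') (by simpa)
    by_cases c1 : D.B y e' = 0
    · by_cases c2 : D.B y' e = 0
      · exact ⟨y + y', add_mem a2 b2, by simpa [c2] using a3, by simpa [c1] using b3⟩
      · exact ⟨y', b2, c2, b3⟩
    · exact ⟨y, a2, a3, c1⟩
  obtain ⟨c, c1, c2⟩ := h.exists_sing he e1 b2 b3
  have hf := add_mem b2 (rat_smul c1 he)
  have f1 : D.B e (w + c • e) ≠ 0 := by simpa [D.B_self_of_Q e1] using D.ne_zero_symm b3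
  have f2 : D.B (w + c • e) e' ≠ 0 := by simpa [H] using b4
  exact ⟨_, h.rf_mem hX (sub_mem hf he') (sub_mem he hf) (h.Q_sub hf he' c2 e1' f2) (h.Q_sub he hf e1 c2 f1),
    fun x hx => h.rf_rat (sub_mem hf he') _ (h.rf_rat (sub_mem he hf) x hx), by
      rw [isom_mul_apply, rf_swap h.two e1 c2 f1 (h.symm he hf), rf_swap h.two c2 e1' f2 (h.symm hf he')]⟩

theorem E_le_of_tv {e : V} (he : e ∈ rat k b) (e1 : D.Q e = 0) (e0 : e ≠ 0) {d : F} (d0 : d ≠ 0)
    (hd : D.IsEich e 0 d) (hm : D.eich e 0 d hd ∈ X) : D.E ≤ X := by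
  have t2 := h.two
  have d1 : σ d = -d := by have := hd.tr_d; simp at this; linear_combination this
  have k0 : ∀ {u : V} (u1 : D.Q u = 0) {s : F}, s ∈ k → D.IsEich u 0 (s * d) := fun u1 s hs =>
    ⟨u1, by simp, by simp [(h.fix s).1 hs, d1]⟩
  have k1 : ∀ u ∈ rat k b, ∀ u1 : D.Q u = 0, u ≠ 0 → ∀ s (hs : s ∈ k), D.eich u 0 _ (k0 u1 (mul_mem hs hs)) ∈ X :=
    fun u hu u1 u0 s hs => by
      by_cases s0 : s = 0
      · convert X.one_mem using 1
        exact isom_ext fun x => by simp [eich_apply, s0]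
      obtain ⟨g, a1, -, a3⟩ := h.exists_map hX he (rat_smul hs hu) e1 (D.Q_smul_of_Q u1 s) e0 (smul_ne_zero s0 u0)
      convert mul_mem (mul_mem a1 hm) (inv_mem a1) using 1
      rw [conj_eich]
      exact isom_ext fun x => by simp only [eich_apply, a3, map_zero, LinearMap.zero_apply, D.B_lin, (h.fix s).1 hs]; module
  have k2 : ∀ u ∈ rat k b, ∀ u1 : D.Q u = 0, u ≠ 0 → ∀ s (hs : s ∈ k), D.eich u 0 _ (k0 u1 hs) ∈ X :=
    fun u hu u1 u0 s hs => by
      convert mul_mem (k1 u hu u1 u0 ((s + 1) / 2) (div_mem (add_mem hs (one_mem k)) (ofNat_mem k 2)))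
        (inv_mem (k1 u hu u1 u0 ((s - 1) / 2) (div_mem (sub_mem hs (one_mem k)) (ofNat_mem k 2)))) using 1
      rw [eq_mul_inv_iff_mul_eq, eich_mul]
      exact D.eich_congr _ _ rfl (by simp) (by simp; field_simp; ring)
  have k3 : ∀ e ∈ rat k b, ∀ e1 : D.Q e = 0, e ≠ 0 → D.At X ⊤ e := fun e he e1 e0 => by
    obtain ⟨f, -, hf, f1, f2, f3⟩ := h.exists_hyp ratSub_top he e1 trivial (by simpa [h.nd.perp_top] using e0)
    have f0 : f ≠ 0 := by rintro rfl; simp at f2
    obtain ⟨c, c1, c2, c3, c4⟩ := h.exists_ns_perp he hf e1 f1 (by simp [f2])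
    have σ0 : σ d ≠ 0 := (map_ne_zero σ).2 d0
    have a1 := k2 e he e1 e0 1 (one_mem k)
    have a2 := mul_mem (h.rf_mem hX c1 (sub_mem hf he) c4 (h.Q_sub hf he f1 e1 (by simp [f3])))
      (mul_mem a1 (mul_mem (k2 f hf f1 f0 _ (inv_mem (h.norm_mem d))) a1))
    have a3 : ∀ z ∈ rat k b, D.B e z = 0 → D.B f z = 0 → ∀ s : F, s • z ∈ zSet X e e1 := fun z hz z1 z2 s => by
      have a4 : ∀ t ∈ k, (t * d⁻¹) • z ∈ zSet X e e1 := fun t ht => by
        have z3 := h.rf_rat c1 _ (rat_smul ht hz)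
        have z4 : D.B e ((rf D c).1 (t • z)) = 0 := by simp [rf_apply, z1, c2]
        have z5 : D.B f ((rf D c).1 (t • z)) = 0 := by simp [rf_apply, z2, c3]
        have := map_mem_zSet (he := e1) ⟨_, _, h.eich_mem hX he e1 z3 z4⟩ a2 (c := d⁻¹) (by
          simp only [isom_mul_apply, eich_apply, D.B_lin, D.B_self_of_Q e1, D.B_self_of_Q f1, f2, f3, hermKind_ε, d1]
          rw [show ∀ x : V, x = d⁻¹ • f → (rf D c).1 ((rf D (f - e)).1 x) = d⁻¹ • e from fun x hx => by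
            rw [hx, map_smul, rf_swap t2 f1 e1 (by simp [f3]) (by rw [f2, f3]), map_smul,
              rf_perp (D.eq_zero_symm c2)]]
          match_scalars <;> field_simp <;> ring)
        generalize hy : (rf D c).1 (t • z) = y at this z4 z5
        simp only [isom_mul_apply, eich_apply, D.B_lin, z4, z5, mul_zero, zero_smul, add_zero, sub_zero] at this
        rw [rf_perp (v := f - e) (by simp [z4, z5]), ← hy, rf_rf] at this
        convert neg_mem this using 1
        rw [map_inv₀, d1]; match_scalars; field_simp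
      convert add_mem (a4 (d * (s - σ s) / 2) ((h.fix _).2 (by
        simp only [map_div₀, map_mul, map_sub, d1, hc.σσ, map_ofNat]; ring)))
        (show ((s + σ s) / 2) • z ∈ zSet X e e1 from ⟨_, _, h.eich_mem hX he e1 (rat_smul ((h.fix _).2 (by
          simp [hc.σσ, add_comm, map_ofNat])) hz) (by simp [z1])⟩) using 1
      match_scalars; field_simp; ring
    have a5 : ∀ z, D.B e z = 0 → z ∈ zSet X e e1 := fun z hz => by
      let W : Submodule F V :=
        { carrier := {z | ∀ c : F, c • z ∈ zSet X e e1}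
          add_mem' := fun hx hy c => by rw [smul_add]; exact add_mem (hx c) (hy c)
          zero_mem' := by simp
          smul_mem' := fun a x hx c => by rw [smul_smul]; exact hx _ }
      have : D.perp (F ∙ e) ≤ W := (h.perp (ratSub_span he)).le fun t ht hr s => by
        rw [mem_perp_span_singleton] at ht
        convert add_mem (a3 (t - D.B f t • e) (sub_mem hr (rat_smul (h.hB hf hr) he))
          (by simp [ht, D.B_self_of_Q e1]) (by simp [f3]) s) (smul_mem_zSet e1 (s * D.B f t)) using 1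
        module
      simpa using this (D.mem_perp_span_singleton.2 hz) 1
    refine at_of_zSet (he := e1) (at_bot_of_zSet Herm.comm (he := e1) fun a => ?_) fun z _ => a5 z
    obtain ⟨z, h1, h2⟩ := h.nd.exists_perp_B_eq (H := F ∙ e) (a := c) (fun H => by
      obtain ⟨s, rfl⟩ := Submodule.mem_span_singleton.1 H
      exact c4 (D.Q_smul_of_Q e1 s)) a
    exact ⟨z, a5 z (D.mem_perp_span_singleton.1 h1), c, a5 c c2, h2⟩
  obtain ⟨f, -, hf, f1, f2, f3⟩ := h.exists_hyp ratSub_top he e1 trivial (by simpa [h.nd.perp_top] using e0)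
  exact At.E_le h.nd (k3 e he e1 e0) (k3 f hf f1 (by rintro rfl; simp at f2)) e1 f1 (by simp [f2])

variable (hno : ¬ D.E ≤ X)
include hno

theorem no_tv {e : V} (he : e ∈ rat k b) (e0 : e ≠ 0) {d : F} (hd : D.IsEich e 0 d) (hm : D.eich e 0 d hd ∈ X) :
    d = 0 := by_contra fun d0 => hno (h.E_le_of_tv hX he hd.Q_e e0 d0 hd hm)

omit hX hno in
theorem exists_rat {e z : V} (he : e ∈ rat k b) (H : ∀ y ∈ rat k b, D.B e y = 0 → D.B y z ∈ k) :
    ∃ x ∈ rat k b, ∃ c : F, z = x + c • e := by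
  obtain ⟨T, h1, h2, h3⟩ := exists_proj k
  have : D.perp (F ∙ e) ≤ D.perp (F ∙ (z - pr b T z)) :=
    (h.perp (ratSub_span he)).le fun y hy hr => by
      have h4 := RatFun.pr (φ := D.B y) (fun y hy => h.hB hr hy) h1 z
      rw [h3 _ (H y hr (D.mem_perp_span_singleton.1 hy))] at h4
      exact D.mem_perp_span_singleton.2 (D.eq_zero_symm (by simp [h4]))
  obtain ⟨c, hc⟩ := Submodule.mem_span_singleton.1 (h.nd.perp_le_perp.1 this (self_mem_span _))
  exact ⟨_, pr_mem h2 _, c, by rw [hc]; abel⟩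

theorem rat_of_eich {e z : V} (he : e ∈ rat k b) (e0 : e ≠ 0) {d : F} (hd : D.IsEich e z d)
    (hm : D.eich e z d hd ∈ X) (d1 : d ∈ k) : z ∈ rat k b := by
  have e1 := hd.Q_e
  obtain ⟨x, hx, c, rfl⟩ := h.exists_rat he (z := z) fun y hy H => (h.fix _).2 (by
    have := h.no_tv hX hno he e0 ⟨e1, by simp, by simp [B_symm D y z, hc.σσ]⟩
      (eich_zero_mem_of_zSet (he := e1) ⟨_, _, h.eich_mem hX he e1 hy H⟩ ⟨_, _, hm⟩ _)
    rw [herm_symm]; linear_combination -this)
  have x1 : D.B e x = 0 := by simpa [D.B_self_of_Q e1] using hd.B_ez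
  have x2 := div_mem (h.hQ hx) (ofNat_mem k 2)
  have h1 : D.Q (x + c • e) = D.Q x := by simp [D.Q_add_smul e1, D.eq_zero_symm x1]
  have h2 := h.no_tv hX hno he e0 (d := d + c - σ c - D.Q x / 2) ⟨e1, by simp, by
    have a1 := hd.tr_d
    have a2 := (h.isE e1 x1).tr_d
    simp only [hermKind_tr, map_sub, map_add, hc.σσ, h1, Q_zero] at a1 a2 ⊢
    linear_combination a1 - a2⟩ (by
      convert mul_mem (inv_mem (h.eich_mem hX he e1 hx x1)) hm using 1
      rw [eq_inv_mul_iff_mul_eq]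
      refine isom_ext fun v => ?_
      simp only [isom_mul_apply, eich_apply, D.B_lin, map_zero, LinearMap.zero_apply, D.B_self_of_Q e1,
        D.eq_zero_symm x1, hermKind_ε]
      module)
  have h3 : c - σ c = 0 := h.eq_zero (by
    rw [show c - σ c = D.Q x / 2 - d by linear_combination h2]; exact sub_mem x2 d1) (by simp [hc.σσ])
  exact add_mem hx (rat_smul ((h.fix c).2 (by linear_combination -h3)) he)

variable (hE : X ≤ D.E)
include hE

theorem mem_of_fix {g : D.isom} (hg : g ∈ X) {e : V} (he : e ∈ rat k b) (e1 : D.Q e = 0) (e0 : e ≠ 0) {l : F}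
    (H : g.1 e = l • e) : g ∈ D.ratS k b := by
  have k1 : ∀ g ∈ X, ∀ l : F, g.1 e = l • e → ∀ z ∈ rat k b, D.B e z = 0 → σ l • g.1 z ∈ rat k b :=
    fun g hg l H z hz z1 => by
      have l0 : l ≠ 0 := by rintro rfl; exact e0 (by simpa using H)
      have h1 : D.B e (g.1 z) = 0 := by
        have := (B_isom g e z).trans z1
        simpa [H, l0] using this
      refine h.rat_of_eich hX hno he e0 (d := l * σ l * (D.Q z / 2)) (by simpa [hc.σσ, mul_comm] using (h.isE e1 h1).smul (σ l)) ?_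
        (mul_mem (h.norm_mem l) (div_mem (h.hQ hz) (ofNat_mem k 2)))
      convert mul_mem (mul_mem hg (h.eich_mem hX he e1 hz z1)) (inv_mem hg) using 1
      rw [conj_eich]
      refine isom_ext fun v => ?_
      simp only [eich_apply, H, D.B_lin, hc.σσ]
      module
  have l0 : l ≠ 0 := by rintro rfl; exact e0 (by simpa using H)
  have l1 : σ l ≠ 0 := (map_ne_zero σ).2 l0
  obtain ⟨f, -, hf, f1, f2, f3⟩ := h.exists_hyp ratSub_top he e1 trivial (by simpa [h.nd.perp_top] using e0)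
  obtain ⟨x, hx, c, h1⟩ := h.exists_rat he (z := σ l • g.1 f) fun y hy y1 => by
    have := h.hB (k1 g⁻¹ (inv_mem hg) l⁻¹ (by rw [isom_inv_apply_eq, map_smul, H, inv_smul_smul₀ l0]) y hy y1) hf
    convert mul_mem (h.norm_mem l) this using 1
    rw [D.B_smul_left, D.B_smul_right, B_isom_right, hc.σσ]; field_simp
  have h2 : D.B e (g.1 f) = (σ l)⁻¹ := by
    have := (B_isom g e f).trans f2
    rw [H, D.B_smul_left] at this
    exact eq_inv_of_mul_eq_one_right this
  have t2 := h.two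
  have hr : D.IsEich e 0 ((c - σ c) / 2) := ⟨e1, by simp, by simp [hc.σσ, map_ofNat]; ring⟩
  have h3 : D.eich e 0 _ hr * g ∈ D.ratS k b := ⟨σ l, l1, fun v hv => by
    have h4 := k1 g hg l H (v - D.B e v • f) (sub_mem hv (rat_smul (h.hB he hv) hf)) (by simp [f2])
    have h5 : D.B e (g.1 v) = (σ l)⁻¹ * D.B e v := by
      have := B_isom g e v
      rw [H, D.B_smul_left] at this
      rw [← this]; field_simp
    convert add_mem h4 (rat_smul (h.hB he hv) (add_mem hx (rat_smul (a := (c + σ c) / 2) ((h.fix _).2 (by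
      simp [hc.σσ, add_comm, map_ofNat])) he))) using 1
    simp only [Subgroup.subtype_apply, isom_mul_apply, eich_apply, map_zero, LinearMap.zero_apply, h5, map_sub,
      map_smul, hermKind_ε, show x = σ l • g.1 f - c • e by rw [h1]; abel]
    match_scalars <;> field_simp <;> ring⟩
  have h4 := h.no_tv hX hno he e0 hr (by
    simpa using mul_mem (hX ⟨mul_mem (eich_mem_E _ _ _ hr) (hE hg), h3⟩) (inv_mem hg))
  convert h3 using 1
  exact isom_ext fun v => by simp [isom_mul_apply, eich_apply, h4]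

theorem mem_of_pt {g : D.isom} (hg : g ∈ X) {e e' : V} (he : e ∈ rat k b) (e1 : D.Q e = 0) (e0 : e ≠ 0)
    (he' : e' ∈ rat k b) {l : F} (H : g.1 e = l • e') : g ∈ D.ratS k b := by
  have h1 : l • e' ≠ 0 := H ▸ g.1.map_ne_zero_iff.2 e0
  obtain ⟨r, r1, r2, r3⟩ := h.exists_map hX he' he (by
    simpa [H, D.Q_smul, left_ne_zero_of_smul h1] using (Q_isom g e).trans e1) e1 (right_ne_zero_of_smul h1) e0
  exact (Subgroup.mul_mem_cancel_left _ (show r ∈ D.ratS k b from r2.mem)).1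
    (h.mem_of_fix hX hno hE (mul_mem r1 hg) he e1 e0 (l := l) (by rw [isom_mul_apply, H, map_smul, r3]))

theorem ratMap_conj {g t : D.isom} (hg : g ∈ X) (ht : t ∈ X) {e : V} (he : e ∈ rat k b) (e1 : D.Q e = 0)
    (e0 : e ≠ 0) (H : t.1 (g.1 e) = g.1 e) : RatMap k b (g⁻¹ * t * g).1 :=
  have : (g⁻¹ * t * g).1 e = e := by simp [isom_mul_apply, H]
  ratMap_of_fix (h.mem_of_fix hX hno hE (mul_mem (mul_mem (inv_mem hg) ht) hg) he e1 e0 (l := 1)
    (by simpa using this)) he e0 this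

end RatQ

end Cfsg.Lib.Forms
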