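import Cfsg.Agent.Lib.K4.Sv3

/-! Orthogonal subfield subgroups of the four-dimensional unitary group are maximal. -/

set_option autoImplicit false

namespace Cfsg.Lib.Forms

open Module Form Herm Uo

variable {F V ι : Type*} [Field F] [AddCommGroup V] [Module F V] {σ : F →+* F} {q : ℕ}
  {hc : IsConj σ q} {D : Form hc.kind V} {X : Subgroup D.isom}
  [Fintype ι] [Finite F] [FiniteDimensional F V] {k : Subfield F} {b : Basis ι F V} {ω κ : F}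

namespace RatQ

variable (h : RatQ D k b ω κ)
include h

omit [Finite F] [FiniteDimensional F V] [Fintype ι] in
theorem pick {A : F} (B : F) (hA : A ≠ 0) : ∃ s ∈ k, s ≠ 0 ∧ A + s ^ 2 * B ≠ 0 := by
  by_contra! H
  have h1 := H 1 (one_mem k) one_ne_zero
  have h2 := H κ h.κ_mem h.κ_ne
  have h3 : B = 0 := (mul_eq_zero.1 (by linear_combination h2 - h1 : (κ ^ 2 - 1) * B = 0)).resolve_left
    (sub_ne_zero.2 h.κ_sq)
  exact hA (by simpa [h3] using h1)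

omit [Finite F] [FiniteDimensional F V] [Fintype ι] in
theorem sq_ne {a c : F} (ha : a ∈ k) (hc' : c ∈ k) (a0 : a ≠ 0) : c ^ 2 - ω ^ 2 * a ^ 2 ≠ 0 := fun H => by
  rcases sq_eq_sq_iff_eq_or_eq_neg.1 (show (ω * a) ^ 2 = c ^ 2 by linear_combination -H) with h1 | h1
  exacts [a0 (h.ω_mul ha (h1 ▸ hc')), a0 (h.ω_mul ha (h1 ▸ neg_mem hc'))]

omit [Finite F] [FiniteDimensional F V] [Fintype ι] in
theorem ω_sq : ω ^ 2 ∈ k := (h.fix _).2 (by simp [h.tr])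

omit [Finite F] [FiniteDimensional F V] [Fintype ι] in
theorem Q_decomp {x y : V} (hx : x ∈ rat k b) (hy : y ∈ rat k b) : D.Q (x + ω • y) = D.Q x - ω ^ 2 * D.Q y := by
  simp only [herm_Q, D.B_lin, h.tr, h.symm hx hy]; ring

variable (hX : D.E ⊓ D.ratS k b ≤ X)
include hX

theorem exists_shift {e t : V} (he : e ∈ rat k b) (ht : t ∈ rat k b) (hQ : D.Q t = 0) (H : D.B t e = 0)
    (h1 : e ∉ F ∙ t) {c : F} (hc' : c ∈ k) : ∃ g ∈ X, g.1 e = e + c • t ∧ g.1 t = t := by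
  obtain ⟨y, h2, h3, h4⟩ := h.exists_B_one (ratSub_span ht) h1 he
  refine ⟨_, h.eich_mem hX ht hQ (rat_smul hc' h3) (by simp [D.mem_perp_span_singleton.1 h2]), ?_,
    D.eich_apply_self _⟩
  rw [D.eich_apply_of_perp _ H, D.B_smul_left, h4, (h.fix c).1 hc', mul_one]

variable (hno : ¬ D.E ≤ X) (hE : X ≤ D.E) {g : D.isom} (hg : g ∈ X) (hg' : g ∉ D.ratS k b)
include hno hE hg hg'

theorem false_of_ts {e a a' : V} (he : e ∈ rat k b) (e1 : D.Q e = 0) (e0 : e ≠ 0) {μ : F}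
    (H : g.1 e = μ • (a + ω • a')) (ha : a ∈ rat k b) (ha' : a' ∈ rat k b) (a1 : D.Q a = 0) (a1' : D.Q a' = 0)
    (h0 : D.B a a' = 0) : False := by
  have μ0 : μ ≠ 0 := left_ne_zero_of_smul (H ▸ g.1.map_ne_zero_iff.2 e0)
  have ω0 := h.ω_ne
  have a0 : a ≠ 0 := by
    rintro rfl
    exact hg' (h.mem_of_pt hX hno hE hg he e1 e0 ha' (l := μ * ω) (by simp [H, mul_smul]))
  have a2 : a' ∉ F ∙ a := fun h1 => by
    obtain ⟨s, rfl⟩ := Submodule.mem_span_singleton.1 h1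
    exact hg' (h.mem_of_pt hX hno hE hg he e1 e0 ha (l := μ * (1 + ω * s)) (by rw [H]; module))
  have h0' := D.eq_zero_symm h0
  have u1 : ∀ v, (D.eich a a' _ (h.isE a1 h0)).1 v = v + (D.B a' v • a - D.B a v • a') := fun v => by
    simp [eich_apply, a1', add_sub_assoc]
  have u2 := (h.ratMap_conj hX hno hE hg (h.eich_mem hX ha a1 ha' h0) he e1 e0 (by
    simp [u1, H, h0, h0', D.B_self_of_Q a1, D.B_self_of_Q a1'])).supp
  obtain ⟨y, y1, y2, y3⟩ := h.exists_B_one (ratSub_span ha) a2 ha'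
  rw [mem_perp_span_singleton] at y1
  obtain ⟨m, m1, m2, m3⟩ := u2.exists_not_mem (W := F ∙ e) fun h1 => by
    obtain ⟨s, hs⟩ := Submodule.mem_span_singleton.1 (h1 (mem_supp.2 ⟨g⁻¹.1 y, rfl⟩))
    have h2 := congrArg g.1 hs
    simp only [isom_mul_apply, map_sub, map_smul, isom_apply_inv, u1, H, y1, h.symm y2 ha', y3] at h2
    have h3 := congrArg (D.B y) h2
    simp [D.eq_zero_symm y1, y3, μ0, ω0] at h3
    exact a0 (by simpa [h3] using h2.symm)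
  obtain ⟨w, rfl⟩ := mem_supp.1 m1
  obtain ⟨m, hm⟩ : ∃ m, m = (g⁻¹ * D.eich a a' _ (h.isE a1 h0) * g).1 w - w := ⟨_, rfl⟩
  rw [← hm] at m2 m3
  replace hm : g.1 m = D.B a' (g.1 w) • a - D.B a (g.1 w) • a' := by simp [hm, isom_mul_apply, u1]
  generalize D.B a' (g.1 w) = α, D.B a (g.1 w) = β at hm
  obtain ⟨s, s1, s0, s2⟩ := h.pick (ω ^ 2) one_ne_zero
  have s3 := h.sq_ne s1 (one_mem k) s0
  rw [one_pow] at s3
  have s4 : 1 - ω ^ 2 * s ^ 2 ∈ k := sub_mem (one_mem k) (mul_mem h.ω_sq (pow_mem s1 2))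
  obtain ⟨g₁, b1, b2, b3⟩ := h.exists_shift hX ha' ha a1 h0 a2 s1
  obtain ⟨g₂, c1, c2, c3⟩ := h.exists_shift hX ha ha' a1' h0' (not_mem_symm a0 a2)
    (div_mem (mul_mem (mul_mem (ofNat_mem k 2) h.ω_sq) s1) s4)
  obtain ⟨c, c0, hr⟩ := h.mem_of_fix hX hno hE (mul_mem (mul_mem (inv_mem hg) (mul_mem (mul_mem b1 c1) b1)) hg)
    he e1 e0 (l := (1 + ω * s) ^ 2 / (1 - ω ^ 2 * s ^ 2)) (by
      rw [isom_mul_apply, isom_mul_apply, isom_inv_apply_eq, map_smul]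
      simp only [H, isom_mul_apply, map_smul, map_add, b2, b3, c2, c3]
      match_scalars <;> field_simp <;> ring)
  have d1 := mem_of_smul_rat he e0 (c := c * ((1 + ω * s) ^ 2 / (1 - ω ^ 2 * s ^ 2))) (by
    convert hr e he using 1
    rw [mul_smul]; congr 1
    rw [Subgroup.subtype_apply, isom_mul_apply, isom_mul_apply, eq_comm, isom_inv_apply_eq, map_smul]
    simp only [H, isom_mul_apply, map_smul, map_add, b2, b3, c2, c3]
    match_scalars <;> field_simp <;> ring)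
  obtain ⟨z, z1, z2, z3⟩ := h.exists_B_one (ratSub_span he) m3 m2
  have d2 : D.B z (c • (g⁻¹ * (g₁ * g₂ * g₁) * g).1 m) ∈ k := h.hB z2 (hr m m2)
  rw [show (g⁻¹ * (g₁ * g₂ * g₁) * g).1 m = ((1 - ω * s) ^ 2 / (1 - ω ^ 2 * s ^ 2)) • m +
    ((α * ω - β) * (2 * s / (1 - ω ^ 2 * s ^ 2)) / μ) • e by
      rw [isom_mul_apply, isom_mul_apply, isom_inv_apply_eq, map_add, map_smul, map_smul]
      simp only [H, hm, isom_mul_apply, map_smul, map_add, map_sub, b2, b3, c2, c3]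
      match_scalars <;> field_simp <;> ring] at d2
  simp only [D.B_lin, z3, D.eq_zero_symm (D.mem_perp_span_singleton.1 z1), mul_one, mul_zero, add_zero] at d2
  have s5 : 1 - ω * s ≠ 0 := fun h1 => s3 (by linear_combination (1 + ω * s) * h1)
  have d3 : (1 + ω * s) ^ 4 ∈ k := by
    convert mul_mem (div_mem d1 d2) (pow_mem s4 2) using 1
    field_simp
    ring
  have d4 := h.ω_mul (a := 4 * s * (1 + s ^ 2 * ω ^ 2)) (mul_mem (mul_mem (ofNat_mem k 4) s1)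
    (add_mem (one_mem k) (mul_mem (pow_mem s1 2) h.ω_sq))) (by
      convert sub_mem d3 (add_mem (add_mem (one_mem k) (mul_mem (ofNat_mem k 6) (mul_mem (pow_mem s1 2) h.ω_sq)))
        (pow_mem (mul_mem (pow_mem s1 2) h.ω_sq) 2)) using 1
      ring)
  exact mul_ne_zero (mul_ne_zero (mul_ne_zero h.two h.two) s0) s2 (by linear_combination d4)

omit hg' in
theorem false_of_ns {c d c' d' v w₀ w₁ : V} (c1 : c ∈ rat k b) (d1 : d ∈ rat k b) (cd : D.B c d = 0)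
    (c0 : D.Q c ≠ 0) (d0 : D.Q d ≠ 0) {μ : F} (μ0 : μ ≠ 0) (c1' : c' ∈ rat k b) (d1' : d' ∈ rat k b)
    (c2 : g.1 c' = μ • c) (d2 : g.1 d' = μ • d)
    (an : ∀ α ∈ k, ∀ β ∈ k, α ^ 2 * D.Q c + β ^ 2 * D.Q d = 0 → α = 0 ∧ β = 0)
    (hv : v ∈ rat k b) (H : g.1 v = μ • (w₀ + ω • w₁)) (w0 : w₀ ∈ rat k b) (w1 : w₁ ∈ rat k b)
    (p1 : D.B c w₀ = 0) (p2 : D.B d w₀ = 0) (p3 : D.B c w₁ = 0) (p4 : D.B d w₁ = 0) (n1 : D.Q w₁ ≠ 0)
    (n2 : D.B w₁ w₀ ^ 2 - D.Q w₀ * D.Q w₁ ≠ 0) : False := by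
  have := Fintype.ofFinite k
  have t2 := h.two
  obtain ⟨⟨α, α1⟩, ⟨β, β1⟩, h1⟩ := exists_binary (F := k) (fun h1 => t2 (by
      have := congrArg k.subtype h1; rwa [map_ofNat, map_zero] at this))
    (a := ⟨_, h.hQ c1⟩) (b := ⟨_, h.hQ d1⟩) (fun H => c0 (congrArg Subtype.val H)) (fun H => d0 (congrArg Subtype.val H))
    ⟨_, sub_mem (div_mem (pow_mem (h.hB w1 w0) 2) (h.hQ w1)) (h.hQ w0)⟩
  replace h1 : D.Q c * α ^ 2 + D.Q d * β ^ 2 = D.B w₁ w₀ ^ 2 / D.Q w₁ - D.Q w₀ := by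
    simpa using congrArg Subtype.val h1
  have h2 : D.Q c * α ^ 2 + D.Q d * β ^ 2 ≠ 0 := by
    rw [h1]; intro h2; field_simp at h2; exact n2 (by linear_combination h2)
  have α2 := (h.fix _).1 α1
  have β2 := (h.fix _).1 β1
  have q1 := h.hQ c1
  have q2 := h.hQ d1
  have q3 := h.hQ w1
  have q4 := h.hB w1 w0
  have E : D.B c c = D.Q c ∧ D.B d d = D.Q d ∧ D.B w₀ w₀ = D.Q w₀ ∧ D.B w₁ w₁ = D.Q w₁ ∧ D.B d c = 0 ∧
      D.B w₀ c = 0 ∧ D.B w₀ d = 0 ∧ D.B w₁ c = 0 ∧ D.B w₁ d = 0 ∧ D.B w₀ w₁ = D.B w₁ w₀ :=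
    ⟨(herm_Q D _).symm, (herm_Q D _).symm, (herm_Q D _).symm, (herm_Q D _).symm, D.eq_zero_symm cd,
      D.eq_zero_symm p1, D.eq_zero_symm p2, D.eq_zero_symm p3, D.eq_zero_symm p4, h.symm w1 w0⟩
  have k0 : ∀ x y, g.1 x = μ • y → D.Q y ≠ 0 → D.Q x ≠ 0 := fun x y h3 h4 => by
    rw [← Q_isom g, h3, D.Q_smul]; simp [μ0, h4]
  have k1 : D.Q (w₀ + ω • w₁ + α • c + β • d) = (D.B w₁ w₀ ^ 2 - ω ^ 2 * D.Q w₁ ^ 2) / D.Q w₁ := by
    rw [herm_Q]
    simp only [D.B_lin, E, cd, p1, p2, p3, p4, α2, β2, h.tr]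
    field_simp at h1 ⊢
    linear_combination h1
  have k2 : D.Q (w₀ + ω • w₁ + α • c + β • d) ≠ 0 := k1 ▸ div_ne_zero (h.sq_ne q3 q4 n1) n1
  have k3 : D.Q ((β * D.Q d) • c - (α * D.Q c) • d) ≠ 0 := fun h3 => by
    rw [herm_Q] at h3
    simp only [D.B_lin, E, cd, map_mul, α2, β2, herm_σ_Q] at h3
    obtain ⟨h4, h5⟩ := an _ (mul_mem β1 q2) _ (mul_mem α1 q1) (by linear_combination h3)
    simp [c0, d0] at h4 h5
    simp [h4, h5] at h2
  have k4 : g.1 (v + α • c' + β • d') = μ • (w₀ + ω • w₁ + α • c + β • d) := by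
    simp only [map_add, map_smul, H, c2, d2]; module
  have k5 : g.1 ((β * D.Q d) • c' - (α * D.Q c) • d') = μ • ((β * D.Q d) • c - (α * D.Q c) • d) := by
    simp only [map_sub, map_smul, c2, d2]; module
  have k6 := mul_mem (mul_mem hg (h.rf_mem hX (add_mem (add_mem hv (rat_smul α1 c1')) (rat_smul β1 d1'))
    (sub_mem (rat_smul (mul_mem β1 q2) c1') (rat_smul (mul_mem α1 q1) d1')) (k0 _ _ k4 k2) (k0 _ _ k5 k3)))
    (inv_mem hg)
  rw [← conj_mul, rf_conj g _ (inv_ne_zero μ0), rf_conj g _ (inv_ne_zero μ0), k4, k5, inv_smul_smul₀ μ0,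
    inv_smul_smul₀ μ0] at k6
  have r1 : D.Q w₁ • (w₀ + α • c + β • d) - D.B w₁ w₀ • w₁ ∈ rat k b :=
    sub_mem (rat_smul q3 (add_mem (add_mem w0 (rat_smul α1 c1)) (rat_smul β1 d1))) (rat_smul q4 w1)
  have r2 : D.Q w₁ • (w₀ + α • c + β • d) - D.B w₁ w₀ • w₁ ≠ 0 := fun h3 => by
    have := congrArg (D.B (α • c + β • d)) h3
    simp only [D.B_lin, E, cd, p1, p2, p3, p4, α2, β2, map_zero] at this
    exact mul_ne_zero n1 h2 (by linear_combination this)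
  have r3 : (rf D (w₀ + ω • w₁ + α • c + β • d) * rf D ((β * D.Q d) • c - (α * D.Q c) • d)).1
      (D.Q w₁ • (w₀ + α • c + β • d) - D.B w₁ w₀ • w₁) = D.Q w₁ • (w₀ + α • c + β • d) - D.B w₁ w₀ • w₁ := by
    rw [isom_mul_apply, rf_perp (v := _ - _), rf_perp] <;>
      simp only [D.B_lin, E, cd, p1, p2, p3, p4, α2, β2, h.tr, map_mul, herm_σ_Q]
    · field_simp at h1; linear_combination h1
    · ring
  have r4 := h.hB (add_mem (rat_smul α1 c1) (rat_smul β1 d1)) (ratMap_of_fix (h.mem_of_fix hX hno hE k6 r1 (by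
    rw [herm_Q]
    simp only [D.B_lin, E, cd, p1, p2, p3, p4, α2, β2, herm_σ_Q, (h.fix _).1 q4]
    field_simp at h1; linear_combination D.Q w₁ * h1) r2 (l := 1) (by rw [r3, one_smul])) r1 r2 r3 w₁ w1)
  rw [isom_mul_apply, rf_perp (v := _ - _) (by simp [p3, p4]), rf_apply, k1] at r4
  simp only [D.B_lin, E, cd, p1, p2, p3, p4, α2, β2, h.tr] at r4
  have r5 := h.sq_ne q3 q4 n1
  refine n1 (h.ω_mul q3 ?_)
  convert add_mem q4 (div_mem (mul_mem r4 (sub_mem (pow_mem q4 2) (mul_mem h.ω_sq (pow_mem q3 2))))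
    (mul_mem (mul_mem (ofNat_mem k 2) q3) (add_mem (mul_mem q1 (pow_mem α1 2)) (mul_mem q2 (pow_mem β1 2))))) using 1
  have h2' : α ^ 2 * D.Q c + β ^ 2 * D.Q d ≠ 0 := by rwa [mul_comm, mul_comm (β ^ 2)]
  field_simp
  ring

end RatQ

end Cfsg.Lib.Forms
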