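import Cfsg.Agent.Lib.MaxU.Circ

/-! Field lemmas for the frame stabiliser of the four-dimensional unitary group. -/

set_option autoImplicit false

namespace Cfsg.Lib.Forms

variable {F : Type*} [Field F] {σ : F →+* F} {q : ℕ}

namespace IsConj

variable (h : IsConj σ q)
include h

theorem sw_card_le [DecidableEq F] {s : Finset F} (hs : ∀ x ∈ s, x * σ x = 1) {p : F} (hp : p ≠ 0) (r : F) :
    s.card ≤ 2 * (s.image fun η => r + (η * p + σ η * σ p)).card :=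
  Finset.card_le_mul_card_image s 2 fun x _ => by
    by_contra H
    obtain ⟨p₁, p₂, p₃, h1, h2, h3, h4, h5, h6⟩ := Finset.two_lt_card_iff.1 (not_le.1 H)
    have k : ∀ η ∈ s.filter fun η => r + (η * p + σ η * σ p) = x, p * η ^ 2 + (r - x) * η + σ p = 0 :=
      fun η hη => by
        obtain ⟨k1, k2⟩ := Finset.mem_filter.1 hη
        linear_combination η * k2 - σ p * hs η k1
    exact hp (quad3 (k _ h1) (k _ h2) (k _ h3) h4 h5 h6)

theorem sw_pig [DecidableEq F] {s : Finset F} (hs : ∀ x ∈ s, x * σ x = 1) {p p' r r' : F} (hp : p ≠ 0)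
    (hp' : p' ≠ 0) {C : Finset F} (hC : C.card < s.card) (h1 : ∀ η ∈ s, r + (η * p + σ η * σ p) ∈ C)
    (h2 : ∀ η ∈ s, r' + (η * p' + σ η * σ p') ∈ C) :
    ∃ η ∈ s, ∃ η' ∈ s, r + (η * p + σ η * σ p) = r' + (η' * p' + σ η' * σ p') := by
  by_contra H
  push Not at H
  have h3 := h.sw_card_le hs hp r
  have h4 := h.sw_card_le hs hp' r'
  have h5 := Finset.card_union_of_disjoint (s := s.image fun η => r + (η * p + σ η * σ p))
    (t := s.image fun η => r' + (η * p' + σ η * σ p')) (Finset.disjoint_left.2 fun x hx hx' => by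
      obtain ⟨a, ha, rfl⟩ := Finset.mem_image.1 hx
      obtain ⟨c, hc, e⟩ := Finset.mem_image.1 hx'
      exact H a ha c hc e.symm)
  have h6 := Finset.card_le_card (Finset.union_subset (Finset.image_subset_iff.2 h1) (Finset.image_subset_iff.2 h2))
  omega

theorem exists_fixw : ∃ C : Finset F, C.card = q ∧ ∀ x, x ∈ C ↔ σ x = x := by
  classical
  have := h.finite
  have := Fintype.ofFinite F
  refine ⟨Finset.univ.filter fun x => σ x = x, ?_, by simp⟩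
  rw [← h.card_fixed, Nat.card_eq_fintype_card, Fintype.card_subtype]

theorem sw_tr {p p' : F} (hp : p ≠ 0) (hp' : p' ≠ 0) :
    ∃ η η', η * σ η = 1 ∧ η' * σ η' = 1 ∧ η * p + σ η * σ p + η' * p' + σ η' * σ p' = 0 := by
  classical
  obtain ⟨s, hs, hs'⟩ := h.exists_mu
  obtain ⟨C, hC, hC'⟩ := h.exists_fixw
  obtain ⟨a, ha, c, hc, e⟩ := h.sw_pig (s := s) (fun x hx => (hs' x).1 hx) hp (neg_ne_zero.2 hp') (r := 0) (r' := 0)
    (C := C) (by omega) (fun η _ => (hC' _).2 (by simp [h.σσ, add_comm]))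
    fun η _ => (hC' _).2 (by simp [h.σσ, add_comm])
  exact ⟨a, c, (hs' a).1 ha, (hs' c).1 hc, by rw [map_neg] at e; linear_combination e⟩

theorem circ3w {a b c : F} (ha : a ≠ 0) (hb : b ≠ 0) (hc : c ≠ 0) (sa : σ a = a) (sb : σ b = b) (sc : σ c = c)
    (H : a + b + c = 1) : ∃ t₁ t₂ t₃, t₁ * σ t₁ = 1 ∧ t₂ * σ t₂ = 1 ∧ t₃ * σ t₃ = 1 ∧
      t₁ * a + t₂ * b + t₃ * c = 1 ∧ t₃ ≠ 1 := by
  classical
  obtain ⟨s, hs, hs'⟩ := h.exists_mu
  obtain ⟨C, hC, hC'⟩ := h.exists_fixw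
  have h2 := h.two_le
  have k : ∀ η ∈ s.erase 1, η + σ η - 2 ≠ 0 := fun η hη e => by
    obtain ⟨k1, k2⟩ := Finset.mem_erase.1 hη
    have : (η - 1) ^ 2 = 0 := by linear_combination η * e - (hs' η).1 k2
    exact k1 (sub_eq_zero.1 (pow_eq_zero_iff two_ne_zero |>.1 this))
  obtain ⟨t, ht, u, hu, e⟩ := h.sw_pig (s := s.erase 1) (fun x hx => (hs' x).1 (Finset.mem_of_mem_erase hx))
    (mul_ne_zero ha hb) (neg_ne_zero.2 hc) (r := a ^ 2 + b ^ 2) (r' := 1 + c ^ 2) (C := C.erase ((a + b) ^ 2))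
    (by rw [Finset.card_erase_of_mem ((hC' _).2 (by simp [sa, sb])), Finset.card_erase_of_mem ((hs' 1).2 (by simp))]
        omega)
    (fun η hη => Finset.mem_erase.2 ⟨fun e => mul_ne_zero (mul_ne_zero ha hb) (k η hη) (by
      rw [map_mul, sa, sb] at e; linear_combination e), (hC' _).2 (by simp [h.σσ, sa, sb, add_comm])⟩)
    fun η hη => Finset.mem_erase.2 ⟨fun e => mul_ne_zero hc (k η hη) (by
      rw [map_neg, sc] at e; linear_combination -e - (a + b + 1 - c) * H), (hC' _).2 (by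
        simp [h.σσ, sc, add_comm])⟩
  obtain ⟨-, t1⟩ := Finset.mem_erase.1 ht
  obtain ⟨u0, u1⟩ := Finset.mem_erase.1 hu
  rw [hs'] at t1 u1
  rw [map_mul, map_neg, sa, sb, sc] at e
  have e' : (1 - u * c) * σ (1 - u * c) = (t * a + b) * σ (t * a + b) := by
    simp only [map_sub, map_add, map_mul, map_one, sa, sb, sc]
    linear_combination -e + c ^ 2 * u1 - a ^ 2 * t1
  by_cases h0 : t * a + b = 0
  · rw [h0, zero_mul, mul_eq_zero, map_eq_zero, or_self] at e'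
    exact ⟨t, 1, u, t1, by simp, u1, by linear_combination h0 - e', u0⟩
  have h0' := (map_ne_zero σ).2 h0
  have n : (1 - u * c) / (t * a + b) * σ ((1 - u * c) / (t * a + b)) = 1 := by
    rw [map_div₀, div_mul_div_comm, e', div_self (mul_ne_zero h0 h0')]
  refine ⟨(1 - u * c) / (t * a + b) * t, _, u, ?_, n, u1, ?_, u0⟩
  · rw [map_mul]; linear_combination (t * σ t) * n + t1
  · rw [mul_assoc, ← mul_add, div_mul_cancel₀ _ h0]; ring

theorem exists_s4w (hq : q ≠ 3) : ∃ s, s * σ s = 1 ∧ s ^ 4 ≠ 1 := by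
  classical
  by_contra H
  push Not at H
  by_cases h2 : q = 2
  · obtain ⟨s, hs, s1, -⟩ := h.exists_mu3 1 1
    have h3 := H s hs
    rw [h.apply, h2] at hs
    exact s1 (by linear_combination h3 - s * hs)
  obtain ⟨s, hs, hs'⟩ := h.exists_mu
  have h3 : s.card ≤ 4 := by
    refine (Finset.card_le_card (t := (Polynomial.nthRoots 4 (1 : F)).toFinset)
      fun x hx => ?_).trans ((Multiset.toFinset_card_le _).trans (Polynomial.card_nthRoots _ _))
    rw [Multiset.mem_toFinset, Polynomial.mem_nthRoots (by omega)]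
    exact H x ((hs' x).1 hx)
  have := h.two_le
  omega

theorem ne_twow {a b : F} (ha : a ≠ 0) (hb : b ≠ 0) (H : a * σ a + b * σ b = 1) : q ≠ 2 := by
  rintro rfl
  have := h.finite
  have := Fintype.ofFinite F
  have k : ∀ x : F, x ≠ 0 → x * σ x = 1 := fun x hx => by
    have h1 := FiniteField.pow_card_sub_one_eq_one x hx
    rw [← Nat.card_eq_fintype_card, h.card] at h1
    rw [h.apply]; linear_combination h1
  rw [k a ha, k b hb] at H
  exact one_ne_zero (by linear_combination H : (1 : F) = 0)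

theorem scale_new {s A B : F} (hs : s * σ s = 1) (s4 : s ^ 4 ≠ 1) (hA : σ A = A) (hB : σ B = B) (H : A + B = 1) :
    s * A + σ s * B ≠ 0 := fun e => by
  have e' := congrArg σ e
  simp only [map_add, map_mul, hA, hB, h.σσ, map_zero] at e'
  have h1 : (s ^ 4 - 1) * A = 0 := by
    linear_combination s ^ 3 * e - s * e' + (A - s ^ 2 * B) * hs
  have h2 : A = 0 := (mul_eq_zero.1 h1).resolve_left (sub_ne_zero.2 s4)
  have h3 : B = 1 := by linear_combination H - h2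
  rw [h2, h3] at e'
  simp only [mul_zero, zero_add, mul_one] at e'
  simp [e'] at hs

end IsConj

variable (σ) in
/-- solutions of the orthogonality equation for a pairing -/
def SwSol (p p' t₀ t₁ t₂ t₃ : F) : Prop := t₀ * σ t₀ = 1 ∧ t₁ * σ t₁ = 1 ∧ t₂ * σ t₂ = 1 ∧ t₃ * σ t₃ = 1 ∧
  t₀ * t₁ * t₂ * t₃ = 1 ∧ t₀ * p + t₁ * σ p + t₂ * p' + t₃ * σ p' = 0

theorem IsConj.pairLw (h : IsConj σ q) (hq : q ≠ 3) {p p' N₀ N₁ N₂ N₃ : F} (hp : p ≠ 0) (hp' : p' ≠ 0)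
    (n0 : σ N₀ = N₀) (n1 : σ N₁ = N₁) (n2 : σ N₂ = N₂) (n3 : σ N₃ = N₃) (hN : N₀ + N₁ + N₂ + N₃ = 1)
    (hd : ∀ t₀ t₁ t₂ t₃ u₀ u₁ u₂ u₃, SwSol σ p p' t₀ t₁ t₂ t₃ → SwSol σ p p' u₀ u₁ u₂ u₃ →
      (∃ a, u₀ = a * t₀ ∧ u₁ = a * t₁ ∧ u₂ = a * t₂ ∧ u₃ = a * t₃) ∨
        σ t₀ * u₀ * N₀ + σ t₁ * u₁ * N₁ + σ t₂ * u₂ * N₂ + σ t₃ * u₃ * N₃ = 0) :
    p * σ p ≠ p' * σ p' ∧ ∃ t₀ t₁ t₂ t₃ u₀ u₁ u₂ u₃, SwSol σ p p' t₀ t₁ t₂ t₃ ∧ SwSol σ p p' u₀ u₁ u₂ u₃ ∧
      ¬ ∃ a, u₀ = a * t₀ ∧ u₁ = a * t₁ ∧ u₂ = a * t₂ ∧ u₃ = a * t₃ := by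
  obtain ⟨s, hs, s4⟩ := h.exists_s4w hq
  have hs' : σ s * σ (σ s) = 1 := by rw [h.σσ, mul_comm, hs]
  have s2 : s ≠ σ s := fun e => s4 (by rw [← e] at hs; linear_combination (s ^ 2 + 1) * hs)
  have m : ∀ {x y : F}, x * σ x = 1 → y * σ y = 1 → x * y * σ (x * y) = 1 := fun {x y} hx hy => by
    rw [map_mul]; linear_combination (y * σ y) * hx + hy
  have c : ∀ {x : F}, x * σ x = 1 → σ x * σ (σ x) = 1 := fun hx => by rw [h.σσ, mul_comm, hx]
  have z : ∀ {x : F}, x * σ x = 1 → x ≠ 0 := fun hx => left_ne_zero_of_mul_eq_one hx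
  have sp := (map_ne_zero σ).2 hp
  have sp' := (map_ne_zero σ).2 hp'
  have H1 : p * σ p ≠ p' * σ p' := fun e => by
    obtain ⟨η, hη, e1⟩ : ∃ η : F, η * σ η = 1 ∧ η * p' = -p :=
      ⟨-p / p', by rw [map_div₀, map_neg, div_mul_div_comm, neg_mul_neg, e, div_self (mul_ne_zero hp' sp')],
        div_mul_cancel₀ _ hp'⟩
    have e2 : σ η * σ p' = -σ p := by rw [← map_mul, e1, map_neg]
    rcases hd 1 1 η (σ η) s (σ s) (s * η) (σ s * σ η)
      ⟨by simp, by simp, hη, c hη, by linear_combination hη, by linear_combination e1 + e2⟩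
      ⟨hs, hs', m hs hη, m hs' (c hη), by linear_combination (s * σ s * η * σ η + η * σ η) * hs + hη,
        by linear_combination s * e1 + σ s * e2⟩ with ⟨a, a1, a2, -⟩ | e3
    · exact s2 (a1.trans a2.symm)
    · refine h.scale_new hs s4 (A := N₀ + N₂) (B := N₁ + N₃) (by simp [*]) (by simp [*])
        (by linear_combination hN) ?_
      rw [h.σσ, map_one] at e3
      linear_combination e3 - (s * N₂ + σ s * N₃) * hη
  refine ⟨H1, ?_⟩
  obtain ⟨η, ξ, hη, hξ, e⟩ := h.sw_tr hp hp'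
  have S0 : SwSol σ p p' η (σ η) ξ (σ ξ) := ⟨hη, c hη, hξ, c hξ, by linear_combination (ξ * σ ξ) * hη + hξ, e⟩
  have τ : η * p + σ η * σ p ≠ 0 := fun e1 => by
    rcases hd _ _ _ _ (s * η) (s * σ η) (σ s * ξ) (σ s * σ ξ) S0
      ⟨m hs hη, m hs (c hη), m hs' hξ, m hs' (c hξ), by
        linear_combination (s * σ s + 1) * (η * σ η * ξ * σ ξ) * hs + (ξ * σ ξ) * hη + hξ,
        by linear_combination σ s * e + (s - σ s) * e1⟩ with ⟨a, a1, -, a2, -⟩ | e3
    · exact s2 ((mul_right_cancel₀ (z hη) a1).trans (mul_right_cancel₀ (z hξ) a2).symm)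
    · refine h.scale_new hs s4 (A := N₀ + N₁) (B := N₂ + N₃) (by simp [*]) (by simp [*])
        (by linear_combination hN) ?_
      rw [h.σσ, h.σσ] at e3
      linear_combination e3 - (s * N₀ + s * N₁) * hη - (σ s * N₂ + σ s * N₃) * hξ
  have fl : ∀ {x y : F}, x * σ x = 1 → y ≠ 0 → ∃ x', x' * σ x' = 1 ∧ x' * y = σ x * σ y ∧ σ x' * σ y = x * y :=
    fun {x y} hx hy => by
      have sy := (map_ne_zero σ).2 hy
      refine ⟨σ x * σ y / y, ?_, div_mul_cancel₀ _ hy, ?_⟩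
      · rw [map_div₀, map_mul, h.σσ, h.σσ]; field_simp; linear_combination hx
      · rw [map_div₀, map_mul, h.σσ, h.σσ, div_mul_cancel₀ _ sy]
  obtain ⟨η', h1, h2, h3⟩ := fl hη hp
  obtain ⟨ξ', k1, k2, k3⟩ := fl hξ hp'
  by_cases e1 : η' = η
  · refine ⟨_, _, _, _, η, σ η, ξ', σ ξ', S0, ⟨hη, c hη, k1, c k1, by linear_combination (ξ' * σ ξ') * hη + k1,
      by linear_combination e + k2 + k3⟩, fun ⟨a, a1, _, a2, _⟩ => H1 ?_⟩
    obtain rfl : a = 1 := mul_right_cancel₀ (z hη) (a1.symm.trans (one_mul η).symm)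
    rw [one_mul] at a2
    rw [e1] at h2
    rw [a2] at k2
    have t2 : (2 : F) ≠ 0 := fun t2 => τ (by linear_combination (η * p) * t2 - h2)
    have e4 : η * p = -(ξ * p') := mul_left_cancel₀ t2 (by linear_combination e + h2 + k2)
    linear_combination (-(p * σ p)) * hη + (p' * σ p') * hξ - (η * p) * h2 + (ξ * p') * k2 + (η * p - ξ * p') * e4
  · refine ⟨_, _, _, _, η', σ η', ξ, σ ξ, S0, ⟨h1, c h1, hξ, c hξ, by linear_combination (ξ * σ ξ) * h1 + hξ,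
      by linear_combination e + h2 + h3⟩, fun ⟨a, a1, _, a2, _⟩ => e1 ?_⟩
    obtain rfl : a = 1 := mul_right_cancel₀ (z hξ) (a2.symm.trans (one_mul ξ).symm)
    rw [a1, one_mul]

end Cfsg.Lib.Forms
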