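import Cfsg.Agent.Lib.K4.Sw3a
import Cfsg.Agent.Lib.MaxU.Std

/-! Maximality of the stabiliser of an orthonormal frame in `SU_4(q)`, `q ≠ 3`. -/

set_option autoImplicit false
set_option linter.unusedSectionVars false
set_option linter.unusedSimpArgs false

namespace Cfsg.Lib.Forms

open Module Form Herm Cfsg.Geo

variable {F : Type*} [Field F] {σ : F →+* F} {V : Type*} [AddCommGroup V] [Module F V] {q : ℕ}
  {h : IsConj σ q} {D : Form h.kind V} {X L : Subgroup D.isom} {b : Basis (Fin 4) F V} [FiniteDimensional F V]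

namespace ONB

variable (hb : ONB D b)
include hb

section

variable {k : Fin 4} (hL : ∀ g ∈ frm D b, ∀ c : F, g.1 (b k) = c • b k → g ∈ L)
include hL

theorem win3w {u : V} (hu : D.Q u = 1) (uk : D.B (b k) u = 0) (hT : Rk L u) (H : ∀ i, i ≠ k → D.B (b i) u ≠ 0) :
    D.Full L (D.perp (F ∙ b k)) := by
  obtain ⟨i₁, i₂, i₃, k1, k2, k3, n1, n2, n4, hs⟩ : ∃ i₁ i₂ i₃ : Fin 4, i₁ ≠ k ∧ i₂ ≠ k ∧ i₃ ≠ k ∧ i₁ ≠ i₂ ∧ i₁ ≠ i₃ ∧
      i₂ ≠ i₃ ∧ (Finset.univ : Finset (Fin 4)) = {k, i₁, i₂, i₃} := by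
    clear hL uk H; revert k; decide
  have h1 := H _ k1
  have h2 := H _ k2
  have h3 := H _ k3
  have N : ∀ {a : F}, a ≠ 0 → a * σ a ≠ 0 := fun ha => mul_ne_zero ha ((map_ne_zero σ).2 ha)
  have N' : ∀ a : F, σ (a * σ a) = a * σ a := fun a => by rw [map_mul, h.σσ, mul_comm]
  have hu' := hu
  rw [Q_eq, hb.B_sum, hs, Finset.sum_insert (by simp [k1.symm, k2.symm, k3.symm]),
    Finset.sum_insert (by simp [n1, n2]), Finset.sum_pair n4, uk] at hu'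
  obtain ⟨ε₁, ε₂, ε₃, e1, e2, e3, e5, e6⟩ := h.circ3w (N h1) (N h2) (N h3) (N' _) (N' _) (N' _)
    (by linear_combination hu')
  have R := fun i ε (hε : ε * σ ε = 1) => hb.rk_b hL i _ (isRk1_unit (hb.Q_b i) hε)
  have hg := mul_mem (mul_mem (R i₁ _ e1) (R i₂ _ e2)) (R i₃ _ e3)
  obtain ⟨z, hz⟩ : ∃ z, z = ((ε₁ - 1) * D.B (b i₁) u) • b i₁ + ((ε₂ - 1) * D.B (b i₂) u) • b i₂ +
    ((ε₃ - 1) * D.B (b i₃) u) • b i₃ := ⟨_, rfl⟩
  have h5 := hT.conj hg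
  have h6 := Q_isom (D.rk1 _ _ (isRk1_unit (hb.Q_b i₁) e1) * D.rk1 _ _ (isRk1_unit (hb.Q_b i₂) e2) *
    D.rk1 _ _ (isRk1_unit (hb.Q_b i₃) e3)) u
  rw [show (_ : D.isom).1 u = u + z by
    simp only [hz, isom_mul_apply, rk1_apply, D.B_lin, hb.ne n1, hb.ne n2, hb.ne n4]; module] at h5 h6
  have h7 : D.B u z = 0 := by
    simp only [hz, D.B_lin, B_symm D (b _) u]; linear_combination e5 - hu'
  have h8 : D.Q z = 0 := by simpa [D.Q_add_of_B h7] using h6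
  obtain ⟨h9, h10⟩ := rk_of_degenerate hu h8 h7 hT h5
  have z0 : z ≠ 0 := fun h0 => by
    have a1 := congrArg (D.B (b i₃)) (hz.symm.trans h0)
    simp [hb.self, hb.ne, n2.symm, n4.symm, h3, sub_eq_zero] at a1
    exact e6 a1
  have zk : D.B (b k) z = 0 := by simp [hz, hb.ne k1.symm, hb.ne k2.symm, hb.ne k3.symm]
  obtain ⟨i, hi⟩ := hb.exists_ne z0
  obtain ⟨j, ji, hj⟩ : ∃ j, j ≠ i ∧ D.B (b j) z ≠ 0 := by
    by_contra! H
    rw [Q_eq, hb.B_sum, Fintype.sum_eq_single i fun j hj => by simp [H j hj]] at h8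
    simp [hi] at h8
  exact hb.win hL h8 zk h9 ji.symm hi hj (Or.inr ⟨u, by simp [hu], D.eq_zero_symm h7, uk, h10⟩)

omit hL in
theorem q_ne_twow {u : V} (hu : D.Q u = 1) {i j : Fin 4} (hij : i ≠ j) (hi : D.B (b i) u ≠ 0) (hj : D.B (b j) u ≠ 0)
    (H : ∀ l, l ≠ i → l ≠ j → D.B (b l) u = 0) : q ≠ 2 :=
  h.ne_twow hi hj (by rw [Q_eq, hb.sum_pair hij H] at hu; linear_combination hu)

theorem win24w {u : V} (hu : D.Q u = 1) (uk : D.B (b k) u = 0) (hT : Rk L u) (h2 : 2 ≤ (sp D b u).card) :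
    D.Full L (D.perp (F ∙ b k)) := by
  by_cases H : ∀ i, i ≠ k → D.B (b i) u ≠ 0
  · exact hb.win3w hL hu uk hT H
  push Not at H
  obtain ⟨m, mk, hm⟩ := H
  obtain ⟨i, hi, j, hj, hij⟩ := Finset.one_lt_card.1 h2
  rw [mem_sp] at hi hj
  have ik : i ≠ k := by rintro rfl; exact hi uk
  have jk : j ≠ k := by rintro rfl; exact hj uk
  have im : i ≠ m := by rintro rfl; exact hi hm
  have jm : j ≠ m := by rintro rfl; exact hj hm
  have c : ∀ l : Fin 4, l = i ∨ l = j ∨ l = k ∨ l = m := fun l => by omega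
  obtain ⟨v, v1, v2, v3, v4, v5⟩ := hb.grow hL (hb.q_ne_twow hu hij hi hj fun l li lj => by
    rcases c l with e | e | e | e
    exacts [absurd e li, absurd e lj, e ▸ uk, e ▸ hm]) hu uk hT hij hi hj hm mk
  refine hb.win3w hL v1 v2 v3 fun l lk => ?_
  rcases c l with e | e | e | e
  exacts [e ▸ v5 _ hi, e ▸ v5 _ hj, absurd e lk, e ▸ v4]

end

variable (hE : X ≤ D.E) (hX : D.E ⊓ frm D b ≤ X) (hW : ¬ D.E ≤ X)
include hE hX hW

theorem stab_mono4w {g : D.isom} (hg : g ∈ X) {k : Fin 4} {c : F} (hk : g.1 (b k) = c • b k) :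
    g ∈ frm D b := mem_frm.2 fun j => by
  by_cases jk : j = k
  · exact ⟨k, c, jk ▸ hk⟩
  have hL := fun g hg c => hb.mem_agr (by simp) hX (g := g) hg (k := k) (c := c)
  have h1 : g ∈ agr X (D.perp (F ∙ b k)) := ⟨hb.mem_stab hk, g, hg, fun _ _ => rfl⟩
  refine hb.eq_smul_of_card (not_lt.1 fun H => hW (hb.E_le_of_full (by simp) hE hX
    (hb.win24w hL (by simp [hb.Q_b]) ?_ ((hb.rk_b hL j).conj h1) H))) j
  exact D.mem_perp_span_singleton.1 (stab_mem h1.1 (D.mem_perp_span_singleton.2 (hb.ne (Ne.symm jk))))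

theorem mem_of_map4w {g : D.isom} (hg : g ∈ X) {l k : Fin 4} {c : F} (hk : g.1 (b l) = c • b k) :
    g ∈ frm D b := by
  by_cases lk : k = l
  · exact hb.stab_mono4w hE hX hW hg (lk ▸ hk)
  have h6 : (1 : F) * σ 1 = 1 := by simp
  obtain ⟨a, ha, h3⟩ := hb.exists_fix (by simp) (hb.sw_mem lk h6) l
  refine (Subgroup.mul_mem_cancel_left (frm D b) h3.2).1 (hb.stab_mono4w hE hX hW (mul_mem (hX h3) hg) (k := l)
    (c := c) ?_)
  rw [isom_mul_apply, hk, map_smul, isom_mul_apply, D.rk1_apply_of_perp _ _ (hb.ne (Ne.symm lk)),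
    hb.sw_left, one_smul]

theorem frame_map4w {g y : D.isom} (hg : g ∈ X) (hy : y ∈ X) {l : Fin 4}
    (H : y.1 (g.1 (b l)) = g.1 (b l)) (m : Fin 4) : ∃ m', ∃ c : F, y.1 (g.1 (b m)) = c • g.1 (b m') := by
  obtain ⟨m', c, hc⟩ := mem_frm.1 (hb.stab_mono4w hE hX hW
    (mul_mem (mul_mem (inv_mem hg) hy) hg) (k := l) (c := 1) (by simp [isom_mul_apply, H])) m
  exact ⟨m', c, by rw [← map_smul, ← hc]; simp [isom_mul_apply]⟩

/-- the basic alternative for the torus element `diag(ε, ε⁻¹)` fixing a column -/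
theorem alt4w {g : D.isom} (hg : g ∈ X) {l a a' : Fin 4} (ha : a ≠ a')
    (h1 : D.B (b a) (g.1 (b l)) = 0) (h2 : D.B (b a') (g.1 (b l)) = 0) (m : Fin 4) {ε : F} (hε : ε * σ ε = 1) :
    (∃ s : F, ε * D.B (b a) (g.1 (b m)) = s * D.B (b a) (g.1 (b m)) ∧
      σ ε * D.B (b a') (g.1 (b m)) = s * D.B (b a') (g.1 (b m)) ∧
      ∀ c, c ≠ a → c ≠ a' → D.B (b c) (g.1 (b m)) = s * D.B (b c) (g.1 (b m))) ∨
    1 + (ε - 1) * (D.B (b a) (g.1 (b m)) * σ (D.B (b a) (g.1 (b m)))) +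
      (σ ε - 1) * (D.B (b a') (g.1 (b m)) * σ (D.B (b a') (g.1 (b m)))) = 0 := by
  set f := g.1 (b m) with hf
  have k1 := isRk1_unit (hb.Q_b a) hε
  have k2 := isRk1_unit (hb.Q_b a') (ε := σ ε) (by rw [h.σσ, mul_comm, hε])
  have k3 : D.rk1 _ _ k1 * D.rk1 _ _ k2 ∈ X := hX ⟨hb.mem_E' (by simp) (by
    simp [det_rk1, hb.self, hε]), mul_mem (hb.rk_mem _ _ _) (hb.rk_mem _ _ _)⟩
  obtain ⟨m', r, hr⟩ := hb.frame_map4w hE hX hW hg k3 (l := l) (by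
    rw [isom_mul_apply, D.rk1_apply_of_perp _ _ h2, D.rk1_apply_of_perp _ _ h1]) m
  rcases hb.eq_or_B (one_smul F f).symm hr (by simpa [hf] using b.ne_zero m) with ⟨s, hs⟩ | hs
  · have a1 := congrArg (D.B (b a')) hs
    have a2 := congrArg (D.B (b a)) hs
    simp only [isom_mul_apply, rk1_apply, D.B_lin, hb.ne ha, hb.ne ha.symm, hb.self, ← hf] at a1 a2
    refine Or.inl ⟨s, by linear_combination a2, by linear_combination a1, fun c ca ca' => ?_⟩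
    have a3 := congrArg (D.B (b c)) hs
    simp only [isom_mul_apply, rk1_apply, D.B_lin, hb.ne ca, hb.ne ca', hb.ne ha, ← hf] at a3
    linear_combination a3
  · have : D.B f f = 1 := by simp [hf, hb.self]
    simp only [isom_mul_apply, rk1_apply, D.B_lin, hb.ne ha, B_symm D (b _) f, ← hf, this] at hs
    exact Or.inr (by linear_combination hs)

theorem two_zero4w (hq : q ≠ 3) {g : D.isom} (hg : g ∈ X) (hg' : g ∉ frm D b) {l a a' : Fin 4} (ha : a ≠ a')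
    (h1 : D.B (b a) (g.1 (b l)) = 0) : D.B (b a') (g.1 (b l)) ≠ 0 := by
  intro h2
  obtain ⟨c, c', ca, ca', da, da', cc, hs⟩ : ∃ c c' : Fin 4, c ≠ a ∧ c ≠ a' ∧ c' ≠ a ∧ c' ≠ a' ∧ c ≠ c' ∧
      ∀ j, j ≠ c → j ≠ c' → j = a ∨ j = a' := by
    clear h1 h2; revert a a'; decide
  have h0 : ∀ j, j ≠ c → j ≠ c' → D.B (b j) (g.1 (b l)) = 0 := fun j h3 h4 => (hs j h3 h4).elim (· ▸ h1) (· ▸ h2)
  have one : ∀ {c c' : Fin 4}, (∀ j, j ≠ c → j ≠ c' → D.B (b j) (g.1 (b l)) = 0) → D.B (b c) (g.1 (b l)) ≠ 0 :=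
    fun {c c'} H h3 => hg' (hb.mem_of_map4w hE hX hW hg (l := l) (k := c') (c := D.B (b c') (g.1 (b l)))
      (hb.ext fun j => by
        by_cases hj : j = c'
        · simp [hj, hb.self]
        by_cases hj' : j = c
        · simp [hb.ne hj, hj' ▸ h3]
        · simp [hb.ne hj, H j hj' hj]))
  have hc := one h0
  have hc' := one fun j h3 h4 => h0 j h4 h3
  have hu : D.Q (g.1 (b l)) = 1 := by simp [hb.Q_b]
  have q2 := hb.q_ne_twow hu cc hc hc' h0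
  obtain ⟨m, hm⟩ := hb.exists_coord_ne g a
  have dich : ∀ e, e ≠ a → e ≠ a' → D.B (b e) (g.1 (b m)) = 0 := fun e ea ea' => by
    by_contra h4
    have k : ∀ ε : F, ε * σ ε = 1 → ε ≠ 1 → (D.B (b a) (g.1 (b m)) * σ (D.B (b a) (g.1 (b m)))) * ε ^ 2 +
        (1 - D.B (b a) (g.1 (b m)) * σ (D.B (b a) (g.1 (b m))) -
          D.B (b a') (g.1 (b m)) * σ (D.B (b a') (g.1 (b m)))) * ε +
        D.B (b a') (g.1 (b m)) * σ (D.B (b a') (g.1 (b m))) = 0 := fun ε hε e1 => by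
      rcases hb.alt4w hE hX hW hg ha h1 h2 m hε with ⟨s, a1, -, a3⟩ | hs
      · obtain rfl : s = 1 := mul_right_cancel₀ h4 (by linear_combination -a3 e ea ea')
        exact (e1 (mul_right_cancel₀ hm a1)).elim
      · linear_combination ε * hs - (D.B (b a') (g.1 (b m)) * σ (D.B (b a') (g.1 (b m)))) * hε
    obtain ⟨x, hx, x1, -⟩ := h.exists_mu3 1 1
    obtain ⟨y, hy, y1, y2⟩ := h.exists_mu3 1 x
    obtain ⟨z, hz, z1, z2, z3⟩ := h.exists_mu4 q2 1 x y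
    simpa [hm] using quad3 (k x hx x1) (k y hy y1) (k z hz z1) y2.symm z2.symm z3.symm
  obtain ⟨s, s1, s4⟩ := h.exists_s4w hq
  rw [Q_eq, hb.sum_pair cc h0] at hu
  rcases hb.alt4w hE hX hW hg cc (dich c ca ca') (dich c' da da') l s1 with ⟨t, a1, a2, -⟩ | e
  · have := (mul_right_cancel₀ hc a1).trans (mul_right_cancel₀ hc' a2).symm
    exact s4 (by rw [← this] at s1; linear_combination (s ^ 2 + 1) * s1)
  · have N' : ∀ a : F, σ (a * σ a) = a * σ a := fun a => by rw [map_mul, h.σσ, mul_comm]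
    exact h.scale_new s1 s4 (N' (D.B (b c) (g.1 (b l)))) (N' (D.B (b c') (g.1 (b l)))) (by linear_combination hu)
      (by linear_combination e + hu)

theorem no_zero4w (hq : q ≠ 3) {g : D.isom} (hg : g ∈ X) (hg' : g ∉ frm D b) (l a : Fin 4) :
    D.B (b a) (g.1 (b l)) ≠ 0 := fun h1 => by
  obtain ⟨s, hs, h2⟩ := h.exists_s4w hq
  have h3 := fun a' (ha : a ≠ a') => hb.two_zero4w hE hX hW hq hg hg' ha h1
  have h4 : σ s ^ 4 * σ (σ s ^ 4) = 1 := by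
    rw [map_pow, h.σσ, ← mul_pow, mul_comm, hs, one_pow]
  have k1 := isRk1_unit (hb.Q_b l) h4
  have h5 : D.scalar s hs * D.rk1 _ _ k1 ∈ X := hX ⟨hb.mem_E' (by simp) (by
    rw [map_mul, Units.val_mul, det_of_smul (scalar_apply s hs), det_rk1, finrank_eq_card_basis b,
      hb.self]; simp [← mul_pow, hs]), mul_mem (mem_frm.2 fun i => ⟨i, s, rfl⟩) (hb.rk_mem _ _ _)⟩
  have h6 : ∀ x, (g * (D.scalar s hs * D.rk1 _ _ k1) * g⁻¹).1 x = s • (x + ((σ s ^ 4 - 1)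
      * D.B (g.1 (b l)) x) • g.1 (b l)) := fun x => by
    simp [isom_mul_apply, rk1_apply, B_isom_left]
  obtain ⟨m, i, j, ma, ia, im, ja, jm, ji⟩ : ∃ m i j : Fin 4, m ≠ a ∧ i ≠ a ∧ i ≠ m ∧ j ≠ a ∧ j ≠ m ∧ j ≠ i := by
    clear h1 h3; revert a; decide
  obtain ⟨r, c, hc⟩ := mem_frm.1 (hb.stab_mono4w hE hX hW (mul_mem (mul_mem hg h5) (inv_mem hg))
    (k := a) (c := s) (by rw [h6, D.eq_zero_symm h1]; simp)) m
  have h7 : σ s ^ 4 - 1 ≠ 0 := fun h8 => h2 (by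
    rw [← h.σσ s, ← map_pow, sub_eq_zero.1 h8, map_one])
  have k : ∀ i, i ≠ a → i ≠ m → i = r := fun i h8 h9 => by
    by_contra h10
    have := congrArg (D.B (b i)) ((h6 _).symm.trans hc)
    simp [hb.ne h9, hb.ne h10, h7, h3 i h8.symm, D.ne_zero_symm (h3 m ma.symm),
      left_ne_zero_of_mul_eq_one hs] at this
  exact ji ((k j ja jm).trans (k i ia im).symm)

theorem col4w (hq : q ≠ 3) {g k : D.isom} (hg : g ∈ X) (hk : k ∈ frm D b) (h1 : (D.det k : F) = 1)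
    (H : D.B (g.1 (b 0)) (k.1 (g.1 (b 0))) = 0) : ∃ m, m ≠ 0 ∧ ∃ c : F, k.1 (g.1 (b 0)) = c • g.1 (b m) := by
  have h2 : g⁻¹ * k * g ∈ frm D b := by
    by_contra h2
    exact hb.no_zero4w hE hX hW hq (mul_mem (mul_mem (inv_mem hg) (hX ⟨hb.mem_E' (by simp) h1, hk⟩)) hg) h2 0 0
      (by rwa [isom_mul_apply, isom_mul_apply, ← B_isom_left])
  obtain ⟨m, c, hc⟩ := mem_frm.1 h2 0
  have hc' : k.1 (g.1 (b 0)) = c • g.1 (b m) := by rw [← map_smul, ← hc]; simp [isom_mul_apply]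
  refine ⟨m, ?_, c, hc'⟩
  rintro rfl
  rw [hc'] at H
  have : c = 0 := by simpa [hb.self] using H
  rw [this, zero_smul] at hc'
  exact b.ne_zero 0 (by simpa using hc')

theorem pair4w (hq : q ≠ 3) {g : D.isom} (hg : g ∈ X) (hg' : g ∉ frm D b) {i₀ i₁ i₂ i₃ : Fin 4} (π : Equiv.Perm (Fin 4))
    (p0 : π 0 = i₀) (p1 : π 1 = i₁) (p2 : π 2 = i₂) (p3 : π 3 = i₃) {x : Fin 4 → F}
    (hx : ∀ i, D.B (b i) (g.1 (b 0)) = x i) :
    x i₀ * σ (x i₀) * (x i₁ * σ (x i₁)) ≠ x i₂ * σ (x i₂) * (x i₃ * σ (x i₃)) ∧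
    ∃ m m' : Fin 4, m ≠ 0 ∧ m' ≠ 0 ∧ m ≠ m' ∧ ∀ n, n = m ∨ n = m' → ∃ c : F, c ≠ 0 ∧
      c * (D.B (b i₀) (g.1 (b n)) * σ (D.B (b i₀) (g.1 (b n)))) = x i₁ * σ (x i₁) ∧
      c * (D.B (b i₁) (g.1 (b n)) * σ (D.B (b i₁) (g.1 (b n)))) = x i₀ * σ (x i₀) ∧
      c * (D.B (b i₂) (g.1 (b n)) * σ (D.B (b i₂) (g.1 (b n)))) = x i₃ * σ (x i₃) ∧
      c * (D.B (b i₃) (g.1 (b n)) * σ (D.B (b i₃) (g.1 (b n)))) = x i₂ * σ (x i₂) := by
  have n01 : i₀ ≠ i₁ := by rw [← p0, ← p1]; simp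
  have n02 : i₀ ≠ i₂ := by rw [← p0, ← p2]; simp
  have n03 : i₀ ≠ i₃ := by rw [← p0, ← p3]; simp
  have n12 : i₁ ≠ i₂ := by rw [← p1, ← p2]; simp
  have n13 : i₁ ≠ i₃ := by rw [← p1, ← p3]; simp
  have n23 : i₂ ≠ i₃ := by rw [← p2, ← p3]; simp
  have x0 : ∀ i, x i ≠ 0 := fun i => hx i ▸ hb.no_zero4w hE hX hW hq hg hg' 0 i
  have BS : ∀ y z, D.B y z = σ (D.B (b i₀) y) * D.B (b i₀) z + σ (D.B (b i₁) y) * D.B (b i₁) z +
      σ (D.B (b i₂) y) * D.B (b i₂) z + σ (D.B (b i₃) y) * D.B (b i₃) z := fun y z => by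
    rw [hb.B_sum, ← Equiv.sum_comp π, Fin.sum_univ_four, p0, p1, p2, p3]
  have h6 : (1 : F) * σ 1 = 1 := by simp
  have key : ∀ t₀ t₁ t₂ t₃, SwSol σ (σ (x i₀) * x i₁) (σ (x i₂) * x i₃) t₀ t₁ t₂ t₃ → ∃ m, m ≠ 0 ∧ ∃ c : F,
      c * D.B (b i₀) (g.1 (b m)) = t₀ * x i₁ ∧ c * D.B (b i₁) (g.1 (b m)) = t₁ * x i₀ ∧
      c * D.B (b i₂) (g.1 (b m)) = t₂ * x i₃ ∧ c * D.B (b i₃) (g.1 (b m)) = t₃ * x i₂ :=
    fun t₀ t₁ t₂ t₃ ⟨a0, a1, a2, a3, a4, a5⟩ => by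
      have ht : ∀ i, ![t₀, t₁, t₂, t₃] (π.symm i) * σ (![t₀, t₁, t₂, t₃] (π.symm i)) = 1 := fun i => by
        generalize π.symm i = j
        fin_cases j <;> assumption
      have co : ∀ j, D.B (b (π j)) ((hb.dg _ ht * (hb.sw n01 h6 * hb.sw n23 h6)).1 (g.1 (b 0))) =
          ![t₀, t₁, t₂, t₃] j * x (Equiv.swap i₂ i₃ (Equiv.swap i₀ i₁ (π j))) := fun j => by
        rw [isom_mul_apply, hb.co_dg, isom_mul_apply, hb.co_sw, hb.co_sw, hx, Equiv.symm_apply_apply]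
      have c0 := co 0
      have c1 := co 1
      have c2 := co 2
      have c3 := co 3
      rw [p0, Equiv.swap_apply_left, Equiv.swap_apply_of_ne_of_ne n12 n13] at c0
      rw [p1, Equiv.swap_apply_right, Equiv.swap_apply_of_ne_of_ne n02 n03] at c1
      rw [p2, Equiv.swap_apply_of_ne_of_ne n02.symm n12.symm, Equiv.swap_apply_left] at c2
      rw [p3, Equiv.swap_apply_of_ne_of_ne n03.symm n13.symm, Equiv.swap_apply_right] at c3
      obtain ⟨m, m0, c, hc⟩ := hb.col4w hE hX hW hq hg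
        (mul_mem (hb.dg_mem _ ht) (mul_mem (hb.sw_mem n01 h6) (hb.sw_mem n23 h6)))
        (by rw [map_mul, map_mul, Units.val_mul, Units.val_mul, hb.det_dg, hb.det_sw, hb.det_sw,
              Equiv.prod_comp π.symm (fun j => ![t₀, t₁, t₂, t₃] j), Fin.prod_univ_four]
            simpa using a4)
        (by rw [BS, c0, c1, c2, c3, hx, hx, hx, hx]
            simp only [map_mul, h.σσ] at a5
            simp only [Matrix.cons_val]
            linear_combination a5)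
      rw [hc, D.B_smul_right] at c0 c1 c2 c3
      exact ⟨m, m0, c, c0, c1, c2, c3⟩
  have N' : ∀ a : F, σ (a * σ a) = a * σ a := fun a => by rw [map_mul, h.σσ, mul_comm]
  have s0 := fun i => (map_ne_zero σ).2 (x0 i)
  have hN := BS (g.1 (b 0)) (g.1 (b 0))
  rw [B_isom, hb.self, hx, hx, hx, hx] at hN
  have prop : ∀ {t₀ t₁ t₂ t₃ u₀ u₁ u₂ u₃ c c' y₀ y₁ y₂ y₃ : F}, t₀ * σ t₀ = 1 → c * y₀ = t₀ * x i₁ → c * y₁ = t₁ * x i₀ →
      c * y₂ = t₂ * x i₃ → c * y₃ = t₃ * x i₂ → c' * y₀ = u₀ * x i₁ → c' * y₁ = u₁ * x i₀ → c' * y₂ = u₂ * x i₃ →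
      c' * y₃ = u₃ * x i₂ → ∃ a, u₀ = a * t₀ ∧ u₁ = a * t₁ ∧ u₂ = a * t₂ ∧ u₃ = a * t₃ :=
    fun {t₀ t₁ t₂ t₃ u₀ u₁ u₂ u₃ c c' y₀ y₁ y₂ y₃} a0 c0 c1 c2 c3 d0 d1 d2 d3 => by
      have cz : c ≠ 0 := by
        rintro rfl
        exact mul_ne_zero (left_ne_zero_of_mul_eq_one a0) (x0 i₁) (by rw [← c0, zero_mul])
      refine ⟨c' / c, mul_right_cancel₀ (x0 i₁) ?_, mul_right_cancel₀ (x0 i₀) ?_, mul_right_cancel₀ (x0 i₃) ?_,
        mul_right_cancel₀ (x0 i₂) ?_⟩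
      · rw [mul_assoc, ← c0, ← d0]; field_simp
      · rw [mul_assoc, ← c1, ← d1]; field_simp
      · rw [mul_assoc, ← c2, ← d2]; field_simp
      · rw [mul_assoc, ← c3, ← d3]; field_simp
  obtain ⟨H1, t₀, t₁, t₂, t₃, u₀, u₁, u₂, u₃, S, S', H2⟩ := h.pairLw hq (mul_ne_zero (s0 i₀) (x0 i₁))
    (mul_ne_zero (s0 i₂) (x0 i₃)) (N' (x i₁)) (N' (x i₀)) (N' (x i₃)) (N' (x i₂)) (by linear_combination -hN)
    fun t₀ t₁ t₂ t₃ u₀ u₁ u₂ u₃ S S' => by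
      obtain ⟨m, -, c, c0, c1, c2, c3⟩ := key _ _ _ _ S
      obtain ⟨m', -, c', d0, d1, d2, d3⟩ := key _ _ _ _ S'
      by_cases e : m = m'
      · subst e
        exact Or.inl (prop S.1 c0 c1 c2 c3 d0 d1 d2 d3)
      · have e1 := BS (c • g.1 (b m)) (c' • g.1 (b m'))
        simp only [D.B_smul_right, c0, c1, c2, c3, d0, d1, d2, d3, map_mul] at e1
        rw [D.B_smul_left, B_isom, hb.ne e] at e1
        exact Or.inr (by linear_combination -e1)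
  refine ⟨fun e => H1 (by simp only [map_mul, h.σσ]; linear_combination e), ?_⟩
  obtain ⟨m, m0, c, c0, c1, c2, c3⟩ := key _ _ _ _ S
  obtain ⟨m', m0', c', d0, d1, d2, d3⟩ := key _ _ _ _ S'
  have nm : ∀ {c y t z : F}, t * σ t = 1 → c * y = t * z → c * σ c * (y * σ y) = z * σ z := fun {c y t z} a e => by
    have := congrArg σ e
    rw [map_mul, map_mul] at this
    linear_combination (σ c * σ y) * e + (t * z) * this + (z * σ z) * a
  have nz : ∀ {c y t z : F}, t * σ t = 1 → c * y = t * z → z ≠ 0 → c * σ c ≠ 0 := fun {c y t z} a e hz => by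
    have : c ≠ 0 := by
      rintro rfl
      exact mul_ne_zero (left_ne_zero_of_mul_eq_one a) hz (by rw [← e, zero_mul])
    exact mul_ne_zero this ((map_ne_zero σ).2 this)
  refine ⟨m, m', m0, m0', fun e => H2 (by subst e; exact prop S.1 c0 c1 c2 c3 d0 d1 d2 d3), ?_⟩
  rintro n (rfl | rfl)
  · exact ⟨_, nz S.1 c0 (x0 _), nm S.1 c0, nm S.2.1 c1, nm S.2.2.1 c2, nm S.2.2.2.1 c3⟩
  · exact ⟨_, nz S'.1 d0 (x0 _), nm S'.1 d0, nm S'.2.1 d1, nm S'.2.2.1 d2, nm S'.2.2.2.1 d3⟩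

theorem le_frm4w (hq : q ≠ 3) : X ≤ frm D b := fun g hg => by
  by_contra hg'
  obtain ⟨x, hx⟩ : ∃ x : Fin 4 → F, ∀ i, D.B (b i) (g.1 (b 0)) = x i := ⟨_, fun _ => rfl⟩
  obtain ⟨H1, m, m', a1, a2, a3, A⟩ := hb.pair4w hE hX hW hq hg hg' (i₀ := 0) (i₁ := 1) (i₂ := 2) (i₃ := 3)
    1 rfl rfl rfl rfl hx
  obtain ⟨-, n, n', b1, b2, b3, B⟩ := hb.pair4w hE hX hW hq hg hg' (i₀ := 0) (i₁ := 2) (i₂ := 1) (i₃ := 3)
    (Equiv.swap 1 2) rfl rfl rfl rfl hx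
  obtain ⟨r, r1, r2⟩ : ∃ r, (r = m ∨ r = m') ∧ (r = n ∨ r = n') := by
    by_cases e : m = n ∨ m = n'
    exacts [⟨m, Or.inl rfl, e⟩, ⟨m', Or.inr rfl, by omega⟩]
  obtain ⟨c, -, -, c1, -, c3⟩ := A r r1
  obtain ⟨d, -, -, -, d2, d3⟩ := B r r2
  exact H1 (by rw [← c1, ← d3, ← c3, ← d2]; ring)

omit hE hX hW in
theorem not_E_le4w : ¬ D.E ≤ frm D b := fun H => by
  obtain ⟨e, he, f, -, hef⟩ := hb.exists_hyp (i := 1) (j := 2) (by decide)
  have h1 : D.B (b 0) e = 0 := by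
    obtain ⟨s, t, rfl⟩ := Submodule.mem_span_pair.1 he
    simp [hb.ne (i := 0) (j := 1) (by decide), hb.ne (i := 0) (j := 2) (by decide)]
  have h2 : D.B (b 0) (b 0 + e) = 1 := by simp [h1, hb.self]
  obtain ⟨g, hg, h3⟩ := exists_mem_E_map hb.nondeg (card_le b (by simp)) (b.ne_zero 0) (y := b 0 + e)
    (fun h0 => by simp [h0] at h2) (by rw [D.Q_add_of_B h1, hef.Q_e, add_zero])
  obtain ⟨j, c, hc⟩ := mem_frm.1 (H hg) 0
  rw [h3] at hc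
  rw [hc, D.B_smul_right] at h2
  by_cases hj : (0 : Fin 4) = j
  · subst hj
    rw [hb.self, mul_one] at h2
    have h4 := hef.B_ef
    rw [h2, one_smul, add_eq_left] at hc
    simp [hc] at h4
  · simp [hb.ne hj] at h2

end ONB

theorem su4_lines {F : Type*} [Field F] [Fintype F] (q : ℕ) (hF : Fintype.card F = q ^ 2) :
    q ≠ 3 → ∀ D : Fin 4 → Submodule F (Fin 4 → F), IsNondegenerateMDecomposition (hermForm 4 F q) 1 D →
      IsMaximalIn (GU 4 F q ⊓ specialLinear (Fin 4) F)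
        (decompositionStabilizer D ⊓ (GU 4 F q ⊓ specialLinear (Fin 4) F)) := by
  intro hq W hW
  obtain ⟨σ, h⟩ := isConj_of_card hF
  have hD := stdHerm_nondeg h (Fin 4)
  have h1 := (rep_herm h 4).isOrth hW
  have h3 := hW.decomp.finrank_eq
  obtain ⟨b, hb, h7⟩ := exists_onb hD h1 h3
  refine isMaximalIn_map' (su_eq h (by omega)) (comap_decompositionStabilizer W) toGL_injective ?_ ?_ <;> rw [h7]
  · exact hb.not_E_le4w
  · exact fun X hE hX H => by_contra fun hW => H (hb.le_frm4w hE hX hW hq)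

end Cfsg.Lib.Forms
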