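import Cfsg.Agent.Lib.Max.FmD

/-!
# Transfer of maximality along the Klein correspondence
-/

namespace Cfsg.Lib.Forms

open Module Form Submodule Finset

variable {F V : Type*} [Field F] [AddCommGroup V] [Module F V]

namespace Form

variable {D : Form (quadKind F) V} {X : Subgroup D.isom} {ι : Type*}

namespace IsFrame

variable {e : ι → V} {c : F} (h : D.IsFrame e c) [DecidableEq ι] [Fintype ι]
variable [Fintype F] [FiniteDimensional F V]
include h

omit [Fintype F] [FiniteDimensional F V] [DecidableEq ι] [Fintype ι] in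
theorem ext' {x y : V} (H : ∀ i, D.B (e i) x = D.B (e i) y) : x = y :=
  sub_eq_zero.1 (h.ext _ fun i => by rw [map_sub, H, sub_self])

theorem not_E_le (hn : 4 ≤ Fintype.card ι) : ¬ D.E ≤ D.dec fun i => F ∙ e i := fun H => by
  have h2 := h.two
  have c0 := h.ne
  obtain ⟨f, -⟩ := Function.Embedding.exists_of_card_le_finset (α := Fin 4) (s := (univ : Finset ι)) (by simpa)
  obtain ⟨r, s, h9⟩ := exists_binary h2 one_ne_zero one_ne_zero (-1 : F)
  have q : D.Q (r • e (f 0) + s • e (f 1) + e (f 2)) = 0 := by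
    simp [quad_Q_add, quad_Q_smul, h.Q, h.B_eq]; linear_combination c * h9
  obtain ⟨j, hj⟩ := h.mem_dec_iff.1 (H (eich_mem_E _ _ _ (isEich_quad q (z := e (f 3)) (by simp [h.B_eq])))) (f 3)
  obtain ⟨t, ht⟩ := mem_span_singleton.1 hj
  have k1 := congrArg (D.B (e (f 3))) ht
  have k2 := congrArg (D.B (e (f 2))) ht
  simp [eich_apply, h.B_eq] at k1 k2
  split_ifs at k1 k2 with h3 h4 h4
  · simpa using h3.trans h4.symm
  · exact mul_ne_zero (mul_ne_zero h2 c0) (mul_ne_zero h2 c0) (by linear_combination -k2)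
  all_goals exact mul_ne_zero h2 c0 (by linear_combination -k1)

omit h [DecidableEq ι] [Fintype F] in
theorem of_card (hD : D.Nondeg) (c0 : c ≠ 0) (h2 : (2 : F) ≠ 0) (hQ : ∀ i, D.Q (e i) = c) (hB : ∀ i j, i ≠ j → D.B (e i) (e j) = 0)
    (hc : Fintype.card ι = finrank F V) : D.IsFrame e c := by
  refine ⟨c0, h2, hQ, hB, fun x hx => hD x fun y => ?_⟩
  have h1 : LinearIndependent F e := Fintype.linearIndependent_iff.2 fun g hg i => by
    have := congrArg (D.B (e i)) hg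
    rw [map_sum, sum_eq_single i (fun j _ hj => by simp [hB i j hj.symm]) (by simp)] at this
    simpa [quad_B_self, hQ, c0, h2] using this
  have h3 : span F (Set.range e) ≤ LinearMap.ker (D.B x) :=
    span_le.2 (by rintro _ ⟨i, rfl⟩; exact D.eq_zero_symm (hx i))
  exact h3 ((h1.span_eq_top_of_card_eq_finrank' hc).ge mem_top)

omit [Fintype F] [FiniteDimensional F V] in
theorem isom_eq {g k : D.isom} (H : ∀ i, g.1 (e i) = k.1 (e i)) : g = k := isom_ext fun x => by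
  rw [← h.sum_eq x]; simp only [map_sum, map_smul, H]

omit [Fintype F] [FiniteDimensional F V] in
theorem diag_ind {P : D.isom → Prop} (h0 : P 1) (h1 : ∀ k i, P k → P (D.refl (e i) * k)) {g : D.isom}
    (hg : ∀ i, g.1 (e i) = e i ∨ g.1 (e i) = -e i) : P g := by
  classical
  obtain ⟨k, h3, h4⟩ := h.exists_flip (P := fun _ k => P k) h0 (fun _ => h1) {i | g.1 (e i) = -e i}
  rw [← h.isom_eq (g := k) (k := g) (fun i => h.ext' fun j => ?_)]
  · exact h3
  rw [h4, h.B_flip]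
  by_cases ij : j = i
  · subst ij
    split_ifs with h5
    · rw [(mem_filter.1 h5).2, map_neg]
    · rw [(hg j).resolve_right (by simpa using h5)]
  · rcases hg i with h5 | h5 <;> simp [h5, h.B _ _ ij]

omit [Fintype F] in
theorem norm_iff_dec {A : Type*} [Group A] {ρ : A →* D.isom} {R : Subgroup A}
    (h1 : ∀ s, s ∈ R ↔ ∀ j, (ρ s).1 (e j) = e j ∨ (ρ s).1 (e j) = -e j)
    (h2 : ∀ i j, i ≠ j → ∃ s ∈ R, (ρ s).1 (e i) = e i ∧ (ρ s).1 (e j) = -e j) (g : A) :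
    g ∈ Subgroup.normalizer (R : Set A) ↔ ρ g ∈ D.dec fun i => F ∙ e i := by
  have k : ∀ g, (ρ g ∈ D.dec fun i => F ∙ e i) → ∀ s ∈ R, g⁻¹ * s * g ∈ R := fun g hg s hs => (h1 _).2 fun j => by
    obtain ⟨π, hπ⟩ := h.exists_perm hg
    have := (h1 s).1 hs (π j)
    rw [← (ρ g).1.injective.eq_iff, ← (ρ g).1.injective.eq_iff (b := -_)]
    simp only [map_mul, map_inv, isom_mul_apply, isom_apply_inv, map_neg]
    rcases hπ j with h3 | h3 <;> simpa [h3, neg_eq_iff_eq_neg] using this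
  refine ⟨fun hg => h.mem_dec_iff.2 fun i => (h.mem_or_two _).resolve_right ?_, fun hg =>
    Subgroup.mem_normalizer_iff.2 fun s => ⟨fun hs => by simpa using k g⁻¹ (map_inv ρ g ▸ inv_mem hg) s hs,
      fun hs => by simpa [mul_assoc] using k g hg _ hs⟩⟩
  rintro (h3 | ⟨a, b, ab, ha, hb⟩)
  · exact h.ne (by simpa [h3] using (h.Q i).symm.trans (Q_isom (ρ g) _).symm)
  obtain ⟨s, hs, h4, h5⟩ := h2 a b ab
  have h6 := (h1 _).1 ((Subgroup.mem_normalizer_iff''.1 hg s).1 hs) i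
  rw [← (ρ g).1.injective.eq_iff, ← (ρ g).1.injective.eq_iff (b := -_)] at h6
  simp only [map_mul, map_inv, isom_mul_apply, isom_apply_inv, map_neg] at h6
  have h7 := B_isom (ρ s) (e a) ((ρ g).1 (e i))
  have h8 := B_isom (ρ s) (e b) ((ρ g).1 (e i))
  rcases h6 with h6 | h6 <;> simp only [h6, h4, h5, map_neg, LinearMap.neg_apply] at h7 h8
  · exact mul_ne_zero h.two hb (by linear_combination -h8)
  · exact mul_ne_zero h.two ha (by linear_combination -h7)

end IsFrame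

end Form

theorem max_of_hom {Γ H : Type*} [Group Γ] [Group H] {G N : Subgroup Γ} (ρ : G →* H) {E S : Subgroup H}
    (hE : ρ.range = E) (hS : ∀ g : G, g.1 ∈ N ↔ ρ g ∈ S) (h1 : ¬ E ≤ S)
    (h2 : ∀ X ≤ E, E ⊓ S ≤ X → ¬ X ≤ S → E ≤ X) : Geo.IsMaximalIn G (N ⊓ G) := by
  subst hE
  refine ⟨lt_of_le_of_ne inf_le_right fun h => h1 ?_, fun M h3 h4 => ?_⟩
  · rintro _ ⟨g, rfl⟩
    exact (hS g).1 (h.ge g.2).1
  by_cases h5 : (M.subgroupOf G).map ρ ≤ S
  · exact Or.inl (le_antisymm (fun g hg => ⟨(hS ⟨g, h4 hg⟩).2 (h5 ⟨_, hg, rfl⟩), h4 hg⟩) h3)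
  refine Or.inr (le_antisymm h4 fun g hg => ?_)
  obtain ⟨b, hb, h6⟩ := h2 _ (Subgroup.map_le_range _ _) (by
    rintro _ ⟨⟨a, rfl⟩, ha⟩
    exact ⟨a, h3 ⟨(hS a).2 ha, a.2⟩, rfl⟩) h5 ⟨⟨g, hg⟩, rfl⟩
  have := h3 ⟨(hS (⟨g, hg⟩ * b⁻¹)).2 (by simp [h6]), (⟨g, hg⟩ * b⁻¹ : G).2⟩
  simpa using M.mul_mem this hb

end Cfsg.Lib.Forms
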