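import Cfsg.Agent.Lib.K4.Sl2
import Cfsg.Agent.Lib.Max.Std

/-!
# The Klein correspondence for `SU₄`
-/

set_option autoImplicit false

namespace Cfsg.Lib.Forms.K4

open Module Form Matrix Cfsg.Geo

variable {F K : Type*} [Field F] [Field K] {σ : K →+* K} {q : ℕ}

local notation "M4" => Matrix (Fin 4) (Fin 4) K

theorem wedge_eich {e z : Fin 3 ⊕ Fin 3 → K} {d : K} (hd : (fPlus K 3).IsEich e z d) (x : Fin 3 ⊕ Fin 3 → K) :
    wedge (1 + al K e * al' K z) *ᵥ x = ((fPlus K 3).eich e z d hd).1 x := al_inj (by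
  have e1 : al K e * al' K e = 0 := by rw [al_sq, hd.Q_e, zero_smul]
  have e1' : al' K e * al K e = 0 := by rw [al_sq', hd.Q_e, zero_smul]
  have e2 : al' K z * al K e = -(al' K e * al K z) := by rw [al_an', hd.B_ze, zero_smul, zero_sub]
  have e5 := al_an' z x
  have e6 := al_an x e
  have e8 := al_an e x
  have e9 := al_an x z
  have e10 := al_sq' z
  rw [al_wedge, transpose_add, transpose_mul, al_tr, al'_tr, transpose_one]
  simp only [eich_apply, map_add, map_sub, map_smul, hd.quad_eq, quadKind_ε, one_mul]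
  rw [quad_symm _ x e] at e6
  rw [quad_symm _ x z] at e9
  generalize al K e = E, al K z = Z, al K x = X, al' K e = E', al' K z = Z', al' K x = X',
    (fPlus K 3).B z x = a, (fPlus K 3).B e x = b, (fPlus K 3).Q z = q at *
  have f1 : E * Z' * X = a • E - E * X' * Z := by
    rw [Matrix.mul_assoc, e5, mul_sub, Matrix.mul_assoc]; simp
  have f2 : X * (Z' * E) = E * X' * Z - b • Z := by
    rw [e2, mul_neg, ← Matrix.mul_assoc, e6, sub_mul]; simp
  have f3 : E * (Z' * E) = 0 := by rw [e2, mul_neg, ← Matrix.mul_assoc, e1]; simp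
  have f4 : E * X' * E = b • E := by
    rw [e8, sub_mul, Matrix.mul_assoc X, e1']; simp
  have f5 : E * Z' * X * (Z' * E) = -(b • q • E) := by
    rw [Matrix.mul_assoc E, Matrix.mul_assoc E, Matrix.mul_assoc Z', ← Matrix.mul_assoc X, e9, sub_mul, mul_sub,
      ← Matrix.mul_assoc Z' (Z * X'), ← Matrix.mul_assoc Z' Z, e10]
    simp only [smul_mul_assoc, mul_smul_comm, one_mul, mul_sub, f3, ← Matrix.mul_assoc E X', f4]
    module
  rw [neg_mul_neg, add_mul, one_mul, mul_add, mul_one, add_mul, f5, f1, f2]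
  module)

theorem det_eich {e z : Fin 3 ⊕ Fin 3 → K} {d : K} (hd : (fPlus K 3).IsEich e z d) :
    (1 + al K e * al' K z).det = 1 := by
  have := fPlus_Q_wedge (1 + al K e * al' K z) (fun a => if a = .inl 0 ∨ a = .inr 0 then 1 else 0)
  rw [wedge_eich hd, Q_isom] at this
  simpa [fPlus_Q, quadFormPlus, Fin.sum_univ_three] using this.symm

theorem mem_GU4 (h : IsConj σ q) {n : ℕ} {g : GL (Fin n) K} : g ∈ GU n K q ↔ g.1ᵀ * g.1.map σ = 1 := by
  have h0 : ∀ u v, hermForm n K q u v = u ⬝ᵥ fun i => σ (v i) := fun u v => by simp [hermForm, dotProduct, h.apply]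
  have h1 : ∀ u v, hermForm n K q (g.1 *ᵥ u) (g.1 *ᵥ v) = u ⬝ᵥ (g.1ᵀ * g.1.map σ) *ᵥ fun i => σ (v i) := fun u v => by
    rw [h0, ← mulVec_mulVec, dotProduct_mulVec u, vecMul_transpose]
    congr 1; funext i; simp [mulVec, dotProduct]
  refine ⟨fun H => Matrix.ext fun i j => ?_, fun H u v => ?_⟩
  · have : hermForm n K q (g.1 *ᵥ Pi.single i 1) (g.1 *ᵥ Pi.single j 1) = _ := H _ _
    rw [h1, h0] at this
    simpa [Pi.single_apply, apply_ite σ, mulVec, dotProduct, one_apply, eq_comm] using this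
  · show hermForm n K q (g.1 *ᵥ u) (g.1 *ᵥ v) = _
    rw [h1, H, one_mulVec, h0]

variable (σ) in
/-- The real structure on the exterior square. -/
def io (x : Fin 3 → K) : Fin 3 ⊕ Fin 3 → K := Sum.elim x (σ ∘ x)

theorem io_inj : Function.Injective (io σ) := fun _ _ H => funext fun i => congrFun H (.inl i)

theorem io_add (x y : Fin 3 → K) : io σ (x + y) = io σ x + io σ y := by ext (i | i) <;> simp [io]

theorem io_neg (x : Fin 3 → K) : io σ (-x) = -io σ x := by ext (i | i) <;> simp [io]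

theorem io_sub (x y : Fin 3 → K) : io σ (x - y) = io σ x - io σ y := by ext (i | i) <;> simp [io]

theorem mem_io (h : IsConj σ q) (v : Fin 3 ⊕ Fin 3 → K) : (∃ x, io σ x = v) ↔ (σ ∘ v) ∘ Sum.swap = v :=
  ⟨by rintro ⟨x, rfl⟩; ext (i | i) <;> simp [io, h.σσ], fun H => ⟨v ∘ .inl, by
    ext (i | i); exacts [rfl, congrFun H (.inr i)]⟩⟩

theorem al_io (h : IsConj σ q) (x : Fin 3 → K) : (al K (io σ x)).map σ = -al' K (io σ x) := by
  ext i j; fin_cases i <;> fin_cases j <;> simp [al, al', io, h.σσ]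

theorem al'_io (h : IsConj σ q) (x : Fin 3 → K) : (al' K (io σ x)).map σ = -al K (io σ x) := by
  ext i j; fin_cases i <;> fin_cases j <;> simp [al, al', io, h.σσ]

variable [Algebra F K]

theorem io_smul (h : IsConj σ q) (hF : Nat.card F = q) (c : F) (x : Fin 3 → K) :
    io σ (c • x) = algebraMap F K c • io σ x := by
  ext (i | i) <;> simp [io, Algebra.smul_def, h.map_algebraMap hF]

/-- The Klein correspondence. -/
structure Kl (σ : K →+* K) (q : ℕ) (D : Form (quadKind F) (Fin 3 → K))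
    (ρ : (GU 4 K q ⊓ specialLinear (Fin 4) K : Subgroup _) →* D.isom) : Prop where
  nd : D.Nondeg
  fr : finrank F (Fin 3 → K) = 6
  ts : ¬ D.HasTS 3
  Q : ∀ x, algebraMap F K (D.Q x) = (fPlus K 3).Q (io σ x)
  B : ∀ x y, algebraMap F K (D.B x y) = (fPlus K 3).B (io σ x) (io σ y)
  range : ρ.range = D.E
  app : ∀ g x, io σ ((ρ g).1 x) = wedge g.1.1 *ᵥ io σ x

theorem exists_kl (h : IsConj σ q) (hF : Nat.card F = q) (h2 : finrank F K = 2) :
    ∃ D : Form (quadKind F) (Fin 3 → K), ∃ ρ, Kl σ q D ρ := by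
  have := h.finite
  have := Finite.of_injective _ (algebraMap F K).injective
  obtain ⟨D, hQ, -, hD⟩ := Herm.exists_resQuad (stdHerm h (Fin 3)) hF
  replace hD := hD (stdHerm_nondeg h _)
  have hT := (Herm.hasTS_res_iff _ hF h2 (stdHerm_nondeg h _) hD hQ).not.2 (by simp; decide)
  rw [finrank_fin_fun] at hT
  have hn : finrank F (Fin 3 → K) = 6 := by rw [← finrank_mul_finrank F K, h2]; simp
  have hU := stdHerm_nondeg h (Fin 4)
  let ι : (Fin 3 → K) →ₗ[F] (Fin 3 ⊕ Fin 3 → K) :=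
    { toFun := io σ
      map_add' := io_add
      map_smul' := fun c x => by rw [io_smul h hF, algebraMap_smul]; rfl }
  have hιQ : ∀ x, algebraMap F K (D.Q x) = (fPlus K 3).Q (io σ x) := fun x => by
    simp [hQ, io, fPlus_Q, quadFormPlus, stdHerm_Q, mul_comm]
  have hιB : ∀ x y, algebraMap F K (D.B x y) = (fPlus K 3).B (io σ x) (io σ y) := fun x y => by
    have := hιQ (x + y)
    rw [io_add, quad_Q_add, quad_Q_add, map_add, map_add, hιQ, hιQ] at this
    linear_combination this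
  have ms : ∀ {g : GL (Fin 4) K}, g ∈ specialLinear (Fin 4) K ↔ g.1.det = 1 := by
    intro g; rw [specialLinear, MonoidHom.mem_ker, ← Units.val_eq_one, GeneralLinearGroup.val_det_apply]
  obtain ⟨ρ, hρ⟩ := exists_hom_of_embed (G := (GU 4 K q ⊓ specialLinear (Fin 4) K : Subgroup _)) D
    (fun g => (wedge g.1.1).mulVecLin.restrictScalars F) (by simp [wedge_one])
    (fun g k w => by simp [wedge_mul]) ι io_inj (fun g x => (mem_io h _).2 (by
      refine (fPlus_nondeg 3).ext' fun z => ?_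
      obtain ⟨u, rfl⟩ := (wedgeHom K ⟨g.1.1, ms.1 g.2.2⟩).1.surjective z
      change (fPlus K 3).B _ _ = (fPlus K 3).B _ ((wedgeHom K ⟨g.1.1, ms.1 g.2.2⟩).1 _)
      rw [B_isom]
      change (fPlus K 3).B (wedge g.1.1 *ᵥ u) ((σ ∘ (wedge g.1.1 *ᵥ ι x)) ∘ Sum.swap) = _
      rw [fPlus_B_eq_dot, fPlus_B_eq_dot, Function.comp_assoc, Sum.swap_swap_eq, Function.comp_id,
        ← map_mulVec_comp, ← wedge_map, ← vecMul_transpose,
        ← dotProduct_mulVec, mulVec_mulVec, ← wedge_transpose, ← wedge_mul, (mem_GU4 h).1 g.2.1, wedge_one, one_mulVec]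
      congr 1
      ext (i | i) <;> simp [ι, io, h.σσ])) fun g x y H => by
      apply (algebraMap F K).injective
      rw [hιQ, hιQ]
      exact (congrArg _ H).trans (Q_isom (wedgeHom K ⟨g.1.1, ms.1 g.2.2⟩) _)
  refine ⟨D, ρ, hD, hn, hT, hιQ, hιB, le_antisymm ?_ (Form.E_le fun e z d hd => ?_), hρ⟩
  · rintro _ ⟨⟨g, hg⟩, rfl⟩
    have e := su_eq h (n := 4) (by decide)
    rw [Herm.E_eq hU (by simp)] at e
    obtain ⟨a, ha, rfl⟩ := e.le hg
    rw [← hD.commutator_eq_E (good_of_finrank (by omega)) (by omega)]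
    exact map_mem_commutator (ρ.comp (((toGL _).comp (stdHerm h (Fin 4)).det.ker.subtype).codRestrict _
      fun a => e.ge ⟨a.1, a.2, rfl⟩)) ((Herm.commutator_eq_top hU (by simp) (by simp)).ge (Subgroup.mem_top ⟨a, ha⟩))
  have hd' : (fPlus K 3).IsEich (io σ e) (io σ z) (algebraMap F K d) :=
    ⟨by rw [← hιQ, hd.Q_e, map_zero], by rw [← hιB, hd.B_ez, map_zero], by rw [hd.quad_eq, hιQ]; rfl⟩
  let u : GL (Fin 4) K := GeneralLinearGroup.mkOfDetNeZero _ (by rw [det_eich hd']; exact one_ne_zero)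
  refine ⟨⟨u, (mem_GU4 h).2 ?_, ms.2 (det_eich hd')⟩, isom_ext fun x => io_inj (σ := σ) ?_⟩
  · have e1' : al' K (io σ e) * al K (io σ e) = 0 := by rw [al_sq', hd'.Q_e, zero_smul]
    have e2 : al' K (io σ z) * al K (io σ e) = -(al' K (io σ e) * al K (io σ z)) := by
      rw [al_an', hd'.B_ze, zero_smul, zero_sub]
    have e3 : al K (io σ z) * al' K (io σ e) = -(al K (io σ e) * al' K (io σ z)) := by
      rw [al_an, hd'.B_ze, zero_smul, zero_sub]
    change (1 + al K (io σ e) * al' K (io σ z))ᵀ * (1 + al K (io σ e) * al' K (io σ z)).map σ = 1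
    rw [Matrix.map_add _ (map_add σ), Matrix.map_mul, Matrix.map_one _ (map_zero σ) (map_one σ), al_io h, al'_io h,
      transpose_add, transpose_mul, al_tr, al'_tr, transpose_one, neg_mul_neg, neg_mul_neg, e2, add_mul, mul_add,
      mul_add, neg_mul, neg_mul, Matrix.mul_assoc _ _ (_ * _), ← Matrix.mul_assoc (al K (io σ z)), e3, neg_mul, mul_neg,
      ← Matrix.mul_assoc (al' K (io σ e)) (_ * _), ← Matrix.mul_assoc (al' K (io σ e)) (al K (io σ e)), e1']
    simp
  rw [show io σ _ = _ from hρ _ _]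
  refine (wedge_eich hd' _).trans ?_
  simp only [eich_apply, io_add, io_sub, io_smul h hF, quadKind_ε, one_mul, hιB]
  rfl

end Cfsg.Lib.Forms.K4
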