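import Cfsg.Agent.Lib.K4.Uk1
import Cfsg.Agent.Lib.K4.Fm6d

/-!
# The normaliser of `4 ∘ 2^{1+4}` in `SU₄(p)`
-/

set_option autoImplicit false

namespace Cfsg.Lib.Forms.K4

open Module Form Matrix Cfsg.Geo Cfsg.Lib.Elu

variable {F K : Type*} [Field F] [Field K] {σ : K →+* K} {q : ℕ}

local notation "M4" => Matrix (Fin 4) (Fin 4) K

theorem mem_sl4 {n : ℕ} {g : GL (Fin n) K} : g ∈ specialLinear (Fin n) K ↔ g.1.det = 1 := by
  rw [specialLinear, MonoidHom.mem_ker, ← Units.val_eq_one, GeneralLinearGroup.val_det_apply]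

theorem gen_map (k : Fin 4) : (gen K k).map σ = gen K k := by
  fin_cases k <;> ext i j <;> fin_cases i <;> fin_cases j <;> simp [gen]

theorem gen_orth (k : Fin 4) : gen K k * (gen K k)ᵀ = 1 := by
  fin_cases k <;> ext i j <;> fin_cases i <;> fin_cases j <;> simp [gen, mul_apply, Fin.sum_univ_four]

theorem exists_unitary (h : IsConj σ q) (h2 : (2 : K) ≠ 0) {P : GL (Fin 4) K} {r : Fin 4 → GL (Fin 4) K}
    (hr : ∀ k, r k ∈ GU 4 K q) (hP : ∀ k, (r k).1 = P.1 * gen K k * (P⁻¹).1) :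
    ∃ U ∈ GU 4 K q, ∀ k, (r k).1 = U.1 * gen K k * (U⁻¹).1 := by
  obtain ⟨c, hc⟩ := gen_scal h2 (x := P.1ᵀ * P.1.map σ) fun k => by
    have e1 := (mem_GU4 h).1 (hr k)
    have e2 : (r k).1 * P.1 = P.1 * gen K k := by rw [hP, Units.inv_mul_cancel_right]
    have e3 : ((r k).1 * P.1)ᵀ * ((r k).1 * P.1).map σ = P.1ᵀ * P.1.map σ := by
      rw [transpose_mul, Matrix.map_mul, Matrix.mul_assoc, ← Matrix.mul_assoc (r k).1ᵀ, e1, one_mul]
    rw [e2, transpose_mul, Matrix.map_mul, gen_map] at e3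
    conv_rhs => rw [← e3]
    simp only [← Matrix.mul_assoc, gen_orth, one_mul]
  have c0 : c ≠ 0 := by
    rintro rfl
    have := congrArg det hc
    rw [det_mul, det_transpose, ← RingHom.mapMatrix_apply, ← RingHom.map_det] at this
    exact P.det_ne_zero (by simpa using this)
  have c1 : σ c⁻¹ = c⁻¹ := by
    have := congrFun (congrFun hc 0) 0
    simp only [mul_apply, Matrix.smul_apply, one_apply_eq, smul_eq_mul, mul_one, transpose_apply, map_apply] at this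
    rw [map_inv₀, ← this]; simp [h.σσ, mul_comm]
  obtain ⟨t, ht⟩ := h.exists_norm_eq c1
  have t0 : t ≠ 0 := by rintro rfl; exact inv_ne_zero c0 (by simpa using ht.symm)
  refine ⟨⟨t • P.1, t⁻¹ • (P⁻¹).1, by simp [smul_smul, t0], by simp [smul_smul, t0]⟩, (mem_GU4 h).2 ?_, fun k => ?_⟩
  · change (t • P.1)ᵀ * (t • P.1).map σ = 1
    rw [show (t • P.1).map σ = σ t • P.1.map σ by ext; simp, transpose_smul, smul_mul_assoc, mul_smul_comm, hc,
      smul_smul, smul_smul, ht, inv_mul_cancel₀ c0, one_smul]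
  · change _ = t • P.1 * _ * t⁻¹ • (P⁻¹).1
    simp [hP, smul_smul, t0]

variable [Algebra F K]

theorem Kl.conj {D : Form (quadKind F) (Fin 3 → K)} {ρ} (H : Kl σ q D ρ) {U : GL (Fin 4) K} (hU : U ∈ GU 4 K q) :
    ∃ ρ' : (GU 4 K q ⊓ specialLinear (Fin 4) K : Subgroup _) →* D.isom, ρ'.range = D.E ∧
      ∀ g x, io σ ((ρ' g).1 x) = wedge ((U⁻¹).1 * g.1.1 * U.1) *ᵥ io σ x := by
  have k : ∀ U ∈ GU 4 K q, ∀ g ∈ GU 4 K q ⊓ specialLinear (Fin 4) K, U⁻¹ * g * U ∈ GU 4 K q ⊓ specialLinear (Fin 4) K :=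
    fun U hU g hg => Subgroup.mem_inf.2 ⟨mul_mem (mul_mem (inv_mem hU) hg.1) hU, mem_sl4.2 (by
      rw [Units.val_mul, Units.val_mul, det_units_conj', mem_sl4.1 hg.2])⟩
  let φ : (GU 4 K q ⊓ specialLinear (Fin 4) K : Subgroup _) →* (GU 4 K q ⊓ specialLinear (Fin 4) K : Subgroup _) :=
    MonoidHom.mk' (fun g => ⟨_, k U hU g.1 g.2⟩) fun a b => Subtype.ext (by simp [mul_assoc])
  refine ⟨ρ.comp φ, ?_, fun g x => H.app _ _⟩
  rw [← H.range, MonoidHom.range_comp, MonoidHom.range_eq_top.2, ← MonoidHom.range_eq_map]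
  exact fun g => ⟨⟨_, k U⁻¹ (inv_mem hU) g.1 g.2⟩, Subtype.ext (by simp [φ, mul_assoc])⟩

theorem su4_extra_aux [Fintype F] (h : IsConj σ q) (hF : Fintype.card F = q) (hr2 : finrank F K = 2) (hp : q.Prime)
    (h4 : q % 4 = 3) (R : Subgroup (GL (Fin 4) K)) (hs : IsSymplecticTypeGroup 2 R)
    (hI : ActsAbsolutelyIrreducibly (matrixSet R)) (hRU : R ≤ GU 4 K q) (hZ : Nat.card (Subgroup.center R) = 4) :
    IsMaximalIn (GU 4 K q ⊓ specialLinear (Fin 4) K) (subgroupNormalizer R ⊓ (GU 4 K q ⊓ specialLinear (Fin 4) K)) := by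
  have := h.finite
  have := Fintype.ofFinite K
  have : FiniteDimensional F (Fin 3 → K) := Module.Finite.of_finite
  have h2' : (2 : F) ≠ 0 := two_ne_zero_of_odd_card rfl (by rw [hF]; exact Nat.odd_iff.2 (by omega))
  have h2 : (2 : K) ≠ 0 := by rw [← map_ofNat (algebraMap F K)]; exact (_root_.map_ne_zero _).2 h2'
  have P2 := Rp.p2 ⟨rep_injective R, rep_irr hI⟩ h2 hs.pGroup hs.cyclic_of_characteristic hs.exponent_eq
  obtain ⟨s₀, i, hi, hs₀⟩ := P2.exists_i (hs.cyclic_of_characteristic _ inferInstance inferInstance) hZ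
  replace hs₀ : s₀.1.1 = i • 1 := toLin'.injective (by
    rw [← rep_apply, hs₀, map_smul, toLin'_one, Algebra.algebraMap_eq_smul_one]; rfl)
  have si : σ i = -i := by
    rw [h.apply, show q = 2 * (2 * (q / 4) + 1) + 1 by omega, pow_succ, pow_mul, pow_two, hi,
      Odd.neg_one_pow ⟨_, rfl⟩, neg_one_mul]
  have sq : ∀ x ∈ R, x.1 * x.1 = 1 ∨ x.1 * x.1 = -1 := fun x hx =>
    (P2.sq ⟨x, hx⟩).imp rep_iff.2.2.1.1 rep_iff.2.2.2.1
  have pm : ∀ x ∈ R, ∀ y ∈ R, x.1 * y.1 = y.1 * x.1 ∨ x.1 * y.1 = -(y.1 * x.1) := fun x hx y hy =>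
    (P2.pm ⟨x, hx⟩ ⟨y, hy⟩).imp rep_iff.2.1.1 rep_iff.1.1
  obtain ⟨P, hP⟩ := exists_gen h2 (S := matrixSet R) hi ⟨1, R.one_mem, rfl⟩
    (by rintro _ ⟨x, hx, rfl⟩ _ ⟨y, hy, rfl⟩; exact ⟨x * y, R.mul_mem hx hy, rfl⟩) ⟨_, s₀.2, hs₀⟩
    (by rintro _ ⟨x, hx, rfl⟩; exact sq x hx) (by rintro _ ⟨x, hx, rfl⟩ _ ⟨y, hy, rfl⟩; exact pm x hx y hy) hI
  choose r hr hr' using hP
  obtain ⟨U, hU, hr'⟩ := exists_unitary h h2 (fun k => hRU (hr k)) hr'
  obtain ⟨D, ρ₀, H⟩ := exists_kl h (Nat.card_eq_fintype_card.trans hF) hr2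
  obtain ⟨ρ, hE, hρ⟩ := H.conj hU
  let M : GL (Fin 4) K →* M4 := (Units.coeHom _).comp (MulAut.conj U⁻¹).toMonoidHom
  have hM : ∀ g, M g = (U⁻¹).1 * g.1 * U.1 := fun g => by simp [M]
  have dM : ∀ g, (M g).det = g.1.det := fun g => by rw [hM, det_units_conj']
  have sM : ∀ {g} {c : K}, M g = c • 1 ↔ g.1 = c • 1 := by
    intro g c
    rw [hM, Units.eq_mul_inv_iff_mul_eq _ |>.symm, Units.inv_mul_eq_iff_eq_mul]; simp
  simp only [← hM] at hρ
  let e : Fin 3 ⊕ Fin 3 → Fin 3 → K := Sum.elim (fun k => Pi.single k 1) fun k => Pi.single k i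
  have he : ∀ j, io σ (e j) = fr i j := by
    rintro (j | j) <;> ext (a | a) <;> simp [e, io, fr, Pi.single_apply, apply_ite σ, si, apply_ite (Neg.neg : K → K)]
  have h' := fr_frame h2 hi
  have hf : D.IsFrame e 1 := IsFrame.of_card H.nd one_ne_zero h2'
    (fun j => (algebraMap F K).injective (by rw [H.Q, he, h'.Q, map_one]))
    (fun j l jl => (algebraMap F K).injective (by rw [H.B, he, he, h'.B _ _ jl, map_zero])) (by simp [H.fr])
  let Dg : Subgroup D.isom :=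
    { carrier := {k | ∀ j, k.1 (e j) = e j ∨ k.1 (e j) = -e j}
      one_mem' := fun _ => Or.inl rfl
      mul_mem' := fun {a b} ha hb j => by
        rcases ha j with h | h <;> rcases hb j with h' | h' <;> simp [isom_mul_apply, h, h']
      inv_mem' := fun {a} ha j => by
        rw [← a.1.injective.eq_iff, ← a.1.injective.eq_iff (b := -_), isom_apply_inv, map_neg]
        exact (ha j).imp Eq.symm fun h => by rw [h, neg_neg] }
  have hDg : ∀ g, ρ g ∈ Dg ↔ ∀ j, wedge (M g.1) *ᵥ fr i j = fr i j ∨ wedge (M g.1) *ᵥ fr i j = -fr i j := fun g =>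
    forall_congr' fun j => by
      rw [← (io_inj (σ := σ)).eq_iff, ← (io_inj (σ := σ)).eq_iff (b := -_), hρ, io_neg, he]
  replace hr' : ∀ k, M (r k) = gen K k := fun k => by rw [hM, hr' k]; simp [Matrix.mul_assoc]
  have rG : ∀ k, r k ∈ GU 4 K q ⊓ specialLinear (Fin 4) K := fun k =>
    Subgroup.mem_inf.2 ⟨hRU (hr k), mem_sl4.2 (by rw [← dM, hr', gen_det])⟩
  have rD : ∀ k, ρ ⟨r k, rG k⟩ ∈ Dg := fun k => (hDg _).2 fun j => by rw [hr']; exact gen_fr i k j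
  have key : ∀ g, (∀ k, M g * gen K k = gen K k * M g ∨ M g * gen K k = -(gen K k * M g)) →
      ∃ t : (GU 4 K q ⊓ specialLinear (Fin 4) K : Subgroup _), t.1 ∈ R ∧ ρ t ∈ Dg ∧ ∃ c : K, (g * t.1).1 = c • 1 :=
    fun g hg => by
    obtain ⟨_, ⟨t, h1, h3, rfl⟩, c, hc⟩ := gen_red h2
      (H := fun y => ∃ t : (GU 4 K q ⊓ specialLinear (Fin 4) K : Subgroup _), t.1 ∈ R ∧ ρ t ∈ Dg ∧ M t.1 = y)
      ⟨1, R.one_mem, map_one ρ ▸ Dg.one_mem, map_one M⟩ (by
        rintro _ _ ⟨a, a1, a2, rfl⟩ ⟨b, b1, b2, rfl⟩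
        exact ⟨a * b, R.mul_mem a1 b1, map_mul ρ a b ▸ Dg.mul_mem a2 b2, map_mul M _ _⟩)
      (fun k => ⟨_, hr k, rD k, hr' k⟩) hg
    exact ⟨t, h1, h3, c, sM.1 (by rw [map_mul, hc])⟩
  have keyR : ∀ g ∈ R, ∀ k, M g * gen K k = gen K k * M g ∨ M g * gen K k = -(gen K k * M g) := fun g hg k => by
    rw [← hr', ← map_mul, ← map_mul, hM, hM, Units.val_mul, Units.val_mul]
    exact (pm g hg _ (hr k)).imp (fun h => by rw [h]) fun h => by rw [h]; simp
  have hRG : R ≤ GU 4 K q ⊓ specialLinear (Fin 4) K := fun g hg => by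
    obtain ⟨t, t1, -, c, hc⟩ := key g (keyR g hg)
    refine Subgroup.mem_inf.2 ⟨hRU hg, ?_⟩
    rw [← Subgroup.mul_mem_cancel_right _ (Subgroup.mem_inf.1 t.2).2, mem_sl4, hc]
    have := sq _ (R.mul_mem hg t1)
    rw [hc] at this
    rcases this with h | h <;> have := congrFun (congrFun h 0) 0 <;> simp at this ⊢
    · linear_combination (c * c + 1) * this
    · linear_combination (c * c - 1) * this
  have c4 : ∀ (g : (GU 4 K q ⊓ specialLinear (Fin 4) K : Subgroup _)) (c : K), g.1.1 = c • 1 →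
      c ^ 2 = 1 ∨ c ^ 2 = -1 := fun g c hc => by
    have := mem_sl4.1 (Subgroup.mem_inf.1 g.2).2
    rw [hc] at this
    exact sq_eq_one_iff.1 (by simp at this; linear_combination this)
  refine hf.max_frame H.nd (by simp [H.fr]) hRG ρ hE (fun s => ⟨fun hs => ?_, fun hs => ?_⟩)
    fun X _ => hf.E_le_six (hF ▸ hp) H.nd H.fr (by simp [H.fr]) X
  · obtain ⟨t, -, t2, c, hc⟩ := key _ (keyR _ hs)
    refine (Dg.mul_mem_cancel_right t2).1 ?_
    rw [← map_mul, hDg]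
    intro j
    rw [Subgroup.coe_mul, sM.2 hc, wedge_smul_one_mulVec]
    exact (c4 (s * t) c hc).imp (fun h => by simp [h]) fun h => by simp [h]
  obtain ⟨t, t1, -, c, hc⟩ := key s.1 fun k => by
    have e1 : ρ s * ρ ⟨r k, rG k⟩ = ρ ⟨r k, rG k⟩ * ρ s := hf.isom_eq fun j => by
      rcases hs j with h | h <;> rcases rD k j with h' | h' <;> simp only [isom_mul_apply, h, h', map_neg]
    obtain ⟨y, hy⟩ : ∃ y, y = s * ⟨r k, rG k⟩ * (⟨r k, rG k⟩ * s)⁻¹ := ⟨_, rfl⟩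
    have e0 : ρ y = 1 := by rw [hy, map_mul, map_inv, map_mul, map_mul, e1, mul_inv_cancel]
    have e2 := ker_wedge (g := ⟨M y.1, (dM _).trans (mem_sl4.1 (Subgroup.mem_inf.1 y.2).2)⟩) (h'.isom_eq fun j => by
      change wedge (M y.1) *ᵥ _ = fr i j
      rw [← he, ← hρ, e0]; rfl)
    have e3 : M (s.1 * r k) = M y.1 * M (r k * s.1) := by
      rw [← map_mul, hy]; congr 1; simp [mul_assoc]
    rw [← hr', ← map_mul, ← map_mul, e3]
    exact e2.imp (fun h => by rw [show M y.1 = 1 from h, one_mul]) fun h => by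
      rw [show M y.1 = -1 from h, neg_mul, one_mul]
  rw [← R.mul_mem_cancel_right t1]
  have e1 : ∀ n : ℕ, c = i ^ n → s.1 * t.1 ∈ R := fun n hn => by
    convert R.pow_mem s₀.2 n using 1
    exact Units.ext (by rw [hc, Units.val_pow_eq_pow_val, hs₀, smul_pow, one_pow, hn])
  rcases c4 (s * t) c hc with h | h
  · rcases sq_eq_one_iff.1 h with h | h
    exacts [e1 0 (by simp [h]), e1 2 (by rw [h, pow_two, hi])]
  · rcases sq_eq_sq_iff_eq_or_eq_neg.1 (show c ^ 2 = i ^ 2 by rw [h, pow_two, hi]) with h | h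
    exacts [e1 1 (by simp [h]), e1 3 (by rw [h, pow_succ, pow_two, hi]; simp)]

theorem exists_fixed (h : IsConj σ q) : ∃ F₀ : Subfield K, Nat.card F₀ = q ∧ finrank F₀ K = 2 ∧ ∀ x, x ∈ F₀ ↔ σ x = x := by
  have := h.finite
  have h1 : Nat.card (RingHom.eqLocusField σ (RingHom.id K)) = q := h.card_fixed
  refine ⟨_, h1, Nat.pow_right_injective h.two_le ?_, fun _ => Iff.rfl⟩
  have := Module.natCard_eq_pow_finrank (K := RingHom.eqLocusField σ (RingHom.id K)) (V := K)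
  rw [h1, h.card] at this
  exact this.symm

theorem su4_extra {F : Type*} [Field F] [Fintype F] (q : ℕ) (hF : Fintype.card F = q ^ 2) :
    ∀ (p : ℕ) (R : Subgroup (GL (Fin 4) F)), p.Prime → q = p → p % 4 = 3 → IsSymplecticTypeGroup 2 R →
      ActsAbsolutelyIrreducibly (matrixSet R) → R ≤ GU 4 F q → Nat.card R = 64 → Nat.card (Subgroup.center R) = 4 →
      IsMaximalIn (GU 4 F q ⊓ specialLinear (Fin 4) F) (subgroupNormalizer R ⊓ (GU 4 F q ⊓ specialLinear (Fin 4) F)) := by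
  rintro p R hp rfl h4 hs hI hU - hZ
  obtain ⟨σ, h⟩ := isConj_of_card hF
  obtain ⟨F₀, h1, h2, -⟩ := exists_fixed h
  have := Fintype.ofFinite F₀
  exact su4_extra_aux h (Nat.card_eq_fintype_card.symm.trans h1) h2 hp h4 R hs hI hU hZ

end Cfsg.Lib.Forms.K4
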