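import Cfsg.Agent.Lib.MaxU.R6O

/-! Orthogonal subfield subgroups of `SU₄`: local analysis. -/

set_option autoImplicit false
set_option linter.unusedSectionVars false

namespace Cfsg.Lib.Forms

open Module Form Herm

variable {F V : Type*} [Field F] [AddCommGroup V] [Module F V] [FiniteDimensional F V]
  {σ : F →+* F} {q : ℕ} {hc : IsConj σ q} {D : Form hc.kind V} {X : Subgroup D.isom} {τ : V →+ V} {ω : F}

theorem uo_weyl {e f : V} (hef : D.IsHyp e f) {d : F} (d0 : d ≠ 0) (hd : σ d = -d) : ∃ w : D.isom,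
    (∀ Y : Subgroup D.isom, D.At Y ⊥ e → D.At Y ⊥ f → w ∈ Y) ∧ w.1 e = d⁻¹ • f ∧ w.1 f = -d • e ∧
      ∀ z ∈ D.hp e f, w.1 z = z := by
  have h1 : D.IsEich e 0 d := ⟨hef.Q_e, by simp, by simp [hd]⟩
  have h2 : D.IsEich f 0 (-d⁻¹) := ⟨hef.Q_f, by simp, by simp [hd, inv_neg]⟩
  have a := D.B_self_of_Q hef.Q_e
  have b := D.B_self_of_Q hef.Q_f
  have c := hef.B_ef
  have c' : D.B f e = 1 := by rw [← herm_symm, c, map_one]
  refine ⟨D.eich _ _ _ h1 * D.eich _ _ _ h2 * D.eich _ _ _ h1, fun Y y1 y2 => mul_mem (mul_mem (y1 _ (zero_mem _) _ _)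
    (y2 _ (zero_mem _) _ _)) (y1 _ (zero_mem _) _ _), ?_, ?_, fun z hz => ?_⟩
  · simp only [isom_mul_apply, eich_apply, hermKind_ε, D.B_lin, a, c, c', map_zero, LinearMap.zero_apply]
    match_scalars <;> field_simp <;> ring
  · simp only [isom_mul_apply, eich_apply, hermKind_ε, D.B_lin, a, b, c, c', map_zero, LinearMap.zero_apply]
    match_scalars <;> field_simp <;> ring
  · rw [mem_hp] at hz
    simp [isom_mul_apply, eich_apply, hz.1, hz.2]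

theorem uo_dil {e f : V} (hef : D.IsHyp e f) {ν : F} (ν0 : ν ≠ 0) (hν : σ ν = ν) : ∃ k ∈ D.E,
    k.1 e = ν • e ∧ k.1 f = ν⁻¹ • f ∧ ∀ z ∈ D.hp e f, k.1 z = z := by
  obtain ⟨d, d0, hd⟩ := hc.exists_trace_zero
  replace hd := eq_neg_of_add_eq_zero_right hd
  obtain ⟨w, a1, a2, a3, a4⟩ := uo_weyl hef d0 hd
  obtain ⟨w', b1, b2, b3, b4⟩ := uo_weyl hef (d := -(ν * d)) (by simp [ν0, d0]) (by simp [hd, hν])
  have k : ∀ e, D.At D.E ⊥ e := fun _ _ _ _ _ => eich_mem_E _ _ _ _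
  refine ⟨w' * w, mul_mem (b1 _ (k _) (k _)) (a1 _ (k _) (k _)), ?_, ?_, fun z hz => ?_⟩
  · rw [isom_mul_apply, a2, map_smul, b3, smul_smul]; congr 1; field_simp
  · rw [isom_mul_apply, a3, map_smul, b2, smul_smul]; congr 1; field_simp
  · rw [isom_mul_apply, a4 z hz, b4 z hz]

theorem uo_two {e f : V} (hef : D.IsHyp e f) (hn : finrank F V = 4) {a b z : V} (ha : a ∈ D.hp e f) (hb : b ∈ D.hp e f)
    (a0 : a ≠ 0) (ab : b ∉ F ∙ a) (hz : z ∈ D.hp e f) : ∃ s t : F, z = s • a + t • b := by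
  have h1 := hef.finrank_hp
  have h2 : (F ∙ a) < (F ∙ a) ⊔ F ∙ b := left_lt_sup.2 (by rwa [Submodule.span_singleton_le_iff_mem])
  have h3 := Submodule.finrank_lt_finrank_of_lt h2
  rw [finrank_span_singleton a0] at h3
  have h4 : (F ∙ a) ⊔ F ∙ b = D.hp e f := Submodule.eq_of_le_of_finrank_le
    (sup_le ((Submodule.span_singleton_le_iff_mem _ _).2 ha) ((Submodule.span_singleton_le_iff_mem _ _).2 hb)) (by omega)
  obtain ⟨_, d1, _, d2, rfl⟩ := Submodule.mem_sup.1 (h4.ge hz)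
  obtain ⟨s, rfl⟩ := Submodule.mem_span_singleton.1 d1
  obtain ⟨t, rfl⟩ := Submodule.mem_span_singleton.1 d2
  exact ⟨s, t, rfl⟩

variable (D X τ ω) in
/-- An overgroup of the orthogonal group of a real structure. -/
structure Uo : Prop where
  nd : D.Nondeg
  four : finrank F V = 4
  two : (2 : F) ≠ 0
  ω0 : ω ≠ 0
  σω : σ ω = -ω
  smul : ∀ c x, τ (c • x) = σ c • τ x
  inv : ∀ x, τ (τ x) = x
  B : ∀ x y, D.B (τ x) (τ y) = D.B y x
  lam : ∃ l : F, σ l = l ∧ l ≠ 0 ∧ l * l ≠ 1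
  cub : ∃ b : F, b ≠ 0 ∧ b ^ 3 ≠ σ b
  mem : ∀ g ∈ D.E, (∀ v, τ (g.1 v) = g.1 (τ v)) → g ∈ X
  no : ¬ D.E ≤ X

namespace Uo

variable (h : Uo D X τ ω)
include h

theorem B_rat {x : V} (hx : τ x = x) (y : V) : D.B x (τ y) = σ (D.B x y) := by
  conv_lhs => rw [← hx, h.B, ← herm_symm]

theorem fx {x y : V} (hx : τ x = x) (hy : τ y = y) : σ (D.B x y) = D.B x y := by rw [← h.B_rat hx, hy]

theorem sym {x y : V} (hx : τ x = x) (hy : τ y = y) : D.B y x = D.B x y := by rw [← herm_symm, h.fx hx hy]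

theorem split (u : V) : ∃ u₀ u₁, τ u₀ = u₀ ∧ τ u₁ = u₁ ∧ u = u₀ + ω • u₁ ∧
    ∀ e, τ e = e → D.B e u = 0 → D.B e u₀ = 0 ∧ D.B e u₁ = 0 := by
  have := h.two
  have := h.ω0
  refine ⟨(2 : F)⁻¹ • (u + τ u), (2 * ω)⁻¹ • (u - τ u), ?_, ?_, ?_, fun e he H => ?_⟩
  · simp [h.smul, h.inv, add_comm, map_ofNat]
  · simp only [h.smul, map_sub, h.inv, map_inv₀, map_mul, h.σω, map_ofNat]
    match_scalars <;> field_simp
  · match_scalars <;> field_simp <;> ring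
  · simp [h.B_rat he, H]

theorem ex_B {e p : V} (he : τ e = e) (hp : p ∉ F ∙ e) : ∃ z, τ z = z ∧ D.B e z = 0 ∧ D.B z p ≠ 0 := by
  by_contra! H
  refine hp (h.nd.perp_le_perp.1 (fun u hu => ?_) (Submodule.mem_span_singleton_self p))
  rw [mem_perp_span_singleton] at hu ⊢
  obtain ⟨a, b, ha, hb, rfl, h1⟩ := h.split u
  simp [D.eq_zero_symm (H a ha (h1 e he hu).1), D.eq_zero_symm (H b hb (h1 e he hu).2)]

theorem pt {v : V} {η : F} (v0 : v ≠ 0) (hv : τ v = η • v) : ∃ s : F, s ≠ 0 ∧ σ s * η = s := by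
  have h1 : σ η * η = 1 := smul_left_injective F v0 (by
    simpa only [hv, h.smul, smul_smul, one_smul] using h.inv v)
  by_cases h2 : 1 + η = 0
  · refine ⟨ω, h.ω0, ?_⟩
    rw [h.σω, show η = -1 by linear_combination h2]; ring
  · exact ⟨1 + η, h2, by rw [map_add, map_one]; linear_combination h1⟩

theorem isE {e z : V} (he : τ e = e) (hQ : D.Q e = 0) (hz : τ z = z) (H : D.B e z = 0) :
    ∃ hE : D.IsEich e z (D.Q z / 2), D.eich e z _ hE ∈ X ∧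
      ∀ v, τ ((D.eich e z _ hE).1 v) = (D.eich e z _ hE).1 (τ v) := by
  have := h.two
  have h1 : σ (D.Q z / 2) = D.Q z / 2 := by rw [map_div₀, herm_σ_Q, map_ofNat]
  have hE : D.IsEich e z (D.Q z / 2) := ⟨hQ, H, by rw [hermKind_tr, h1]; field_simp; ring⟩
  have h2 : ∀ v, τ ((D.eich e z _ hE).1 v) = (D.eich e z _ hE).1 (τ v) := fun v => by
    simp only [eich_apply, hermKind_ε, one_mul, map_add, map_sub, h.smul, he, hz, h1, h.B_rat he, h.B_rat hz]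
  exact ⟨hE, h.mem _ (eich_mem_E _ _ _ _) h2, h2⟩

theorem zs {e z : V} (he : τ e = e) (hQ : D.Q e = 0) (hz : τ z = z) (H : D.B e z = 0) : z ∈ zSet X e hQ :=
  let ⟨hE, h1, _⟩ := h.isE he hQ hz H; ⟨_, hE, h1⟩

theorem sing {v x : V} (hv : τ v = v) (hx : τ x = x) (hQ : D.Q x = 0) (H : D.B v x ≠ 0) :
    ∃ c, σ c = c ∧ D.Q (v + c • x) = 0 := by
  have := h.two
  have h1 : σ (-D.Q v / (2 * D.B v x)) = -D.Q v / (2 * D.B v x) := by
    simp [herm_σ_Q, h.fx hv hx, map_ofNat]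
  refine ⟨_, h1, ?_⟩
  rw [herm_Q]
  simp only [D.B_lin, h1, D.B_self_of_Q hQ, h.sym hv hx, ← herm_Q]
  field_simp; ring

theorem hyp {e : V} (he : τ e = e) (hQ : D.Q e = 0) (e0 : e ≠ 0) : ∃ f, τ f = f ∧ D.IsHyp e f := by
  obtain ⟨z, z1, -, z2⟩ := h.ex_B (e := 0) (p := e) (map_zero _) (by simpa using e0)
  obtain ⟨c, c1, c2⟩ := h.sing z1 he hQ z2
  refine ⟨(D.B z e)⁻¹ • (z + c • e), by simp [h.smul, z1, he, c1, h.fx z1 he], hQ, D.Q_smul_of_Q c2 _, ?_⟩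
  simp [D.B_self_of_Q hQ, h.sym z1 he, z2]

theorem hp_τ {e f z : V} (he : τ e = e) (hf : τ f = f) (hz : z ∈ D.hp e f) : τ z ∈ D.hp e f := by
  rw [mem_hp] at hz ⊢; simp [h.B_rat he, h.B_rat hf, hz.1, hz.2]

theorem hp_split {e f z : V} (he : τ e = e) (hf : τ f = f) (hz : z ∈ D.hp e f) :
    ∃ u₀ ∈ D.hp e f, ∃ u₁ ∈ D.hp e f, τ u₀ = u₀ ∧ τ u₁ = u₁ ∧ z = u₀ + ω • u₁ := by
  obtain ⟨a, b, ha, hb, h0, h1⟩ := h.split z
  rw [mem_hp] at hz
  exact ⟨a, D.mem_hp.2 ⟨(h1 e he hz.1).1, (h1 f hf hz.2).1⟩, b, D.mem_hp.2 ⟨(h1 e he hz.1).2, (h1 f hf hz.2).2⟩,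
    ha, hb, h0⟩

theorem ns {e f : V} (he : τ e = e) (hf : τ f = f) (hef : D.IsHyp e f) : ∃ z ∈ D.hp e f, τ z = z ∧ D.Q z ≠ 0 := by
  by_contra! H
  have k : ∀ a ∈ D.hp e f, ∀ b ∈ D.hp e f, τ a = a → τ b = b → D.B a b = 0 := fun a ha b hb a1 b1 => by
    have := H _ (add_mem ha hb) (by rw [map_add, a1, b1])
    rw [herm_Q] at this
    simp only [D.B_lin, ← herm_Q, H a ha a1, H b hb b1, h.sym a1 b1] at this
    exact mul_left_cancel₀ h.two (by linear_combination this)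
  obtain ⟨v, hv, v0⟩ := exists_ne_zero_of_finrank_pos (U := D.hp e f) (by have := hef.finrank_hp; have := h.four; omega)
  obtain ⟨z, hz, z0⟩ := hef.exists_B_ne_zero h.nd hv v0
  obtain ⟨a, a1, a', a2, a3, a4, rfl⟩ := h.hp_split he hf hv
  obtain ⟨b, b1, b', b2, b3, b4, rfl⟩ := h.hp_split he hf hz
  exact z0 (by simp [D.B_lin, k _ b1 _ a1 b3 a3, k _ b1 _ a2 b3 a4, k _ b2 _ a1 b4 a3, k _ b2 _ a2 b4 a4])

theorem trans {x y : V} (hx : τ x = x) (hy : τ y = y) (qx : D.Q x = 0) (qy : D.Q y = 0) (x0 : x ≠ 0) (y0 : y ≠ 0) :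
    ∃ l ∈ X, (∀ v, τ (l.1 v) = l.1 (τ v)) ∧ ∃ s : F, s ≠ 0 ∧ l.1 x = s • y := by
  have := h.two
  obtain ⟨p, p1, p2, p3, p4⟩ : ∃ p, τ p = p ∧ D.Q p = 0 ∧ D.B p x ≠ 0 ∧ D.B p y ≠ 0 := by
    by_cases H : D.B x y = 0
    · obtain ⟨v, v1, v2, v3⟩ : ∃ v, τ v = v ∧ D.B v x ≠ 0 ∧ D.B v y ≠ 0 := by
        obtain ⟨a, a1, -, a2⟩ := h.ex_B (e := 0) (p := x) (map_zero _) (by simpa using x0)
        obtain ⟨b, b1, -, b2⟩ := h.ex_B (e := 0) (p := y) (map_zero _) (by simpa using y0)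
        by_cases c1 : D.B a y = 0
        · by_cases c2 : D.B b x = 0
          · exact ⟨a + b, by rw [map_add, a1, b1], by simpa [D.B_lin, c2], by simpa [D.B_lin, c1]⟩
          · exact ⟨b, b1, c2, b2⟩
        · exact ⟨a, a1, a2, c1⟩
      obtain ⟨c, c1, c2⟩ := h.sing v1 hx qx v2
      exact ⟨_, by simp [h.smul, v1, hx, c1], c2, by simpa [D.B_lin, D.B_self_of_Q qx],
        by simpa [D.B_lin, H]⟩
    have hef : D.IsHyp x ((D.B x y)⁻¹ • y) := ⟨qx, D.Q_smul_of_Q qy _, by simp [H]⟩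
    obtain ⟨z, z1, z2, z3⟩ := h.ns hx (by simp [h.smul, hy, h.fx hx hy]) hef
    rw [mem_hp] at z1
    have z4 : D.B y z = 0 := by simpa [D.B_lin, h.fx hx hy, H] using z1.2
    have z5 : D.B (z + y) x ≠ 0 := by simpa [D.B_lin, D.eq_zero_symm z1.1] using D.ne_zero_symm H
    obtain ⟨c, c1, c2⟩ := h.sing (v := z + y) (by rw [map_add, z2, hy]) hx qx z5
    refine ⟨_, by simp [h.smul, z2, hy, hx, c1], c2, by simpa [D.B_lin, D.B_self_of_Q qx] using z5, ?_⟩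
    have c0 : c ≠ 0 := by
      rintro rfl
      rw [zero_smul, add_zero, D.Q_add_of_B (D.eq_zero_symm z4), qy, add_zero] at c2
      exact z3 c2
    simp [D.B_lin, D.eq_zero_symm z4, D.B_self_of_Q qy, c0, H]
  have f1 := h.fx p1 hx
  have f2 := h.fx p1 hy
  have f3 := h.fx hx hy
  obtain ⟨hE, h1, h2⟩ := h.isE (z := (D.B p x)⁻¹ • (x - (D.B p x / D.B p y) • y)) p1 p2
    (by simp [h.smul, hx, hy, f1, f2]) (by simp [p4])
  refine ⟨_, h1, h2, D.B p x / D.B p y, div_ne_zero p3 p4, ?_⟩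
  simp only [eich_apply, hermKind_ε, herm_Q, D.B_lin, map_inv₀, map_div₀, f1, f2, D.B_self_of_Q qx,
    D.B_self_of_Q qy, h.sym hx hy]
  match_scalars <;> field_simp <;> ring

theorem dil {e f : V} (he : τ e = e) (hf : τ f = f) (hef : D.IsHyp e f) {ν : F} (ν0 : ν ≠ 0) (hν : σ ν = ν) :
    ∃ k ∈ X, k.1 e = ν • e ∧ k.1 f = ν⁻¹ • f ∧ ∀ z ∈ D.hp e f, k.1 z = z := by
  obtain ⟨k, k1, k2, k3, k4⟩ := uo_dil hef ν0 hν
  refine ⟨k, h.mem k k1 fun v => ?_, k2, k3, k4⟩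
  obtain ⟨w, hw, hv⟩ := hef.exists_comb v
  rw [hv]
  simp only [map_add, map_smul, h.smul, k2, k3, k4 w hw, k4 _ (h.hp_τ he hf hw), he, hf, hν, map_inv₀]

theorem no_tv {e : V} (he : τ e = e) (e0 : e ≠ 0) {d : F} (hd : D.IsEich e 0 d) (H : D.eich e 0 d hd ∈ X) : d = 0 := by
  by_contra d0
  have := h.two
  have hQ := hd.Q_e
  have d1 : σ d = -d := eq_neg_of_add_eq_zero_right (by simpa using hd.tr_d)
  obtain ⟨f, hf, hef⟩ := h.hyp he hQ e0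
  have E : ∀ c, σ c = c → D.IsEich e 0 (c * d) := fun c c1 => ⟨hQ, by simp, by simp [c1, d1]⟩
  have k1 : ∀ c (c1 : σ c = c), D.eich e 0 _ (E (c * c) (by simp [c1])) ∈ X := fun c c1 => by
    by_cases c0 : c = 0
    · convert X.one_mem
      exact isom_ext fun x => by simp [eich_apply, c0, isom_one_apply]
    obtain ⟨k, k1, k2, -⟩ := h.dil he hf hef c0 c1
    convert mul_mem (mul_mem k1 H) (inv_mem k1) using 1
    rw [conj_eich]
    refine isom_ext fun x => ?_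
    simp only [eich_apply, k2, map_zero, D.B_lin, c1, LinearMap.zero_apply]
    module
  have k2 : D.At X ⊥ e := by
    rintro _ rfl d' hd'
    have d2 : σ d' = -d' := eq_neg_of_add_eq_zero_right (by simpa using hd'.tr_d)
    have c1 : σ (d' / d) = d' / d := by simp [d1, d2]
    convert mul_mem (k1 ((d' / d + 1) / 2) (by simp [c1, map_ofNat, -map_div₀, map_div₀ σ _ 2]))
      (inv_mem (k1 ((d' / d - 1) / 2) (by simp [c1, map_ofNat, -map_div₀, map_div₀ σ _ 2]))) using 1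
    rw [eq_mul_inv_iff_mul_eq, eich_mul]
    exact D.eich_congr _ _ rfl (by simp) (by simp; field_simp; ring)
  obtain ⟨l, l1, -, s, s0, l2⟩ := h.trans he hf hQ hef.Q_f e0 hef.f_ne_zero
  have k3 : D.At X ⊥ f := At.of_smul (l2 ▸ k2.conj l1 fun z hz => by simpa using hz) s0
  obtain ⟨w, w1, w2, w3, w4⟩ := uo_weyl hef h.ω0 h.σω
  replace w1 := w1 X k2 k3
  refine h.no (At.E_le_of_map h.nd (at_of_zSet (he := hQ) k2 fun z _ hz => ?_) hQ w1 (by simp [w2, hef.B_ef, h.ω0]))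
  obtain ⟨u, hu, hv⟩ := hef.exists_comb z
  obtain ⟨a, a1, a', a2, a3, a4, rfl⟩ := h.hp_split he hf hu
  rw [hv, hz, zero_smul, add_zero]
  refine add_mem (smul_mem_zSet _ _) (add_mem (h.zs he hQ a3 (D.mem_hp.1 a1).1) ?_)
  obtain ⟨d', hd', H'⟩ := conj_mem_zSet (h.zs hf hef.Q_f a4 (D.mem_hp.1 a2).2) w1
  have h5 : D.IsEich e (σ (-ω) • a') (-ω * σ (-ω) * d') := by
    have := (hd'.smul_left (-ω)⁻¹).smul (σ (-ω))
    rwa [w3, w4 _ a2, inv_smul_smul₀ (neg_ne_zero.2 h.ω0), hc.σσ, mul_comm (σ _)] at this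
  have h6 := D.eich_smul_left (-ω) h5 (w3 ▸ w4 _ a2 ▸ hd')
  refine ⟨-ω * σ (-ω) * d', by simpa [h.σω] using h5, ?_⟩
  convert H' using 1
  refine Eq.trans (D.eich_congr _ h5 rfl (by simp [h.σω]) rfl) (h6.symm.trans (D.eich_congr _ _ w3.symm (w4 _ a2).symm rfl))

theorem zs_rat {e z : V} (he : τ e = e) (e0 : e ≠ 0) {hQ : D.Q e = 0} (hz : z ∈ zSet X e hQ) : τ z - z ∈ F ∙ e := by
  obtain ⟨a, b, ha, hb, rfl, h1⟩ := h.split z
  obtain ⟨h2, h3⟩ := h1 e he (perp_of_mem_zSet hz)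
  have h4 : ω • b ∈ zSet X e hQ := by simpa using sub_mem hz (h.zs he hQ ha h2)
  by_cases h5 : b ∈ F ∙ e
  · convert Submodule.smul_mem _ (-2 * ω) h5 using 1
    simp only [map_add, h.smul, ha, hb, h.σω]; module
  obtain ⟨y, y1, y2, y3⟩ := h.ex_B he h5
  have h6 := h.zs he hQ y1 y2
  have := h.no_tv he e0 ⟨hQ, by simp, by simp [D.B_lin, herm_symm, hc.σσ]⟩ (eich_zero_mem_of_zSet h6 h4 _)
  simp only [D.B_lin, h.σω, h.sym y1 hb] at this
  exact absurd (by linear_combination this) (mul_ne_zero (mul_ne_zero h.two h.ω0) y3)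

end Uo

end Cfsg.Lib.Forms
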