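import Cfsg.Agent.Lib.K4.Uo1

/-! Orthogonal subfield subgroups of `SU₄`. -/

set_option autoImplicit false
set_option linter.unusedSectionVars false

namespace Cfsg.Lib.Forms

open Module Form Herm

variable {F V : Type*} [Field F] [AddCommGroup V] [Module F V] [FiniteDimensional F V]
  {σ : F →+* F} {q : ℕ} {hc : IsConj σ q} {D : Form hc.kind V} {X : Subgroup D.isom} {τ : V →+ V} {ω : F}

namespace Uo

variable (h : Uo D X τ ω)
include h

theorem stab {g : D.isom} (hg : g ∈ X) {e : V} (he : τ e = e) (hQ : D.Q e = 0) (e0 : e ≠ 0) {l : F}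
    (hl : g.1 e = l • e) : ∃ η : F, ∀ v, τ (g.1 v) = η • g.1 (τ v) := by
  have := h.two
  obtain ⟨f, hf, hef⟩ := h.hyp he hQ e0
  have l0 : l ≠ 0 := by rintro rfl; exact e0 (by simpa using hl)
  have l1 : σ l ≠ 0 := (map_ne_zero σ).2 l0
  have fe : D.B f e = 1 := by rw [← herm_symm, hef.B_ef, map_one]
  have r0 : ∀ {z}, z ∈ D.hp e f → τ z - z ∈ F ∙ e → τ z = z := fun {z} hz H => by
    obtain ⟨c, h1⟩ := Submodule.mem_span_singleton.1 H
    have := (D.mem_hp.1 (h1 ▸ sub_mem (h.hp_τ he hf hz) hz : c • e ∈ D.hp e f)).2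
    rw [D.B_smul_right, fe, mul_one] at this
    rw [this, zero_smul] at h1
    exact sub_eq_zero.1 h1.symm
  have b1 : D.B e (σ l • g.1 f) = 1 := by rw [D.B_smul_right, ← D.B_smul_left, ← hl, B_isom, hef.B_ef]
  obtain ⟨w, hw, h1⟩ := hef.exists_comb (σ l • g.1 f)
  rw [b1, one_smul] at h1
  generalize hc.kind.ε * D.B f (σ l • g.1 f) = α at h1
  have w1 := D.mem_hp.1 hw
  have hE : D.IsEich e (-w) (-α) := ⟨hQ, by simp [w1.1], by
    have : D.Q (σ l • g.1 f) = 0 := D.Q_smul_of_Q (by rw [Q_isom, hef.Q_f]) _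
    rw [h1, herm_Q] at this
    simp only [D.B_lin, D.B_self_of_Q hQ, D.B_self_of_Q hef.Q_f, hef.B_ef, fe, w1.1, w1.2, D.eq_zero_symm w1.1,
      D.eq_zero_symm w1.2] at this
    rw [hermKind_tr, Q_neg, herm_Q, map_neg]
    linear_combination -this⟩
  obtain ⟨u, hu⟩ : ∃ u, u = D.eich _ _ _ hE := ⟨_, rfl⟩
  obtain ⟨g₁, rfl⟩ : ∃ g₁, g = u * g₁ := ⟨u⁻¹ * g, by simp⟩
  have ue : u.1 e = e := hu ▸ D.eich_apply_self hE
  have g1 : g₁.1 e = l • e := u.1.injective (by rw [map_smul, ue]; exact hl)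
  have g2 : g₁.1 f = (σ l)⁻¹ • f := u.1.injective (by
    rw [map_smul, eq_inv_smul_iff₀ l1, ← isom_mul_apply, h1, hu, eich_apply]
    simp only [D.B_lin, D.eq_zero_symm w1.2, hef.B_ef, hermKind_ε]
    module)
  have g3 : ∀ z ∈ D.hp e f, g₁.1 z ∈ D.hp e f := fun z hz => by
    rw [mem_hp] at hz ⊢
    have a := B_isom g₁ e z
    have b := B_isom g₁ f z
    rw [g1, D.B_smul_left, hz.1] at a
    rw [g2, D.B_smul_left, hz.2] at b
    exact ⟨(mul_eq_zero.1 a).resolve_left l1, (mul_eq_zero.1 b).resolve_left (by simp [hc.σσ, l0])⟩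
  have k1 : ∀ ν : F, ν ≠ 0 → σ ν = ν → ∃ k ∈ X, k.1 e = ν • e ∧ (∀ z ∈ D.hp e f, k.1 z = z) ∧ u * k * u⁻¹ ∈ X :=
    fun ν ν0 hν => by
    obtain ⟨k, k1, k2, k3, k4⟩ := h.dil he hf hef ν0 hν
    refine ⟨k, k1, k2, k4, ?_⟩
    have : g₁ * k = k * g₁ := isom_ext fun v => by
      obtain ⟨z, hz, hv⟩ := hef.exists_comb v
      rw [hv]
      simp only [isom_mul_apply, map_add, map_smul, k2, k3, g1, g2, k4 z hz, k4 _ (g3 z hz), smul_smul, mul_comm,
        mul_left_comm]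
    convert mul_mem (mul_mem hg k1) (inv_mem hg) using 1
    rw [mul_assoc u g₁, this]; group
  have w2 : τ w = w := by
    obtain ⟨k, k1, k2, k3, k4⟩ := k1 (-1) (by simp) (by simp)
    have h3 := mul_mem k4 (inv_mem k1)
    have hE' : D.IsEich e (-w) (σ (-α)) := ⟨hQ, hE.B_ez, by rw [← hE.tr_d]; simp [hc.σσ, add_comm]⟩
    have h4 : u * k * u⁻¹ * k⁻¹ = D.eich _ _ _ (hE.add hE') := by
      rw [← D.eich_mul hE hE', mul_assoc, mul_assoc, ← mul_assoc k, hu, eich_inv, conj_eich]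
      congr 1
      refine isom_ext fun x => ?_
      simp only [eich_apply, k2, neg_neg, k3 w hw, D.B_lin, hermKind_ε, map_neg, map_one, LinearMap.neg_apply]
      module
    have h5 := r0 (add_mem (neg_mem hw) (neg_mem hw)) (h.zs_rat he e0 (hQ := hQ) ⟨_, _, h4 ▸ h3⟩)
    rw [map_add, map_neg, ← two_smul F, ← two_smul F] at h5
    exact neg_injective (smul_right_injective V h.two h5)
  obtain ⟨hE0, u1, u2⟩ := h.isE (z := -w) he hQ (by rw [map_neg, w2]) hE.B_ez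
  have d1 : σ (-α - D.Q (-w) / 2) = -(-α - D.Q (-w) / 2) := by
    have := hE.tr_d
    rw [hermKind_tr] at this
    rw [map_sub, map_div₀, herm_σ_Q, map_ofNat]
    field_simp; linear_combination 2 * this
  have hT : D.IsEich e 0 (-α - D.Q (-w) / 2) := ⟨hQ, by simp, by rw [hermKind_tr, d1, add_neg_cancel]; simp⟩
  have u3 : u = D.eich _ _ _ hE0 * D.eich _ _ _ hT := by
    rw [eich_mul, hu]; exact D.eich_congr _ _ rfl (by simp) (by rw [map_zero]; ring)
  have d0 : -α - D.Q (-w) / 2 = 0 := by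
    obtain ⟨ν, n1, n2, n3⟩ := h.lam
    obtain ⟨k, k1, k2, k3, k4⟩ := k1 ν n2 n1
    generalize -α - D.Q (-w) / 2 = d at *
    have h3 : D.eich _ _ _ hT * k * (D.eich _ _ _ hT)⁻¹ * k⁻¹ ∈ X := by
      convert mul_mem (mul_mem (mul_mem (inv_mem u1) k4) u1) (inv_mem k1) using 1
      rw [u3]; group
    have hT' : D.IsEich e 0 ((1 - ν * ν) * d) := ⟨hQ, by simp, by simp [d1, n1]⟩
    have := h.no_tv he e0 hT' (by
      convert h3 using 1
      rw [mul_assoc, mul_assoc, ← mul_assoc k, eich_inv, conj_eich]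
      refine isom_ext fun x => ?_
      simp only [isom_mul_apply, eich_apply, k2, neg_zero, map_zero, D.B_lin, hermKind_ε, n1, d1,
        LinearMap.zero_apply, D.B_self_of_Q hQ]
      module)
    exact (mul_eq_zero.1 this).resolve_left (sub_ne_zero.2 n3.symm)
  replace u3 : u = D.eich _ _ _ hE0 := by
    rw [hu]; exact D.eich_congr _ _ rfl rfl (sub_eq_zero.1 d0)
  rw [← u3] at u1 u2
  have g4 : g₁ ∈ X := by simpa using mul_mem (inv_mem u1) hg
  have g5 : ∀ z ∈ D.hp e f, τ z = z → τ (g₁.1 z) = (σ l / l) • g₁.1 z := fun z hz z1 => by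
    have := r0 (Submodule.smul_mem _ _ (g3 z hz)) (h.zs_rat he e0 (map_mem_zSet (h.zs he hQ z1 (D.mem_hp.1 hz).1) g4 g1))
    rw [h.smul, hc.σσ] at this
    rw [div_eq_inv_mul, mul_smul, ← this, inv_smul_smul₀ l0]
  refine ⟨σ l / l, fun v => ?_⟩
  rw [isom_mul_apply, isom_mul_apply, u2, ← map_smul]
  congr 1
  obtain ⟨z, hz, hv⟩ := hef.exists_comb v
  obtain ⟨a, a1, a', a2, a3, a4, rfl⟩ := h.hp_split he hf hz
  rw [hv]
  simp only [map_add, map_smul, h.smul, g1, g2, g5 _ a1 a3, g5 _ a2 a4, he, hf, a3, a4, map_inv₀, hc.σσ]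
  match_scalars <;> field_simp

theorem stab' {g : D.isom} (hg : g ∈ X) {e : V} (he : τ e = e) (hQ : D.Q e = 0) (e0 : e ≠ 0) {η : F}
    (hl : τ (g.1 e) = η • g.1 e) : ∃ η : F, ∀ v, τ (g.1 v) = η • g.1 (τ v) := by
  have g0 := g.1.map_ne_zero_iff.2 e0
  obtain ⟨s, s0, hs⟩ := h.pt g0 hl
  obtain ⟨l, l1, l2, t, t0, l3⟩ := h.trans (x := s • g.1 e) (by rw [h.smul, hl, smul_smul, hs]) he
    (D.Q_smul_of_Q (by rw [Q_isom, hQ]) _) hQ (smul_ne_zero s0 g0) e0
  obtain ⟨η, H⟩ := h.stab (mul_mem l1 hg) he hQ e0 (l := s⁻¹ * t) (by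
    rw [isom_mul_apply, mul_smul, ← l3, map_smul, inv_smul_smul₀ s0])
  exact ⟨η, fun v => l.1.injective (by rw [← l2, map_smul]; exact H v)⟩

omit h in
variable (X τ) in
/-- The orbit of the rational singular points. -/
def Orb (y : V) : Prop := ∃ g ∈ X, ∃ e, τ e = e ∧ D.Q e = 0 ∧ ∃ s : F, y = s • g.1 e

omit h in
theorem Orb.map {y : V} (H : Orb X τ y) {g : D.isom} (hg : g ∈ X) : Orb X τ (g.1 y) :=
  let ⟨k, hk, e, h1, h2, s, h3⟩ := H
  ⟨g * k, mul_mem hg hk, e, h1, h2, s, by rw [h3, map_smul, isom_mul_apply]⟩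

theorem mover {y p : V} (H : Orb X τ y) (y0 : y ≠ 0) (h1 : D.B y p = 0) (h2 : p ∉ F ∙ y) :
    ∃ b : F, b ≠ 0 ∧ ∀ c, σ c = c → ∃ v ∈ X, v.1 y = y ∧ v.1 p = p + (c * b) • y := by
  obtain ⟨g, hg, e, he, hQ, s, rfl⟩ := H
  have s0 := left_ne_zero_of_smul y0
  obtain ⟨p, rfl⟩ := g.1.surjective p
  have h3 : D.B e p = 0 := by simpa [D.B_lin, s0] using h1
  obtain ⟨z, z1, z2, z3⟩ := h.ex_B he (p := p) fun H => h2 (by
    obtain ⟨c, rfl⟩ := Submodule.mem_span_singleton.1 H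
    exact Submodule.mem_span_singleton.2 ⟨c / s, by rw [map_smul, smul_smul, div_mul_cancel₀ _ s0]⟩)
  refine ⟨D.B z p / s, div_ne_zero z3 s0, fun c c1 => ?_⟩
  obtain ⟨hE, e1, -⟩ := h.isE (z := c • z) he hQ (by rw [h.smul, c1, z1]) (by simp [z2])
  refine ⟨_, mul_mem (mul_mem hg e1) (inv_mem hg), ?_, ?_⟩
  · simp only [isom_mul_apply, map_smul, isom_inv_apply, D.eich_apply_self hE]
  · simp only [isom_mul_apply, isom_inv_apply, D.eich_apply_of_perp hE h3, map_add, map_smul, D.B_smul_left, c1,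
      smul_smul]
    congr 2; field_simp

theorem reg {y e : V} (H : Orb X τ y) (he : τ e = e) (hQ : D.Q e = 0) (e0 : e ≠ 0) (h1 : D.B e y = 0) :
    D.B y (τ y) = 0 := by
  by_contra c0
  have qy : D.B y y = 0 := by
    obtain ⟨g, -, e, -, hQ, s, rfl⟩ := H
    exact D.B_self_of_Q (D.Q_smul_of_Q (by rw [Q_isom, hQ]) _)
  have h2 : D.B e (τ y) = 0 := by rw [h.B_rat he, h1, map_zero]
  have y0 : y ≠ 0 := by rintro rfl; simp at c0
  have c1 : σ (D.B y (τ y)) ≠ 0 := (map_ne_zero σ).2 c0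
  have c2 : D.B (τ y) y = σ (D.B y (τ y)) := (herm_symm _ _ _).symm
  have A : ∀ a : F, ∃ u ∈ X, u.1 e = e ∧ u.1 y = y + a • e := fun a => by
    obtain ⟨hE, e1, -⟩ := h.isE (z := (a / σ (D.B y (τ y))) • y + τ ((a / σ (D.B y (τ y))) • y)) he hQ
      (by rw [map_add, h.inv, add_comm]) (by simp [h.smul, h1, h2])
    refine ⟨_, e1, D.eich_apply_self hE, ?_⟩
    rw [D.eich_apply_of_perp hE h1, h.smul]
    simp only [D.B_lin, qy, c2, hc.σσ]
    congr 2; field_simp; ring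
  have W : ∀ b : F, b ≠ 0 → (∃ v ∈ X, v.1 y = y ∧ v.1 e = e + b • y) →
      ∃ w ∈ X, w.1 e = b • y ∧ w.1 y = -b⁻¹ • e := fun b b0 ⟨v, v1, v2, v3⟩ => by
    obtain ⟨u, u1, u2, u3⟩ := A (-b⁻¹)
    refine ⟨u * v * u, mul_mem (mul_mem u1 v1) u1, ?_, ?_⟩ <;>
      simp only [isom_mul_apply, map_add, map_smul, u2, u3, v2, v3] <;> match_scalars <;> field_simp <;> ring
  obtain ⟨b, b0, hb⟩ := h.mover H y0 (D.eq_zero_symm h1) fun H => by
    obtain ⟨c, rfl⟩ := Submodule.mem_span_singleton.1 H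
    have := congrArg (D.B y) he
    rw [h.smul, D.B_smul_right, D.B_smul_right, qy, mul_zero] at this
    exact mul_ne_zero ((map_ne_zero σ).2 (left_ne_zero_of_smul e0)) c0 this
  obtain ⟨w, w1, w2, w3⟩ := W b b0 (by simpa using hb 1 (map_one σ))
  have W' : ∀ b' : F, b' ≠ 0 → ∃ w ∈ X, w.1 e = b' • y ∧ w.1 y = -b'⁻¹ • e := fun b' b1 => W b' b1 (by
    obtain ⟨u, u1, u2, u3⟩ := A (-b' / b ^ 2)
    have i1 : (w⁻¹).1 y = b⁻¹ • e := w.1.injective (by rw [isom_apply_inv, map_smul, w2, inv_smul_smul₀ b0])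
    have i2 : (w⁻¹).1 e = -b • y := w.1.injective (by rw [isom_apply_inv, map_smul, w3, smul_smul]; simp [b0])
    refine ⟨w * u * w⁻¹, mul_mem (mul_mem w1 u1) (inv_mem w1), ?_, ?_⟩ <;>
      simp only [isom_mul_apply, map_add, map_smul, u2, u3, w2, w3, i1, i2] <;> match_scalars <;> field_simp <;> ring)
  obtain ⟨t, t0, ht⟩ := h.cub
  have t1 : σ t ≠ 0 := (map_ne_zero σ).2 t0
  obtain ⟨w, w1, w2, w3⟩ := W' 1 one_ne_zero
  obtain ⟨w', v1, v2, v3⟩ := W' (σ t) t1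
  have i1 : (w⁻¹).1 y = e := w.1.injective (by rw [isom_apply_inv, w2, one_smul])
  have i2 : (w⁻¹).1 e = -y := w.1.injective (by rw [isom_apply_inv, map_neg, w3]; simp)
  have k1 : (w' * w⁻¹).1 e = (σ t)⁻¹ • e := by rw [isom_mul_apply, i2, map_neg, v3]; simp
  have k2 : (w' * w⁻¹).1 y = σ t • y := by rw [isom_mul_apply, i1, v2]
  obtain ⟨η, hη⟩ := h.stab (mul_mem v1 (inv_mem w1)) he hQ e0 k1
  have a1 := hη e
  have a2 := congrArg (D.B ((w' * w⁻¹).1 y)) (hη y)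
  rw [he, k1, h.smul, he, smul_smul, map_inv₀, hc.σσ] at a1
  rw [D.B_smul_right, B_isom, k2, h.smul, D.B_smul_left, D.B_smul_right, hc.σσ] at a2
  have a3 := smul_left_injective F e0 a1
  have a4 : t * t = η := mul_right_cancel₀ c0 (by linear_combination a2)
  refine ht ?_
  rw [← a4] at a3
  field_simp at a3
  linear_combination -a3

theorem tot {x : V} (H : Orb X τ x) (x0 : x ≠ 0) (h1 : D.B x (τ x) = 0) : τ x ∈ F ∙ x := by
  by_contra h2
  have := h.two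
  have := h.ω0
  have qx : D.B x x = 0 := by
    obtain ⟨g, -, e, -, hQ, s, rfl⟩ := H
    exact D.B_self_of_Q (D.Q_smul_of_Q (by rw [Q_isom, hQ]) _)
  obtain ⟨b, b0, hb⟩ := h.mover H x0 h1 h2
  have b1 : σ b ≠ 0 := (map_ne_zero σ).2 b0
  obtain ⟨γ, γ0, hγ⟩ : ∃ γ : F, γ ≠ 0 ∧ γ ^ 2 * σ b + σ γ ^ 2 * b ≠ 0 := by
    by_cases h3 : σ b + b = 0
    · refine ⟨1 + ω, fun H => h.two ?_, fun H => mul_ne_zero (mul_ne_zero (mul_ne_zero h.two h.two) h.ω0) b0 ?_⟩
      · have := congrArg σ H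
        rw [map_add, map_one, h.σω, map_zero] at this
        linear_combination H + this
      · rw [map_add, map_one, h.σω] at H
        linear_combination (1 + ω) ^ 2 * h3 - H
    · exact ⟨1, one_ne_zero, by simpa using h3⟩
  have γ1 : σ γ ≠ 0 := (map_ne_zero σ).2 γ0
  obtain ⟨c, hc'⟩ : ∃ c, c = -(γ ^ 2 * σ b + σ γ ^ 2 * b) / (b * σ b * γ * σ γ) := ⟨_, rfl⟩
  have c1 : σ c = c := by simp only [hc', map_div₀, map_neg, map_add, map_mul, map_pow, hc.σσ]; ring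
  have c0 : c ≠ 0 := hc' ▸ div_ne_zero (neg_ne_zero.2 hγ) (by simp [b0, γ0])
  obtain ⟨v, v1, v2, v3⟩ := hb c c1
  have n : (γ + σ γ * (c * b)) * (σ γ + γ * (c * σ b)) = γ * σ γ := by rw [hc']; field_simp; ring
  have δ0 : γ + σ γ * (c * b) ≠ 0 := left_ne_zero_of_mul (n ▸ mul_ne_zero γ0 γ1)
  obtain ⟨η, hη⟩ := h.stab' v1 (e := γ • x + σ γ • τ x) (η := γ / (γ + σ γ * (c * b)))
    (by simp [h.smul, h.inv, hc.σσ, add_comm])
    (by rw [herm_Q]; simp [D.B_lin, qx, h1, D.eq_zero_symm h1, h.B])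
    (fun H => h2 (by
      rw [← Submodule.smul_mem_iff _ γ1, eq_neg_of_add_eq_zero_right H]
      exact neg_mem (Submodule.smul_mem _ _ (Submodule.mem_span_singleton_self x)))) (by
      simp only [map_add, map_smul, v2, v3, h.smul, h.inv, hc.σσ, map_mul, c1, smul_add]
      generalize hδ : γ + σ γ * (c * b) = δ at n δ0
      match_scalars
      · field_simp; linear_combination n
      · field_simp; linear_combination -hδ)
  have a := hη x
  rw [v2, v3] at a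
  by_cases e1 : η = 1
  · rw [e1, one_smul, left_eq_add] at a
    exact smul_ne_zero (mul_ne_zero c0 b0) x0 a
  refine h2 (Submodule.mem_span_singleton.2 ⟨η * (c * b) / (1 - η), ?_⟩)
  have : (1 - η) ≠ 0 := sub_ne_zero.2 (Ne.symm e1)
  rw [div_eq_inv_mul, mul_smul, inv_smul_eq_iff₀ this]
  linear_combination (norm := module) -a

theorem iso {e f : V} (he : τ e = e) (hf : τ f = f) (hef : D.IsHyp e f) :
    ∃ ζ ∈ D.hp e f, D.B ζ ζ = 0 ∧ D.B ζ (τ ζ) ≠ 0 := by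
  have := h.two
  have := h.ω0
  obtain ⟨z, z1, z2, z3⟩ := h.ns he hf hef
  obtain ⟨v, v1, v2, v3, v0⟩ : ∃ v ∈ D.hp e f, τ v = v ∧ D.B z v = 0 ∧ v ≠ 0 := by
    obtain ⟨v, v1, v0, v2⟩ := exists_ne_zero_kers (D.hp e f) [D.B z] (by
      have := hef.finrank_hp; have := h.four; simp; omega)
    obtain ⟨a, b, ha, hb, rfl, h1⟩ := h.split v
    rw [mem_hp] at v1
    have a1 := h1 e he v1.1
    have a2 := h1 f hf v1.2
    have a3 := h1 z z2 (v2 _ (by simp))
    by_cases a0 : a = 0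
    · exact ⟨b, D.mem_hp.2 ⟨a1.2, a2.2⟩, hb, a3.2, by rintro rfl; simp [a0] at v0⟩
    · exact ⟨a, D.mem_hp.2 ⟨a1.1, a2.1⟩, ha, a3.1, a0⟩
  rw [herm_Q] at z3
  have v4 : D.B v v ≠ 0 := fun H => by
    obtain ⟨u, u1, u2⟩ := hef.exists_B_ne_zero h.nd v1 v0
    obtain ⟨s, t, rfl⟩ := uo_two hef h.four z1 v1 (by rintro rfl; simp at z3) (fun H => by
      obtain ⟨c, rfl⟩ := Submodule.mem_span_singleton.1 H
      exact v0 (by simpa [z3, or_comm] using show c • z = 0 by simp [show c = 0 by simpa [z3] using v3])) u1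
    simp [D.B_lin, H, v3] at u2
  obtain ⟨s, hs, s1⟩ : ∃ s : F, s * σ s = -D.B v v / D.B z z ∧ σ s ≠ s := by
    obtain ⟨s, hs⟩ := hc.exists_norm_eq (a := -D.B v v / D.B z z) (by simp [herm_symm])
    by_cases s1 : σ s = s
    swap
    · exact ⟨s, hs, s1⟩
    have s0 : s ≠ 0 := by rintro rfl; exact div_ne_zero (neg_ne_zero.2 v4) z3 (by simpa using hs.symm)
    have o1 : 1 + ω ≠ 0 := fun H => h.two (by
      have := congrArg σ H
      rw [map_add, map_one, h.σω, map_zero] at this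
      linear_combination H + this)
    have o2 : 1 - ω ≠ 0 := fun H => h.two (by
      have := congrArg σ H
      rw [map_sub, map_one, h.σω, map_zero] at this
      linear_combination H + this)
    have o3 : σ (s * (1 + ω) / (1 - ω)) = s * (1 - ω) / (1 + ω) := by
      simp [s1, h.σω, sub_eq_add_neg]
    refine ⟨s * (1 + ω) / (1 - ω), by rw [o3, ← hs, s1]; field_simp, fun H => ?_⟩
    rw [o3] at H
    field_simp at H
    exact mul_ne_zero (mul_ne_zero h.two h.two) h.ω0 (by linear_combination -H)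
  have s0 : σ s ≠ 0 := fun H => s1 (by rw [H, (map_eq_zero σ).1 H])
  rw [eq_div_iff z3] at hs
  refine ⟨s • z + v, add_mem (Submodule.smul_mem _ _ z1) v1, ?_, fun H => ?_⟩
  · simp only [D.B_lin, v3, D.eq_zero_symm v3]; linear_combination hs
  · simp only [map_add, LinearMap.add_apply, h.smul, z2, v2, D.B_lin, v3, D.eq_zero_symm v3] at H
    exact mul_ne_zero (mul_ne_zero s0 z3) (sub_ne_zero.2 s1) (by linear_combination H - hs)

theorem flip {y : V} (qy : D.B y y = 0) (c0 : D.B y (τ y) ≠ 0) :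
    ∃ t ∈ X, t.1 y = -y ∧ ∀ z, D.B y z = 0 → D.B (τ y) z = 0 → t.1 z = z := by
  have hef : D.IsHyp y ((D.B y (τ y))⁻¹ • τ y) :=
    ⟨(herm_Q _ _).trans qy, D.Q_smul_of_Q (by rw [herm_Q, h.B, qy]) _, by simp [c0]⟩
  obtain ⟨k, k1, k2, k3, k4⟩ := uo_dil hef (ν := -1) (by simp) (by simp)
  have m : ∀ z, z ∈ D.hp y ((D.B y (τ y))⁻¹ • τ y) ↔ D.B y z = 0 ∧ D.B (τ y) z = 0 := fun z => by
    simp [mem_hp, D.B_lin, c0]
  have k5 : k.1 (τ y) = -τ y := smul_right_injective V (inv_ne_zero c0) (by simpa using k3)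
  refine ⟨k, h.mem k k1 fun v => ?_, by simpa using k2, fun z z1 z2 => k4 z ((m z).2 ⟨z1, z2⟩)⟩
  obtain ⟨w, hw, hv⟩ := hef.exists_comb v
  have w1 : τ w ∈ D.hp y ((D.B y (τ y))⁻¹ • τ y) := by
    rw [m] at hw ⊢
    exact ⟨by rw [← h.inv y, h.B, D.eq_zero_symm hw.2], by rw [h.B, D.eq_zero_symm hw.1]⟩
  rw [hv]
  simp only [map_add, map_smul, h.smul, k2, k5, k4 w hw, k4 _ w1, h.inv, map_neg, map_one, smul_neg, neg_smul, one_smul]

theorem all {e : V} (he : τ e = e) (hQ : D.Q e = 0) (e0 : e ≠ 0) {g : D.isom} (hg : g ∈ X) :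
    ∃ η : F, ∀ v, τ (g.1 v) = η • g.1 (τ v) := by
  have := h.two
  have O : Orb X τ (g.1 e) := ⟨g, hg, e, he, hQ, 1, by simp⟩
  have x0 := g.1.map_ne_zero_iff.2 e0
  by_cases c0 : D.B (g.1 e) (τ (g.1 e)) = 0
  · obtain ⟨η, hη⟩ := Submodule.mem_span_singleton.1 (h.tot O x0 c0)
    exact h.stab' hg he hQ e0 hη.symm
  exfalso
  obtain ⟨f, hf, hef⟩ := h.hyp he hQ e0
  obtain ⟨ζ, z1, z2, z3⟩ := h.iso he hf hef
  have z4 := (D.mem_hp.1 z1).1
  have qe := D.B_self_of_Q hQ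
  have fin : ∀ a μ : F, μ ≠ 0 → ¬ Orb X τ (g.1 (a • e + μ • ζ)) := fun a μ μ0 H => by
    have := h.reg (by simpa using H.map (inv_mem hg) : Orb X τ (a • e + μ • ζ)) he hQ e0 (by simp [qe, z4])
    simp [h.smul, he, D.B_lin, qe, h.B_rat he, z4, D.eq_zero_symm z4, μ0, z3] at this
  obtain ⟨x, hx⟩ : ∃ x, x = g.1 e := ⟨_, rfl⟩
  rw [← hx] at c0 O x0
  have qx : D.B x x = 0 := by rw [hx, B_isom, qe]
  have hxy : D.IsHyp x ((D.B x (τ x))⁻¹ • τ x) :=
    ⟨(herm_Q _ _).trans qx, D.Q_smul_of_Q (by rw [herm_Q, h.B, qx]) _, by simp [c0]⟩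
  have m : ∀ z, z ∈ D.hp x ((D.B x (τ x))⁻¹ • τ x) ↔ D.B x z = 0 ∧ D.B (τ x) z = 0 := fun z => by
    simp [mem_hp, D.B_lin, c0]
  obtain ⟨y, hy, h1⟩ := hxy.exists_comb (g.1 ζ)
  rw [show D.B x (g.1 ζ) = 0 by rw [hx, B_isom, z4], zero_smul, add_zero] at h1
  generalize hc.kind.ε * _ = a at h1
  have y1 := (m y).1 hy
  have h2 : ∀ κ μ : F, κ • x + μ • y = g.1 ((κ - μ * a) • e + μ • ζ) := fun κ μ => by
    rw [map_add, map_smul, map_smul, h1, ← hx]; module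
  have qy : D.B y y = 0 := by
    have := B_isom g ζ ζ
    simpa [h1, D.B_lin, qx, y1.1, D.eq_zero_symm y1.1, z2] using this
  have y2 : D.B x (τ y) = 0 ∧ D.B (τ x) (τ y) = 0 :=
    ⟨by rw [← h.inv x, h.B, D.eq_zero_symm y1.2], by rw [h.B, D.eq_zero_symm y1.1]⟩
  have y0 : y ≠ 0 := by
    rintro rfl
    refine fin (0 - 1 * a) 1 one_ne_zero ?_
    rw [← h2]; exact ⟨1, one_mem _, e, he, hQ, 0, by simp⟩
  by_cases C0 : D.B (τ y) y = 0
  · obtain ⟨η, hη⟩ : ∃ η : F, η • y = τ y := Submodule.mem_span_singleton.1 (by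
      by_contra H
      obtain ⟨u, u1, u2⟩ := hxy.exists_B_ne_zero h.nd hy y0
      obtain ⟨s, t, rfl⟩ := uo_two hxy h.four hy ((m _).2 y2) y0 H u1
      simp [D.B_lin, qy, C0] at u2)
    obtain ⟨s, s0, hs⟩ := h.pt y0 hη.symm
    refine fin (0 - s * a) s s0 ?_
    rw [← h2]
    exact ⟨1, one_mem _, s • y, by rw [h.smul, ← hη, smul_smul, hs], D.Q_smul_of_Q ((herm_Q _ _).trans qy) _, 1,
      by simp [isom_one_apply]⟩
  have A0 : D.B (τ x) x ≠ 0 := D.ne_zero_symm c0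
  obtain ⟨s, s0, s1⟩ : ∃ s : F, s ≠ 0 ∧ D.B (τ y) y + D.B (τ x) x * (s * s) ≠ 0 := by
    obtain ⟨l, -, l0, l1⟩ := h.lam
    by_contra! H
    exact mul_ne_zero A0 (sub_ne_zero.2 l1) (by linear_combination H l l0 - H 1 one_ne_zero)
  obtain ⟨κ, μ, μ0, κ1, hκ⟩ : ∃ κ μ : F, μ ≠ 0 ∧ 1 - κ ≠ 0 ∧
      (1 - κ) * (1 + κ) * D.B (τ x) x = μ * μ * D.B (τ y) y := by
    generalize hN : D.B (τ y) y + D.B (τ x) x * (s * s) = N at s1
    refine ⟨1 - 2 * D.B (τ x) x * (s * s) / N, 2 * s * D.B (τ x) x / N, by simp [h.two, s0, A0, s1],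
      by simp [h.two, s0, A0, s1], ?_⟩
    field_simp
    rw [← hN]; ring
  obtain ⟨t, t1, t2, t3⟩ := h.flip (y := (1 - κ) • x - μ • y)
    (by simp [D.B_lin, qx, qy, y1.1, D.eq_zero_symm y1.1]) (D.ne_zero_symm fun H => by
      simp only [map_sub, LinearMap.sub_apply, map_one, h.smul, D.B_lin, hc.σσ, y1.2, D.eq_zero_symm y2.1] at H
      exact mul_ne_zero (mul_ne_zero h.two κ1) A0 (by linear_combination H + hκ))
  have t4 := t3 ((1 + κ) • x + μ • y) (by simp [D.B_lin, qx, qy, y1.1, D.eq_zero_symm y1.1]) (by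
    simp only [map_sub, LinearMap.sub_apply, map_one, h.smul, D.B_lin, hc.σσ, y1.2, D.eq_zero_symm y2.1]
    linear_combination hκ)
  refine fin (κ - μ * a) μ μ0 ?_
  rw [← h2]
  convert O.map t1 using 1
  simp only [map_add, map_sub, map_smul] at t2 t4
  refine smul_right_injective V h.two ?_
  linear_combination (norm := module) -t2 - t4

end Uo

open Cfsg.Geo Matrix in
theorem su4_quad {F : Type*} [Field F] [Fintype F] (q : ℕ) (hF : Fintype.card F = q ^ 2) : Odd q → 5 ≤ q →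
    ∀ (F₀ : Subfield F) (P : GL (Fin 4) F), Fintype.card F = Nat.card F₀ ^ 2 →
      IsFormRationalStructure (hermForm 4 F q) F₀ 1 P → IsMaximalIn (GU 4 F q ⊓ specialLinear (Fin 4) F)
        (subfieldSubgroup F₀ P ⊓ (GU 4 F q ⊓ specialLinear (Fin 4) F)) := by
  intro hodd h5 k P hcard hP
  obtain ⟨σ, hc⟩ := isConj_of_card hF
  have h2 := two_ne_zero_of_odd_card hF hodd.pow
  have hk := hc.mem_iff_fixed (Nat.card_eq_fintype_card.trans hcard)
  obtain ⟨ω, h3, h4⟩ := hc.exists_trace_zero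
  replace h4 := eq_neg_of_add_eq_zero_right h4
  generalize hb : colBasis P = b
  have hB : ∀ x ∈ rat k b, ∀ y ∈ rat k b, (stdHerm hc (Fin 4)).B x y ∈ k := fun x hx y hy => by
    rw [← hb] at hx hy
    obtain ⟨u, hu, rfl⟩ := (mem_rat_colBasis _ _).1 hx
    obtain ⟨v, hv, rfl⟩ := (mem_rat_colBasis _ _).1 hy
    have := hP v u hv hu
    rwa [one_mul, hermForm_eq hc] at this
  generalize hD : stdHerm hc (Fin 4) = D at hB
  have nd : D.Nondeg := hD ▸ stdHerm_nondeg hc _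
  let τ := pr b σ.toAddMonoidHom
  have hτ : ∀ v, v ∈ rat k b ↔ τ v = v := fun v =>
    ⟨pr_of_mem fun a ha => (hk a).1 ha, fun H i => (hk _).2 (by simpa [τ] using congrArg (b.repr · i) H)⟩
  have t1 : ∀ (c : F) x, τ (c • x) = σ c • τ x := fun c x => b.repr.injective (by ext i; simp [τ])
  have t2 : ∀ x, τ (τ x) = x := fun x => b.repr.injective (by ext i; simp [τ, hc.σσ])
  have t0 : ∀ i, τ (b i) = b i := fun i => (hτ _).1 fun j => by
    classical
    rw [b.repr_self, Finsupp.single_apply]; split_ifs; exacts [one_mem _, zero_mem _]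
  have t3 : ∀ x y, D.B (τ x) (τ y) = D.B y x := fun x y => by
    have : ∀ i j, D.B (b i) (b j) = D.B (b j) (b i) := fun i j => by
      rw [← herm_symm, (hk _).1 (hB _ ((hτ _).2 (t0 _)) _ ((hτ _).2 (t0 _)))]
    rw [← b.sum_repr x, ← b.sum_repr y]
    simp only [Fin.sum_univ_four, map_add, LinearMap.add_apply, t1, t0, D.B_lin, hc.σσ, this 1 0, this 2 0, this 3 0, this 2 1, this 3 1,
      this 3 2]
    ring
  obtain ⟨e, -, he, e0, hQ⟩ := sing_of_quad (D := D) (k := k) (b := b) (ζ := 1) (k' := k)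
    (fun a ha => ⟨ha, (hk a).1 ha, fun c => by simp [(hk a).1 ha, mul_add]⟩) one_ne_zero
    (fun x hx => by simpa [herm_Q] using hB x hx x hx) ⊤ ratSub_top (by simp)
  rw [hτ] at he
  obtain ⟨g₀, hg₀⟩ := IsCyclic.exists_ofOrder_eq_natCard (α := Fˣ)
  rw [Nat.card_units, hc.card] at hg₀
  have ord : ∀ n, 0 < n → n < q ^ 2 - 1 → (g₀ : F) ^ n ≠ 1 := fun n h0 h1 H =>
    pow_ne_one_of_lt_orderOf h0.ne' (hg₀ ▸ h1) (Units.ext (by simpa using H))
  have U : ∀ X : Subgroup D.isom, D.E ⊓ D.ratS k b ≤ X → ¬ D.E ≤ X → Uo D X τ ω := fun X hX no =>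
    ⟨nd, by simp, h2, h3, h4, t1, t2, t3, ⟨g₀ * σ g₀, by simp [hc.σσ, mul_comm], by simp, by
      rw [hc.norm_eq, ← pow_add]
      exact ord _ (by omega) (by rw [Nat.lt_sub_iff_add_lt]; nlinarith)⟩, ⟨g₀, by simp, fun H => by
        rw [hc.apply, show q = 3 + (q - 3) by omega, pow_add, left_eq_mul₀ (by simp)] at H
        exact ord _ (by omega) (by rw [Nat.lt_sub_iff_add_lt]; have : q - 3 ≤ q := Nat.sub_le _ _; nlinarith) H⟩,
      fun g hg H => hX ⟨hg, 1, one_ne_zero, fun x hx => (hτ _).2 (by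
        simpa [(hτ x).1 hx] using H x)⟩, no⟩
  have hno : ¬ D.E ≤ D.ratS k b := fun H => by
    obtain ⟨f, -, hf⟩ := nd.exists_hyperbolic hQ e0
    have hE : D.IsEich e 0 ω := ⟨hQ, by simp, by simp [h4]⟩
    obtain ⟨c, c0, H⟩ := H (eich_mem_E _ _ _ hE)
    have a : ∀ x, τ x = x → τ (c • (x - (D.B e x * ω) • e)) = c • (x - (D.B e x * ω) • e) := fun x hx => by
      simpa [eich_apply, smul_smul] using (hτ _).1 (H x ((hτ x).2 hx))
    have a1 := a e he
    rw [D.B_self_of_Q hQ, zero_mul, zero_smul, sub_zero, t1, he] at a1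
    replace a1 := smul_left_injective F e0 a1
    have a2 : ∀ i, D.B e (b i) = 0 := fun i => by
      have a3 := a _ (t0 i)
      have a4 := (hk _).1 (hB _ ((hτ _).2 he) _ ((hτ _).2 (t0 i)))
      simp only [t1, map_sub, t0, he, map_mul, a4, h4, show σ c = c from a1] at a3
      have a5 : (c * (2 * ω * D.B e (b i))) • e = 0 := by linear_combination (norm := module) a3
      simpa [c0, h2, h3, e0] using a5
    rw [← b.sum_repr f, map_sum] at hf
    simp only [map_smul, a2, smul_zero, Finset.sum_const_zero] at hf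
    exact zero_ne_one hf
  subst hb hD
  refine isMaximalIn_map (su_eq hc (by omega)) (comap_subfieldSubgroup' _ _ _) hno fun X hX hX' => ?_
  by_contra no
  have h := U X hX no
  refine hX' fun g hg => ?_
  obtain ⟨η, hη⟩ := h.all he hQ e0 hg
  obtain ⟨s, s0, hs⟩ := h.pt (v := g.1 e) (η := η) (g.1.map_ne_zero_iff.2 e0) (by rw [hη, he])
  exact ⟨s, s0, fun x hx => (hτ _).2 (by
    change τ (s • g.1 x) = s • g.1 x
    rw [t1, hη, (hτ x).1 hx, smul_smul, hs])⟩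

end Cfsg.Lib.Forms
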